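import Groth.Agent.Lib.Synt92.CubeComp
import Groth.Agent.Lib.Koszul.Basic
import Mathlib.RingTheory.Flat.FaithfullyFlat.Basic
import Mathlib.RingTheory.RingHom.Flat

/-! Acyclicity in the cube model: bridge, changes of generators, descent. -/

set_option autoImplicit false

universe u

open CategoryTheory CategoryTheory.Limits
open scoped TensorProduct

namespace Groth.Agent.Lib.Synt92.CubeBase

open Groth.Agent.Lib.TorObstruction.Cube Groth.Agent.Lib.Wiebe.Exterior Groth.Agent.Lib.Wiebe.Link

variable {A : Type u} [CommRing A] {n : ℕ}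

/-- Acyclicity in the cube model is Koszul regularity. -/
theorem isKoszulRegularSeq_of_acyc (f : Fin n → A) (hf : Acyc f) :
    LCI.IsKoszulRegularSeq A (List.ofFn f) := by
  obtain ⟨θ, hd, hs, hk⟩ := Wiebe.Bridge.exists_comparison n f
  intro i hi
  let K := Koszul.koszul A (List.ofFn f)
  refine (K.exactAt_iff_isZero_homology i).1 ?_
  rw [K.exactAt_iff' (i - 1) i (i + 1) (Koszul.Cone.prev_up i) (Koszul.Cone.next_up i),
    ShortComplex.moduleCat_exact_iff]
  intro y hy
  change K.d i (i + 1) y = 0 at hy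
  obtain ⟨z, rfl⟩ := hs i y
  rw [hd] at hy
  by_cases hpos : 0 < i
  · refine ⟨0, ?_⟩
    rw [map_zero]
    exact ((hk i z).2 fun b hb => absurd hb (by omega)).symm
  · obtain ⟨d, hd'⟩ : ∃ d : ℕ, i = -((d : ℤ) + 1) := ⟨(-i - 1).toNat, by omega⟩
    have h1 : opI f (P (d + 1) z) = 0 := by
      rw [← P_opI]
      funext b
      rw [P_apply]
      split_ifs with hb
      · exact (hk (i + 1) _).1 hy b (by omega)
      · rfl
    have h2 : P (d + 1) z (O n) = 0 := by rw [P_apply, wt_O, if_neg (by omega)]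
    obtain ⟨w, hw⟩ := hf _ h1 h2
    refine ⟨θ (i - 1) w, ?_⟩
    change K.d (i - 1) i (θ (i - 1) w) = θ i z
    have h3 := hd (i - 1) w
    rw [sub_add_cancel, hw] at h3
    rw [show K.d (i - 1) i (θ (i - 1) w) = θ i (P (d + 1) z) from h3, ← sub_eq_zero, ← map_sub, hk]
    intro b hb
    rw [Pi.sub_apply, P_apply, if_pos (by omega), sub_self]

theorem isKoszulRegularSeq_iff (f : Fin n → A) :
    LCI.IsKoszulRegularSeq A (List.ofFn f) ↔ Acyc f :=
  ⟨Wiebe.Bridge.acyc_of_isKoszulRegularSeq f, isKoszulRegularSeq_of_acyc f⟩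

/-- Weakly regular sequences are acyclic. -/
theorem acyc_of_isWeaklyRegular (f : Fin n → A)
    (hf : RingTheory.Sequence.IsWeaklyRegular A (List.ofFn f)) : Acyc f :=
  Wiebe.Bridge.acyc_of_isKoszulRegularSeq f fun i hi =>
    IsZero.of_iso (Koszul.Basic.isZero_of_weaklyRegular (ModuleCat.of A A) (List.ofFn f) hf i hi)
      (Koszul.Basic.koszulHomologyIso (List.ofFn f) i)

/-- Coefficients of relations lie in the ideal. -/
theorem mem_span_of_relation {f : Fin n → A} (hf : Acyc f) {c : Fin n → A} (hc : ∑ i, c i * f i = 0)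
    (i : Fin n) : c i ∈ Ideal.span (Set.range f) := by
  obtain ⟨w, hw⟩ := hf (opE c (delta A n)) (by
    have h := opI_opE f c (delta A n)
    rw [opI_delta, map_zero, add_zero, hc, zero_smul] at h
    exact h) (opE_apply_O _ _)
  rw [← KoszulH1.opE_delta_ev c i, ← hw]
  exact opI_mem f w _

theorem acyc_flat_ringHom {B : Type u} [CommRing B] (φ : A →+* B) (hφ : φ.Flat) (f : Fin n → A)
    (hf : Acyc f) : Acyc (φ ∘ f) := by
  letI := φ.toAlgebra
  haveI : Module.Flat A B := hφ
  exact Wiebe.Bridge.acyc_flat f hf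

/-- Acyclicity descends along faithfully flat maps. -/
theorem acyc_of_faithfullyFlat {B : Type u} [CommRing B] [Algebra A B] [Module.FaithfullyFlat A B]
    (f : Fin n → A) (hf : Acyc fun i => algebraMap A B (f i)) : Acyc f := by
  intro z hz hzO
  let fB : Fin n → B := fun i => algebraMap A B (f i)
  let E : B ⊗[A] V A n ≃ₗ[B] V B n := TensorProduct.piScalarRight A B B (Fin n → Bool)
  have hE : ∀ (s : B) (v : V A n), E (s ⊗ₜ v) = s • (algebraMap A B ∘ v) := fun s v => by
    funext b
    simp [E, Algebra.smul_def, mul_comm]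
  have hI : ∀ x, opI fB (E x) = E ((opI f).lTensor B x) := by
    intro x
    induction x using TensorProduct.induction_on with
    | zero => simp
    | tmul s v =>
        rw [LinearMap.lTensor_tmul, hE, hE, map_smul]
        congr 1
        exact Wiebe.Bridge.opI_map (algebraMap A B) f v
    | add x y hx hy => simp only [map_add, hx, hy]
  obtain ⟨w, hw⟩ := hf (algebraMap A B ∘ z)
    (by
      change opI (algebraMap A B ∘ f) (algebraMap A B ∘ z) = 0
      rw [Wiebe.Bridge.opI_map, hz]
      funext b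
      simp)
    (by rw [Function.comp_apply, hzO, map_zero])
  have h1 : (1 : B) ⊗ₜ[A] z = (opI f).lTensor B (E.symm w) := by
    apply E.injective
    rw [← hI, E.apply_symm_apply, hE, one_smul]
    exact hw.symm
  have h2 : (1 : B) ⊗ₜ[A] (LinearMap.range (opI f)).mkQ z = 0 := by
    have := congrArg ((LinearMap.range (opI f)).mkQ.lTensor B) h1
    rw [LinearMap.lTensor_tmul, ← LinearMap.lTensor_comp_apply,
      show (LinearMap.range (opI f)).mkQ.comp (opI f) = 0 from LinearMap.range_mkQ_comp _,
      LinearMap.lTensor_zero, LinearMap.zero_apply] at this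
    exact this
  have h3 := Module.FaithfullyFlat.tensorProduct_mk_injective (A := A) (B := B)
    (V A n ⧸ LinearMap.range (opI f)) (h2.trans (TensorProduct.tmul_zero _ _).symm)
  exact (Submodule.Quotient.mk_eq_zero _).1 h3

theorem Φ_opE {m : ℕ} : ∀ {k : ℕ} (d : Fin k → Fin m → A) (r : Fin k → A) (w : V A k),
    Φ d (opE r w) = opE (∑ i, r i • d i) (Φ d w)
  | 0, d, r, w => by simp [opE, opE_zero]
  | k + 1, d, r, w => by
    have hr : (∑ i, r i • d i) = r 0 • d 0 + ∑ i, Fin.tail r i • Fin.tail d i := Fin.sum_univ_succ _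
    have hanti := opE_anticomm (∑ i, Fin.tail r i • Fin.tail d i) (d 0) (Φ (Fin.tail d) (face true w))
    rw [Φ, hr]
    simp only [LinearMap.add_apply, LinearMap.comp_apply, face_opE_false, face_opE_true, map_sub,
      map_smul, map_add, Φ_opE (Fin.tail d) (Fin.tail r), opE_add, opE_smul, opE_opE, smul_zero,
      add_zero, zero_add]
    rw [hanti]
    module

theorem Φ_Φ {l m : ℕ} (d : Fin l → Fin m → A) : ∀ {k : ℕ} (c : Fin k → Fin l → A) (w : V A k),
    Φ d (Φ c w) = Φ (fun i => ∑ j, c i j • d j) w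
  | 0, c, w => by simp [Φ, Φ_delta]
  | k + 1, c, w => by
    have ht : Fin.tail (fun i => ∑ j, c i j • d j) = fun i => ∑ j, Fin.tail c i j • d j := rfl
    simp only [Φ, LinearMap.add_apply, LinearMap.comp_apply, map_add, Φ_opE, Φ_Φ d (Fin.tail c), ht]

theorem face_Φ_shift {m : ℕ} : ∀ {k : ℕ} (c : Fin k → Fin m → A) (w : V A k),
    face false (Φ (fun i => (Fin.cons 0 (c i) : Fin (m + 1) → A)) w) = Φ c w ∧
      face true (Φ (fun i => (Fin.cons 0 (c i) : Fin (m + 1) → A)) w) = 0
  | 0, c, w => by simp [Φ, face_delta_false, face_delta_true]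
  | k + 1, c, w => by
    have ht : Fin.tail (fun i => (Fin.cons 0 (c i) : Fin (m + 1) → A)) =
      fun i => (Fin.cons 0 (Fin.tail c i) : Fin (m + 1) → A) := rfl
    have h0 := face_Φ_shift (Fin.tail c) (face false w)
    have h1 := face_Φ_shift (Fin.tail c) (face true w)
    simp only [Φ, LinearMap.add_apply, LinearMap.comp_apply, map_add, ht, face_opE_false, face_opE_true,
      Fin.tail_cons, Fin.cons_zero, h0.1, h0.2, h1.1, h1.2, zero_smul, map_zero, sub_zero, add_zero, and_self]

theorem Φ_single : ∀ (m : ℕ) (w : V A m), Φ (fun i : Fin m => (Pi.single i 1 : Fin m → A)) w = w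
  | 0, w => funext fun b => by rw [Subsingleton.elim b (O 0)]; simp [Φ, delta]
  | m + 1, w => by
    have ht : Fin.tail (fun i : Fin (m + 1) => (Pi.single i 1 : Fin (m + 1) → A)) =
        fun i : Fin m => (Fin.cons 0 (Pi.single i 1 : Fin m → A) : Fin (m + 1) → A) := by
      funext i j
      refine Fin.cases ?_ (fun j => ?_) j
      · simp [Fin.tail, Fin.succ_ne_zero]
      · simp [Fin.tail, Pi.single_apply]
    have e0 : Fin.tail (Pi.single (0 : Fin (m + 1)) 1 : Fin (m + 1) → A) = 0 := by
      funext j; simp [Fin.tail, Fin.succ_ne_zero]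
    have h0 := face_Φ_shift (fun i : Fin m => (Pi.single i 1 : Fin m → A)) (face false w)
    have h1 := face_Φ_shift (fun i : Fin m => (Pi.single i 1 : Fin m → A)) (face true w)
    rw [Φ_single m] at h0 h1
    refine ext_face ?_ ?_ <;>
      simp only [Φ, LinearMap.add_apply, LinearMap.comp_apply, map_add, ht, face_opE_false,
        face_opE_true, e0, opE_zero, h0.1, h0.2, h1.1, h1.2, Pi.single_eq_same, one_smul, sub_zero,
        map_zero, add_zero, zero_add]

/-- An invertible change of generators keeps acyclicity. -/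
theorem acyc_matrix {k : ℕ} (f : Fin n → A) (F : Fin k → A) (c : Fin k → Fin n → A)
    (d : Fin n → Fin k → A) (hF : ∀ i, F i = ∑ j, c i j * f j) (hf : ∀ i, f i = ∑ j, d i j * F j)
    (hcd : ∀ i, (∑ j, c i j • d j) = Pi.single i 1) (hA : Acyc f) : Acyc F := by
  intro z hz hzO
  obtain ⟨w, hw⟩ := hA (Φ c z)
    (by rw [opI_Φ, show (fun i => ∑ j, c i j * f j) = F from funext fun i => (hF i).symm, hz, map_zero])
    (by rw [Φ_apply_O, hzO])
  refine ⟨Φ d w, ?_⟩
  rw [opI_Φ, show (fun i => ∑ j, d i j * F j) = f from funext fun i => (hf i).symm, hw, Φ_Φ,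
    show (fun i => ∑ j, c i j • d j) = fun i => (Pi.single i 1 : Fin k → A) from funext hcd, Φ_single]

end Groth.Agent.Lib.Synt92.CubeBase
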