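import Groth.Agent.Lib.Synt92.KRSmooth
import Groth.Prelude.Def_RegImm
import Mathlib.AlgebraicGeometry.Morphisms.ClosedImmersion
import Mathlib.AlgebraicGeometry.Morphisms.Immersion
import Mathlib.AlgebraicGeometry.Morphisms.Smooth

/-! Koszul-regular immersions in affine charts. -/

set_option autoImplicit false

universe u

open CategoryTheory AlgebraicGeometry

namespace Groth.Agent.Lib.Synt92.KRImm

open KRLoc

variable {Z X Y : Scheme.{u}}

/-- Membership in a basic open through the prime of the point. -/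
theorem mem_basicOpen_iff {U : X.Opens} (hU : IsAffineOpen U) (f : Γ(X, U)) (x : U) :
    (x : X) ∈ X.basicOpen f ↔ f ∉ (hU.primeIdealOf x).asIdeal := by
  have h : hU.primeIdealOf x ∈ hU.fromSpec ⁻¹ᵁ X.basicOpen f ↔ (x : X) ∈ X.basicOpen f := by
    change hU.fromSpec (hU.primeIdealOf x) ∈ X.basicOpen f ↔ _
    rw [hU.fromSpec_primeIdealOf]
  rw [← h, hU.fromSpec_preimage_basicOpen]
  exact Iff.rfl

theorem closed_of_le (i : Z ⟶ X) {U V : X.Opens} (h : V ≤ U) (hcl : IsClosedImmersion (i ∣_ U)) :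
    IsClosedImmersion (i ∣_ V) := by
  have h1 : IsClosedImmersion (i ∣_ U ∣_ (U.ι ⁻¹ᵁ V)) := IsZariskiLocalAtTarget.restrict hcl _
  have h2 := (MorphismProperty.arrow_mk_iso_iff @IsClosedImmersion (morphismRestrictRestrict i U (U.ι ⁻¹ᵁ V))).1 h1
  have e : U.ι ''ᵁ (U.ι ⁻¹ᵁ V) = V := (U.ι.image_preimage_eq_opensRange_inf V).trans (by
    rw [Scheme.Opens.opensRange_ι, inf_eq_right.2 h])
  exact (MorphismProperty.arrow_mk_iso_iff @IsClosedImmersion (morphismRestrictEq i e)).1 h2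

/-- An immersion is closed on small opens around the image. -/
theorem exists_closed_chart (i : Z ⟶ X) [IsImmersion i] (z : Z) {O : X.Opens} (hz : i z ∈ O) :
    ∃ U : X.affineOpens, i z ∈ U.1 ∧ U.1 ≤ O ∧ IsClosedImmersion (i ∣_ U.1) := by
  have hzc : i z ∈ i.coborderRange := subset_coborder ⟨z, rfl⟩
  obtain ⟨U, hU, hzU, hUO⟩ := exists_isAffineOpen_mem_and_subset (x := i z) (U := O ⊓ i.coborderRange) ⟨hz, hzc⟩
  refine ⟨⟨U, hU⟩, hzU, fun x hx => (hUO hx).1, closed_of_le i (fun x hx => (hUO hx).2) ?_⟩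
  have h1 : IsPullback (𝟙 Z) i.liftCoborder i i.coborderRange.ι :=
    ⟨⟨by rw [Category.id_comp, i.liftCoborder_ι]⟩, ⟨Limits.PullbackCone.IsLimit.mk _
      (fun s => s.fst) (fun s => Category.comp_id _)
      (fun s => (cancel_mono i.coborderRange.ι).1 (by
        rw [Category.assoc, i.liftCoborder_ι, s.condition]))
      (fun s m hm _ => by simpa using hm)⟩⟩
  let e := IsPullback.isoIsPullback _ _ (isPullback_morphismRestrict i i.coborderRange).flip h1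
  have he : i ∣_ i.coborderRange = e.hom ≫ i.liftCoborder :=
    (IsPullback.isoIsPullback_hom_snd _ _ (isPullback_morphismRestrict i i.coborderRange).flip h1).symm
  rw [he]
  exact (MorphismProperty.cancel_left_of_respectsIso @IsClosedImmersion e.hom i.liftCoborder).2 inferInstance

theorem isAffine_preimage (i : Z ⟶ X) {U : X.Opens} (hU : IsAffineOpen U)
    (hcl : IsClosedImmersion (i ∣_ U)) : IsAffineOpen (i ⁻¹ᵁ U) ∧ Function.Surjective (i.app U).hom := by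
  haveI : IsAffine U.toScheme := hU
  have h1 : IsAffine (i ⁻¹ᵁ U).toScheme ∧ Function.Surjective ((i ∣_ U).appTop).hom :=
    (HasAffineProperty.iff_of_isAffine (P := @IsClosedImmersion)).1 hcl
  refine ⟨h1.1, ?_⟩
  have h2 := h1.2
  rw [morphismRestrict_appTop] at h2
  erw [CommRingCat.hom_comp, RingHom.coe_comp] at h2
  have h3 : Function.Surjective (i.app (U.ι ''ᵁ ⊤)).hom := by
    refine (Function.Surjective.of_comp_iff' ?_ _).1 h2
    exact ConcreteCategory.bijective_of_isIso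
      (Z.presheaf.map (eqToHom (image_morphismRestrict_preimage i U ⊤)).op)
  rwa [U.ι_image_top] at h3

theorem ker_app_basicOpen (i : Z ⟶ X) {U : X.Opens} (hU : IsAffineOpen U)
    (hcl : IsClosedImmersion (i ∣_ U)) (g : Γ(X, U)) :
    RingHom.ker (i.app (X.basicOpen g)).hom =
      (RingHom.ker (i.app U).hom).map (X.presheaf.map (homOfLE (X.basicOpen_le g)).op).hom := by
  obtain ⟨hW, -⟩ := isAffine_preimage i hU hcl
  haveI := hU.isLocalization_basicOpen g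
  have hpre : i ⁻¹ᵁ X.basicOpen g = Z.basicOpen ((i.app U).hom g) := Scheme.preimage_basicOpen i g
  letI : Algebra Γ(Z, i ⁻¹ᵁ U) Γ(Z, i ⁻¹ᵁ X.basicOpen g) :=
    (Z.presheaf.map (homOfLE (i.preimage_mono (X.basicOpen_le g))).op).hom.toAlgebra
  haveI : IsLocalization ((Submonoid.powers g).map (i.app U).hom) Γ(Z, i ⁻¹ᵁ X.basicOpen g) := by
    rw [Submonoid.map_powers]
    exact hW.isLocalization_of_eq_basicOpen _ (homOfLE (i.preimage_mono (X.basicOpen_le g))) hpre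
  have hmap : (i.app (X.basicOpen g)).hom = IsLocalization.map (M := Submonoid.powers g)
      (S := Γ(X, X.basicOpen g)) (T := (Submonoid.powers g).map (i.app U).hom)
      Γ(Z, i ⁻¹ᵁ X.basicOpen g) (i.app U).hom (Submonoid.le_comap_map _) :=
    IsLocalization.ringHom_ext (Submonoid.powers g) (RingHom.ext fun r => by
      rw [RingHom.comp_apply, RingHom.comp_apply, IsLocalization.map_eq]
      exact congrArg (fun φ : Γ(X, U) ⟶ Γ(Z, i ⁻¹ᵁ X.basicOpen g) => φ.hom r)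
        (i.naturality (homOfLE (X.basicOpen_le g)).op))
  rw [hmap]
  exact IsLocalization.ker_map (S := Γ(X, X.basicOpen g)) Γ(Z, i ⁻¹ᵁ X.basicOpen g) (i.app U).hom rfl

/-- The chart condition at a point. -/
def GenAt (n : ℕ) (i : Z ⟶ X) {U : X.Opens} (hU : IsAffineOpen U) (z : Z) (hz : i z ∈ U) : Prop :=
  GenLoc n (RingHom.ker (i.app U).hom) (hU.primeIdealOf ⟨i z, hz⟩).asIdeal

theorem genAt_basicOpen (n : ℕ) (i : Z ⟶ X) {U : X.Opens} (hU : IsAffineOpen U)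
    (hcl : IsClosedImmersion (i ∣_ U)) (z : Z) (g : Γ(X, U)) (hzU : i z ∈ U)
    (hz : i z ∈ X.basicOpen g) :
    GenAt n i (hU.basicOpen g) z hz ↔ GenAt n i hU z hzU := by
  haveI := hU.isLocalization_basicOpen g
  haveI := ((hU.basicOpen g).primeIdealOf ⟨i z, hz⟩).isPrime
  have hp : ((hU.basicOpen g).primeIdealOf ⟨i z, hz⟩).asIdeal.comap
      (algebraMap Γ(X, U) Γ(X, X.basicOpen g)) = (hU.primeIdealOf ⟨i z, hzU⟩).asIdeal := by
    ext a
    rw [← not_iff_not, Ideal.mem_comap, ← mem_basicOpen_iff, ← mem_basicOpen_iff]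
    change i z ∈ X.basicOpen ((X.presheaf.map (homOfLE (X.basicOpen_le g)).op).hom a) ↔ _
    erw [Scheme.basicOpen_res]
    exact ⟨fun h => h.2, fun h => ⟨hz, h⟩⟩
  rw [GenAt, GenAt, ker_app_basicOpen i hU hcl g, ← hp]
  exact genLoc_away_iff g Γ(X, X.basicOpen g) _

theorem genAt_congr (n : ℕ) (i : Z ⟶ X) {U V : X.Opens} (e : U = V) (hU : IsAffineOpen U)
    (hV : IsAffineOpen V) (z : Z) (hz : i z ∈ U) (hz' : i z ∈ V) :
    GenAt n i hU z hz ↔ GenAt n i hV z hz' := by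
  subst e
  rfl

/-- The condition does not depend on the chart. -/
theorem genAt_iff (n : ℕ) (i : Z ⟶ X) {U V : X.Opens} (hU : IsAffineOpen U) (hV : IsAffineOpen V)
    (hcU : IsClosedImmersion (i ∣_ U)) (hcV : IsClosedImmersion (i ∣_ V)) (z : Z) (hz : i z ∈ U)
    (hz' : i z ∈ V) : GenAt n i hU z hz ↔ GenAt n i hV z hz' := by
  obtain ⟨f, g, e, hf⟩ := exists_basicOpen_le_affine_inter hU hV (i z) ⟨hz, hz'⟩
  rw [← genAt_basicOpen n i hU hcU z f hz hf, ← genAt_basicOpen n i hV hcV z g hz' (e ▸ hf)]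
  exact genAt_congr n i e _ _ _ _ _

/-- The defining condition with a given length. -/
def AtN (n : ℕ) (i : Z ⟶ X) (z : Z) : Prop :=
  ∃ U : X.affineOpens, i z ∈ U.1 ∧ IsClosedImmersion (i ∣_ U.1) ∧
    ∃ rs : List Γ(X, U.1), rs.length = n ∧ LCI.IsKoszulRegularSeq Γ(X, U.1) rs ∧
      RingHom.ker (i.app U.1).hom = Ideal.ofList rs

theorem isRegularImmersionAt_iff (i : Z ⟶ X) (z : Z) :
    RegImm.IsRegularImmersionAt .koszul i z ↔ ∃ n, AtN n i z :=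
  ⟨fun ⟨U, h1, h2, rs, h3, h4⟩ => ⟨_, U, h1, h2, rs, rfl, h3, h4⟩,
    fun ⟨_, U, h1, h2, rs, _, h3, h4⟩ => ⟨U, h1, h2, rs, h3, h4⟩⟩

theorem isRegularImmersion_iff (i : Z ⟶ X) :
    RegImm.IsRegularImmersion .koszul i ↔ IsImmersion i ∧ ∀ z, ∃ n, AtN n i z :=
  and_congr_right fun _ => forall_congr' (isRegularImmersionAt_iff i)

theorem genAt_of_atN {n : ℕ} {i : Z ⟶ X} {z : Z} (h : AtN n i z) {U : X.Opens} (hU : IsAffineOpen U)
    (hcl : IsClosedImmersion (i ∣_ U)) (hz : i z ∈ U) : GenAt n i hU z hz := by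
  obtain ⟨⟨V, hV⟩, hzV, hcV, rs, rfl, hrs, hker⟩ := h
  rw [genAt_iff _ i hU hV hcl hcV z hz hzV]
  haveI := (hV.primeIdealOf ⟨i z, hzV⟩).isPrime
  exact genLoc_of_gen (gen_of_list hrs hker) _

theorem atN_of_genAt {n : ℕ} {i : Z ⟶ X} {z : Z} {U : X.Opens} (hU : IsAffineOpen U)
    (hcl : IsClosedImmersion (i ∣_ U)) (hz : i z ∈ U) (h : GenAt n i hU z hz) : AtN n i z := by
  obtain ⟨g, hg, hgen⟩ := h
  haveI := hU.isLocalization_basicOpen g
  haveI : Module.Flat Γ(X, U) Γ(X, X.basicOpen g) := IsLocalization.flat _ (Submonoid.powers g)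
  obtain ⟨rs, h1, h2, h3⟩ := exists_list (gen_of_isUnit g (Localization.Away g) hgen Γ(X, X.basicOpen g)
    (IsLocalization.Away.algebraMap_isUnit g))
  refine ⟨⟨X.basicOpen g, hU.basicOpen g⟩, (mem_basicOpen_iff hU g ⟨i z, hz⟩).2 hg,
    closed_of_le i (X.basicOpen_le g) hcl, rs, h1, h2, ?_⟩
  rw [← h3]
  exact ker_app_basicOpen i hU hcl g

theorem mem_prime_app_iff (i : Z ⟶ X) {U : X.Opens} (hU : IsAffineOpen U) {W : Z.Opens}
    (hW : IsAffineOpen W) (e : W ≤ i ⁻¹ᵁ U) (z : Z) (hz : z ∈ W) (a : Γ(X, U)) :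
    (i.appLE U W e).hom a ∈ (hW.primeIdealOf ⟨z, hz⟩).asIdeal ↔
      a ∈ (hU.primeIdealOf ⟨i z, e hz⟩).asIdeal := by
  rw [← IsAffineOpen.comap_primeIdealOf_appLE U hU W hW e hz]
  rfl

/-- Composites. -/
theorem atN_comp {n m : ℕ} (i : Y ⟶ X) (j : Z ⟶ Y) [IsImmersion j] (z : Z) (hi : AtN n i (j z))
    (hj : AtN m j z) : AtN (n + m) (j ≫ i) z := by
  obtain ⟨⟨U, hU⟩, hzU, hcU, -⟩ := id hi
  obtain ⟨⟨W, hW⟩, hzW, hcW, -⟩ := id hj
  obtain ⟨hpU, hsU⟩ := isAffine_preimage i hU hcU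
  obtain ⟨h, hhW, hzh⟩ := hpU.exists_basicOpen_le (V := W) ⟨j z, hzW⟩ hzU
  obtain ⟨g, rfl⟩ := hsU h
  rw [← Scheme.preimage_basicOpen] at hhW hzh
  let V := X.basicOpen g
  have hV : IsAffineOpen V := hU.basicOpen g
  have hzV : i (j z) ∈ V := hzh
  have hcV : IsClosedImmersion (i ∣_ V) := closed_of_le i (X.basicOpen_le g) hcU
  obtain ⟨hpV, hsV⟩ := isAffine_preimage i hV hcV
  have hcjV : IsClosedImmersion (j ∣_ (i ⁻¹ᵁ V)) := closed_of_le j hhW hcW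
  have hcc : IsClosedImmersion ((j ≫ i) ∣_ V) := by
    rw [morphismRestrict_comp]
    exact MorphismProperty.comp_mem @IsClosedImmersion _ _ hcjV hcV
  refine atN_of_genAt hV hcc hzV ?_
  have hiV := genAt_of_atN hi hV hcV hzV
  have hjV := genAt_of_atN hj hpV hcjV hzV
  haveI := (hpV.primeIdealOf ⟨j z, hzV⟩).isPrime
  have hprime : (hpV.primeIdealOf ⟨j z, hzV⟩).asIdeal.comap (i.app V).hom =
      (hV.primeIdealOf ⟨i (j z), hzV⟩).asIdeal := by
    ext a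
    rw [Ideal.mem_comap, Scheme.Hom.app_eq_appLE]
    exact mem_prime_app_iff i hV hpV le_rfl (j z) hzV a
  unfold GenAt at hiV hjV ⊢
  rw [← hprime] at hiV
  have := genLoc_comp (i.app V).hom hsV _ hiV hjV
  rw [hprime, RingHom.comap_ker] at this
  rw [Scheme.Hom.comp_app]
  exact this

/-- Charts for a morphism over a smooth one. -/
theorem exists_smooth_chart (i : Z ⟶ X) [IsImmersion i] (j : Z ⟶ Y) [IsImmersion j] (p : Y ⟶ X)
    [Smooth p] (h : j ≫ p = i) (z : Z) :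
    ∃ (A B C : Type u) (_ : CommRing A) (_ : CommRing B) (_ : CommRing C) (_ : Algebra A B) (_ : Algebra A C)
      (_ : Algebra.Smooth A B) (ψ : B →ₐ[A] C) (Q : Ideal B) (_ : Q.IsPrime),
      Function.Surjective (algebraMap A C) ∧ RingHom.ker ψ.toRingHom ≤ Q ∧
      (∀ n, AtN n i z ↔ GenLoc n (RingHom.ker (algebraMap A C)) (Q.under A)) ∧
      ∀ n, AtN n j z ↔ GenLoc n (RingHom.ker ψ.toRingHom) Q := by
  subst h
  obtain ⟨⟨U₀, hU₀⟩, hzU₀, -, hcU₀⟩ := exists_closed_chart (j ≫ p) z (O := ⊤) trivial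
  obtain ⟨⟨U', hU'⟩, hzU', hU'U, hcU'⟩ := exists_closed_chart j z (O := p ⁻¹ᵁ U₀) hzU₀
  obtain ⟨hpU, hsU⟩ := isAffine_preimage (j ≫ p) hU₀ hcU₀
  obtain ⟨c, hcW, hzc⟩ := hpU.exists_basicOpen_le (V := j ⁻¹ᵁ U') ⟨z, hzU'⟩ hzU₀
  obtain ⟨a, rfl⟩ := hsU c
  rw [← Scheme.preimage_basicOpen] at hcW hzc
  let U := X.basicOpen a
  have hU : IsAffineOpen U := hU₀.basicOpen a
  let V := U' ⊓ p ⁻¹ᵁ U
  have hV : IsAffineOpen V := by
    have : V = Y.basicOpen ((p.appLE U₀ U' hU'U).hom a) := by rw [Scheme.basicOpen_appLE]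
    rw [this]
    exact hU'.basicOpen _
  have hVU : V ≤ p ⁻¹ᵁ U := inf_le_right
  have hcU : IsClosedImmersion ((j ≫ p) ∣_ U) := closed_of_le _ (X.basicOpen_le a) hcU₀
  have hcV : IsClosedImmersion (j ∣_ V) := closed_of_le _ inf_le_left hcU'
  obtain ⟨hW, hsC⟩ := isAffine_preimage (j ≫ p) hU hcU
  have eW : (j ≫ p) ⁻¹ᵁ U = j ⁻¹ᵁ V := le_antisymm (fun x hx => ⟨hcW hx, hx⟩) (fun x hx => hx.2)
  have hzU : (j ≫ p) z ∈ U := hzc
  have hzV : j z ∈ V := eW.le hzc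
  letI : Algebra Γ(X, U) Γ(Y, V) := (p.appLE U V hVU).hom.toAlgebra
  haveI : Algebra.Smooth Γ(X, U) Γ(Y, V) := RingHom.smooth_algebraMap.1 (p.smooth_appLE hU hV hVU)
  letI : Algebra Γ(X, U) Γ(Z, (j ≫ p) ⁻¹ᵁ U) := ((j ≫ p).app U).hom.toAlgebra
  let ψ : Γ(Y, V) →ₐ[Γ(X, U)] Γ(Z, (j ≫ p) ⁻¹ᵁ U) :=
    { (j.appLE V ((j ≫ p) ⁻¹ᵁ U) eW.le).hom with
      commutes' := fun r => by
        change (j.appLE V ((j ≫ p) ⁻¹ᵁ U) eW.le).hom ((p.appLE U V hVU).hom r) = ((j ≫ p).app U).hom r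
        rw [Scheme.Hom.app_eq_appLE, ← Scheme.Hom.appLE_comp_appLE j p U V ((j ≫ p) ⁻¹ᵁ U) hVU eW.le]
        rfl }
  have hkψ : RingHom.ker ψ.toRingHom = RingHom.ker (j.app V).hom := by
    change RingHom.ker (j.appLE V ((j ≫ p) ⁻¹ᵁ U) eW.le).hom = _
    have : ∀ (W : Z.Opens) (e : W = j ⁻¹ᵁ V),
        RingHom.ker (j.appLE V W e.le).hom = RingHom.ker (j.app V).hom := by
      rintro W rfl
      rw [Scheme.Hom.app_eq_appLE]
    exact this _ eW
  haveI := (hV.primeIdealOf ⟨j z, hzV⟩).isPrime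
  refine ⟨Γ(X, U), Γ(Y, V), Γ(Z, (j ≫ p) ⁻¹ᵁ U), inferInstance, inferInstance, inferInstance, inferInstance,
    inferInstance, inferInstance, ψ, (hV.primeIdealOf ⟨j z, hzV⟩).asIdeal, inferInstance, hsC, ?_, ?_, ?_⟩
  · intro f hf
    rw [hkψ] at hf
    by_contra h
    have h1 : z ∈ j ⁻¹ᵁ Y.basicOpen f := (mem_basicOpen_iff hV f ⟨j z, hzV⟩).2 h
    rw [Scheme.preimage_basicOpen j f] at h1
    erw [RingHom.mem_ker.1 hf, Scheme.basicOpen_zero] at h1
    exact h1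
  · intro n
    have hp : (hV.primeIdealOf ⟨j z, hzV⟩).asIdeal.under Γ(X, U) = (hU.primeIdealOf ⟨(j ≫ p) z, hzU⟩).asIdeal := by
      ext r
      exact mem_prime_app_iff p hU hV hVU (j z) hzV r
    rw [hp]
    exact ⟨fun h => genAt_of_atN h hU hcU hzU, fun h => atN_of_genAt hU hcU hzU h⟩
  · intro n
    rw [hkψ]
    exact ⟨fun h => genAt_of_atN h hV hcV hzV, fun h => atN_of_genAt hV hcV hzV h⟩

theorem exists_atN_of_below (i : Z ⟶ X) [IsImmersion i] (j : Z ⟶ Y) [IsImmersion j] (p : Y ⟶ X)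
    [Smooth p] (h : j ≫ p = i) (z : Z) (hi : ∃ n, AtN n i z) : ∃ n, AtN n j z := by
  obtain ⟨n, hn⟩ := hi
  obtain ⟨A, B, C, _, _, _, _, _, _, ψ, Q, _, hs, hQ, h1, h2⟩ := exists_smooth_chart i j p h z
  obtain ⟨m, hm⟩ := KRSmooth.genLoc_up hs ψ Q hQ ((h1 n).1 hn)
  exact ⟨n + m, (h2 _).2 hm⟩

theorem exists_atN_of_above (i : Z ⟶ X) [IsImmersion i] (j : Z ⟶ Y) [IsImmersion j] (p : Y ⟶ X)
    [Smooth p] (h : j ≫ p = i) (z : Z) (hj : ∃ n, AtN n j z) : ∃ n, AtN n i z := by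
  obtain ⟨n, hn⟩ := hj
  obtain ⟨A, B, C, _, _, _, _, _, _, ψ, Q, _, hs, hQ, h1, h2⟩ := exists_smooth_chart i j p h z
  obtain ⟨e, he⟩ := KRSmooth.genLoc_down hs ψ Q hQ ((h2 n).1 hn)
  exact ⟨e, (h1 _).2 he⟩

end Groth.Agent.Lib.Synt92.KRImm
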