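import Groth.Agent.Lib.Synt92.KRLoc
import Mathlib.RingTheory.Nakayama
import Mathlib.LinearAlgebra.Matrix.NonsingularInverse
import Mathlib.LinearAlgebra.Dimension.Constructions
import Mathlib.RingTheory.LocalRing.ResidueField.Basic

/-! Changing the generators of an ideal generated by a Koszul-regular sequence. -/

set_option autoImplicit false

universe u

namespace Groth.Agent.Lib.Synt92.KRGens

open Groth.Agent.Lib.Wiebe.Link CubeComp KRLoc

variable {R : Type u} [CommRing R]

/-- An invertible matrix preserves acyclicity and the generated ideal. -/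
theorem acyc_and_span_of_mulVec {n : ℕ} (C : Matrix (Fin n) (Fin n) R) (hC : IsUnit C.det)
    (f F : Fin n → R) (h : F = C.mulVec f) (hf : Acyc f) :
    Acyc F ∧ Ideal.span (Set.range F) = Ideal.span (Set.range f) := by
  have hinv : f = C⁻¹.mulVec F := by
    rw [h, Matrix.mulVec_mulVec, Matrix.nonsing_inv_mul _ hC, Matrix.one_mulVec]
  refine ⟨CubeBase.acyc_matrix f F C (C⁻¹ : Matrix (Fin n) (Fin n) R) (fun i => congrFun h i) (fun i => congrFun hinv i) (fun i => ?_) hf, ?_⟩
  · funext k
    rw [Finset.sum_apply]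
    have := congrFun (congrFun (Matrix.mul_nonsing_inv C hC) i) k
    rw [Matrix.mul_apply] at this
    simpa [Matrix.one_apply, Pi.single_apply, eq_comm] using this
  · refine le_antisymm (Ideal.span_le.2 ?_) (Ideal.span_le.2 ?_)
    · rintro _ ⟨i, rfl⟩
      exact Ideal.mem_span_range_iff_exists_fun.2 ⟨C i, (congrFun h i).symm⟩
    · rintro _ ⟨i, rfl⟩
      exact Ideal.mem_span_range_iff_exists_fun.2 ⟨C⁻¹ i, (congrFun hinv i).symm⟩

/-- Scaling the generators by units. -/
theorem acyc_and_span_of_units {n : ℕ} (u : Fin n → R) (hu : ∀ i, IsUnit (u i)) (f : Fin n → R)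
    (hf : Acyc f) : Acyc (fun i => u i * f i) ∧
      Ideal.span (Set.range fun i => u i * f i) = Ideal.span (Set.range f) :=
  acyc_and_span_of_mulVec (Matrix.diagonal u)
    (by rw [Matrix.det_diagonal]; exact IsUnit.prod_univ_iff.2 hu) f _
    (funext fun i => (Matrix.mulVec_diagonal u f i).symm) hf

/-- Generators may be chosen with numerators in the base ring. -/
theorem exists_numerators {m : ℕ} {I : Ideal R} (g : R) (L : Type u) [CommRing L] [Algebra R L]
    [IsLocalization.Away g L] (h : Gen m (I.map (algebraMap R L))) :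
    ∃ f : Fin m → R, Acyc (algebraMap R L ∘ f) ∧
      I.map (algebraMap R L) = Ideal.span (Set.range (algebraMap R L ∘ f)) := by
  obtain ⟨f', hf', hI⟩ := h
  choose k a ha using fun i => IsLocalization.Away.surj g (f' i)
  have e : algebraMap R L ∘ a = fun i => algebraMap R L g ^ k i * f' i := funext fun i => by
    rw [Function.comp_apply, ← ha i, mul_comm]
  obtain ⟨h1, h2⟩ := acyc_and_span_of_units (fun i => algebraMap R L g ^ k i)
    (fun i => (IsLocalization.Away.algebraMap_isUnit g).pow _) f' hf'
  exact ⟨a, by rwa [e], by rw [e, h2, hI]⟩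

/-- Completing an independent family of elements to generators by elements of a spanning set. -/
theorem exists_completion [IsLocalRing R] {r d : ℕ} (f : Fin r → R) (hf : Acyc f)
    (hfm : ∀ i, f i ∈ IsLocalRing.maximalIdeal R) (T : Set R) (b : Fin d → R)
    (hT : ∀ x ∈ T, x ∈ Ideal.span (Set.range f)) (hb : ∀ i, b i ∈ Ideal.span (Set.range f))
    (hspan : Ideal.span (Set.range f) ≤ Ideal.span (T ∪ Set.range b) ⊔
      IsLocalRing.maximalIdeal R * Ideal.span (Set.range f))
    (hind : ∀ c : Fin d → R, (∑ i, c i * b i) ∈ IsLocalRing.maximalIdeal R * Ideal.span (Set.range f) →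
      ∀ i, c i ∈ IsLocalRing.maximalIdeal R) :
    ∃ (e : ℕ) (a : Fin e → R) (h : d + e = r) (C : Matrix (Fin (d + e)) (Fin (d + e)) R),
      (∀ i, a i ∈ T) ∧ IsUnit C.det ∧ app a b = C.mulVec (f ∘ Fin.cast h) := by
  classical
  let κ := IsLocalRing.ResidueField R
  let res := IsLocalRing.residue R
  have hres : ∀ x, res x = 0 ↔ x ∈ IsLocalRing.maximalIdeal R := fun x => Ideal.Quotient.eq_zero_iff_mem
  have hfm' : Ideal.span (Set.range f) ≤ IsLocalRing.maximalIdeal R :=
    Ideal.span_le.2 (by rintro _ ⟨i, rfl⟩; exact hfm i)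
  choose cT hcT using fun x : T => Ideal.mem_span_range_iff_exists_fun.1 (hT x x.2)
  choose cb hcb using fun i => Ideal.mem_span_range_iff_exists_fun.1 (hb i)
  have hrel : ∀ c c' : Fin r → R, ∑ i, c i * f i = ∑ i, c' i * f i → ∀ i, res (c i) = res (c' i) :=
    fun c c' hc i => sub_eq_zero.1 (by
      rw [← map_sub, hres]
      refine hfm' (CubeBase.mem_span_of_relation hf (c := fun i => c i - c' i) ?_ i)
      simp [sub_mul, Finset.sum_sub_distrib, hc])
  have hmul : ∀ y ∈ IsLocalRing.maximalIdeal R * Ideal.span (Set.range f),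
      ∃ c : Fin r → R, (∀ i, res (c i) = 0) ∧ ∑ i, c i * f i = y := by
    intro y hy
    refine Submodule.mul_induction_on hy (fun p hp x hx => ?_) ?_
    · obtain ⟨c, rfl⟩ := Ideal.mem_span_range_iff_exists_fun.1 hx
      exact ⟨fun i => p * c i, fun i => (hres _).2 (Ideal.mul_mem_right _ _ hp), by
        rw [Finset.mul_sum]; exact Finset.sum_congr rfl fun i _ => mul_assoc _ _ _⟩
    · rintro _ _ ⟨c, hc, rfl⟩ ⟨c', hc', rfl⟩
      exact ⟨c + c', fun i => by simp [hc i, hc' i], by simp [add_mul, Finset.sum_add_distrib]⟩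
  let v : Fin d ⊕ T → Fin r → κ := Sum.elim (fun i => res ∘ cb i) (fun x => res ∘ cT x)
  have hv1 : LinearIndependent κ fun i => res ∘ cb i := by
    rw [Fintype.linearIndependent_iff]
    intro l hl i
    choose c hc using fun i => IsLocalRing.residue_surjective (l i)
    rw [← hc i]
    refine (hres _).2 (hind c ?_ i)
    have e : (∑ i, c i * b i) = ∑ j, (∑ i, c i * cb i j) * f j := by
      simp only [Finset.sum_mul, mul_assoc]
      rw [Finset.sum_comm]
      exact Finset.sum_congr rfl fun i _ => by rw [← Finset.mul_sum, hcb i]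
    rw [e]
    refine Submodule.sum_mem _ fun j _ => Ideal.mul_mem_mul ((hres _).1 ?_) (Ideal.subset_span ⟨j, rfl⟩)
    have := congrFun hl j
    simpa [Finset.sum_apply, res, ← hc, map_sum] using this
  have hspanv : Submodule.span κ (Set.range v) = ⊤ := by
    refine eq_top_iff.2 ?_
    rw [← (Pi.basisFun κ (Fin r)).span_eq, Submodule.span_le]
    rintro _ ⟨k, rfl⟩
    have hmem : ∀ y ∈ Ideal.span (T ∪ Set.range b), ∃ c : Fin r → R,
        (res ∘ c) ∈ Submodule.span κ (Set.range v) ∧ ∑ i, c i * f i = y := by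
      intro y hy
      induction hy using Submodule.span_induction with
      | mem x hx =>
        rcases hx with hx | ⟨i, rfl⟩
        · exact ⟨cT ⟨x, hx⟩, Submodule.subset_span ⟨Sum.inr ⟨x, hx⟩, rfl⟩, hcT _⟩
        · exact ⟨cb i, Submodule.subset_span ⟨Sum.inl i, rfl⟩, hcb i⟩
      | zero => exact ⟨0, by simp, by simp⟩
      | add x y _ _ hx hy =>
        obtain ⟨c, hc, rfl⟩ := hx
        obtain ⟨c', hc', rfl⟩ := hy
        refine ⟨c + c', ?_, by simp [add_mul, Finset.sum_add_distrib]⟩
        have : res ∘ (c + c') = res ∘ c + res ∘ c' := by funext i; simp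
        rw [this]
        exact add_mem hc hc'
      | smul s x _ hx =>
        obtain ⟨c, hc, rfl⟩ := hx
        refine ⟨fun i => s * c i, ?_, by simp [Finset.mul_sum, mul_assoc]⟩
        have : res ∘ (fun i => s * c i) = res s • (res ∘ c) := by funext i; simp
        rw [this]
        exact Submodule.smul_mem _ _ hc
    obtain ⟨y, hy, w, hw, hyw⟩ := Submodule.mem_sup.1 (hspan (Ideal.subset_span ⟨k, rfl⟩))
    obtain ⟨c, hc, rfl⟩ := hmem y hy
    obtain ⟨c', hc', rfl⟩ := hmul w hw
    have hk := hrel (Pi.single k 1) (c + c')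
      (by simp [add_mul, Finset.sum_add_distrib, hyw, Pi.single_apply])
    have : (Pi.basisFun κ (Fin r) k) = res ∘ c := by
      funext i
      have h := hk i
      rw [Pi.basisFun_apply, Function.comp_apply]
      rw [Pi.add_apply, map_add, hc' i, add_zero] at h
      rw [← h]
      by_cases hik : i = k
      · subst hik; simp
      · simp [Pi.single_eq_of_ne hik]
    rw [this]
    exact hc
  have hs0 : LinearIndepOn κ v (Set.range Sum.inl) := by
    rw [linearIndepOn_range_iff Sum.inl_injective]
    exact hv1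
  obtain ⟨B, -, hsB, hBspan, hBind⟩ := exists_linearIndepOn_extension hs0 (Set.subset_univ _)
  let U : Set T := Sum.inr ⁻¹' B
  have hU : LinearIndependent κ fun x : Fin d ⊕ U => v (x.map id Subtype.val) :=
    hBind.comp (fun x : Fin d ⊕ U => (⟨x.map id Subtype.val, by
      rcases x with i | x
      · exact hsB ⟨i, rfl⟩
      · exact x.2⟩ : B)) (by
      intro x y hxy
      have h := congrArg Subtype.val hxy
      rcases x with i | x <;> rcases y with j | y <;> simp_all [Subtype.ext_iff])
  have hUspan : Submodule.span κ (Set.range fun x : Fin d ⊕ U => v (x.map id Subtype.val)) = ⊤ := by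
    refine eq_top_iff.2 (hspanv ▸ Submodule.span_le.2 ?_)
    rw [Set.image_univ] at hBspan
    refine hBspan.trans (Submodule.span_mono ?_)
    rintro _ ⟨x, hx, rfl⟩
    rcases x with i | x
    · exact ⟨Sum.inl i, rfl⟩
    · exact ⟨Sum.inr ⟨x, hx⟩, rfl⟩
  haveI : Finite (Fin d ⊕ U) := hU.finite
  haveI : Finite U := Finite.sum_right (Fin d)
  obtain ⟨e, ⟨σ⟩⟩ := Finite.exists_equiv_fin U
  have hcard : d + e = r := by
    let bas := Module.Basis.mk hU hUspan.ge
    haveI := Fintype.ofFinite U
    have h1 := Module.finrank_eq_card_basis bas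
    rw [Module.finrank_fintype_fun_eq_card, Fintype.card_fin, Fintype.card_sum, Fintype.card_fin,
      Fintype.card_congr σ, Fintype.card_fin] at h1
    exact h1.symm
  subst hcard
  let a : Fin e → R := fun i => ((σ.symm i).1 : R)
  let C : Matrix (Fin (d + e)) (Fin (d + e)) R := app (fun i => cT (σ.symm i).1) cb
  have hC : app a b = C.mulVec f := by
    have h := map_app (fun c : Fin (d + e) → R => ∑ j, c j * f j) (fun i => cT (σ.symm i).1) cb
    have e1 : (fun c : Fin (d + e) → R => ∑ j, c j * f j) ∘ (fun i => cT (σ.symm i).1) = a :=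
      funext fun i => hcT _
    have e2 : (fun c : Fin (d + e) → R => ∑ j, c j * f j) ∘ cb = b := funext fun i => hcb i
    rw [e1, e2] at h
    rw [← h]
    rfl
  refine ⟨e, a, rfl, C, fun i => (σ.symm i).1.2, ?_, hC⟩
  -- a left inverse modulo the maximal ideal
  have hrows : Submodule.span κ (Set.range fun i => res ∘ C i) = ⊤ := by
    refine eq_top_iff.2 (hUspan ▸ Submodule.span_mono ?_)
    have hr : Set.range C = Set.range (fun i => cT (σ.symm i).1) ∪ Set.range cb := range_app _ _
    rintro _ ⟨x, rfl⟩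
    rcases x with i | x
    · obtain ⟨k, hk⟩ : cb i ∈ Set.range C := hr.ge (Or.inr ⟨i, rfl⟩)
      exact ⟨k, by simp [v, hk]⟩
    · obtain ⟨k, hk⟩ : cT x.1 ∈ Set.range C := hr.ge (Or.inl ⟨σ x, by simp⟩)
      exact ⟨k, by simp [v, hk]⟩
  have hD : ∀ j, ∃ l : Fin (d + e) → κ, ∑ i, l i • (res ∘ C i) = Pi.single j 1 := fun j =>
    (Submodule.mem_span_range_iff_exists_fun κ).1 (hrows ▸ Submodule.mem_top)
  choose l hl using hD
  let D' : Matrix (Fin (d + e)) (Fin (d + e)) κ := l
  have h1 : D' * C.map res = 1 := by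
    ext j k
    rw [Matrix.mul_apply, Matrix.one_apply]
    have := congrFun (hl j) k
    simpa [Finset.sum_apply, Pi.single_apply, eq_comm, D'] using this
  have h2 : IsUnit (C.map res).det := Matrix.isUnit_det_of_left_inverse h1
  have h3 : (C.map res).det = res C.det := (RingHom.map_det res C).symm
  rw [h3] at h2
  exact isUnit_of_map_unit res _ h2

end Groth.Agent.Lib.Synt92.KRGens
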