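import Groth.Agent.Lib.Synt92.KRImm
import Mathlib.AlgebraicGeometry.Morphisms.Flat

/-! Flat base change of Koszul-regular immersions. -/

set_option autoImplicit false

universe u

open CategoryTheory CategoryTheory.Limits AlgebraicGeometry

namespace Groth.Agent.Lib.Synt92.KRBase

open KRImm KRLoc

theorem atN_baseChange {X Y X' Y' : Scheme.{u}} (i : Y ⟶ X) (g : X' ⟶ X) [Flat g] (i' : Y' ⟶ X')
    (g' : Y' ⟶ Y) (hsq : IsPullback g' i' i g) (z : Y') {n : ℕ} (h : AtN n i (g' z)) : AtN n i' z := by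
  obtain ⟨⟨U, hU⟩, hzU, hcl, rs, rfl, hrs, hker⟩ := h
  have hzU' : i' z ∈ g ⁻¹ᵁ U := by
    change g (i' z) ∈ U
    rw [← Scheme.Hom.comp_apply, ← hsq.w]
    exact hzU
  obtain ⟨U', hU', hzU'', hle⟩ := exists_isAffineOpen_mem_and_subset (x := i' z) (U := g ⁻¹ᵁ U) hzU'
  have hW : i' ⁻¹ᵁ U' = g' ⁻¹ᵁ (i ⁻¹ᵁ U) ⊓ i' ⁻¹ᵁ U' := by
    refine (inf_eq_right.2 fun y hy => ?_).symm
    change (g' ≫ i) y ∈ U
    rw [hsq.w]
    exact hle hy
  have hcl' : IsClosedImmersion (i' ∣_ U') := by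
    have hP := Scheme.Hom.isPullback_resLE hsq (hle : U' ≤ g ⁻¹ᵁ U) (le_refl (i ⁻¹ᵁ U)) hW
    rw [← Scheme.Hom.resLE_eq_morphismRestrict]
    refine MorphismProperty.of_isPullback (P := @IsClosedImmersion) hP ?_
    rw [Scheme.Hom.resLE_eq_morphismRestrict]
    exact hcl
  obtain ⟨hWa, -⟩ := isAffine_preimage i hU hcl
  have hpo := (isIso_pushoutSection_iff hsq hle le_rfl hW).1
    (isIso_pushoutSection_of_isAffineOpen hsq hle le_rfl hW hU hU' hWa)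
  have hφ : (g.appLE U U' hle).hom.Flat := g.flat_appLE hU hU' hle
  obtain ⟨l, hl, hlk, e⟩ := exists_list (gen_map _ hφ (gen_of_list hrs hker))
  refine ⟨⟨U', hU'⟩, hzU'', hcl', l, hl, hlk, ?_⟩
  rw [← e]
  set J := (RingHom.ker (i.app U).hom).map (g.appLE U U' hle).hom
  refine le_antisymm ?_ ?_
  · obtain ⟨hs, hsurj⟩ := isAffine_preimage i hU hcl
    let Q : CommRingCat.{u} := CommRingCat.of (Γ(X', U') ⧸ J)
    have hle' : RingHom.ker (i.app U).hom ≤ RingHom.ker ((Ideal.Quotient.mk J).comp (g.appLE U U' hle).hom) :=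
      fun a ha => Ideal.Quotient.eq_zero_iff_mem.2 (Ideal.mem_map_of_mem _ ha)
    let θ : Γ(Y, i ⁻¹ᵁ U) ⟶ Q := CommRingCat.ofHom (RingHom.liftOfSurjective (i.app U).hom hsurj ⟨_, hle'⟩)
    let μ : Γ(X', U') ⟶ Q := CommRingCat.ofHom (Ideal.Quotient.mk J)
    have hw : i.appLE U (i ⁻¹ᵁ U) le_rfl ≫ θ = g.appLE U U' hle ≫ μ := by
      rw [← Scheme.Hom.app_eq_appLE]
      ext a
      exact RingHom.liftOfRightInverse_comp_apply _ _ (Function.rightInverse_surjInv hsurj) ⟨_, hle'⟩ a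
    intro x hx
    have h1 := congrArg (fun φ : Γ(X', U') ⟶ Q => φ.hom x) (hpo.inr_desc θ μ hw)
    rw [Scheme.Hom.app_eq_appLE] at hx
    have h2 : μ.hom x = 0 := by
      refine h1.symm.trans ?_
      change (hpo.desc θ μ hw).hom ((i'.appLE U' (i' ⁻¹ᵁ U') _).hom x) = 0
      rw [RingHom.mem_ker.1 hx, map_zero]
    exact Ideal.Quotient.eq_zero_iff_mem.1 h2
  · refine Ideal.map_le_iff_le_comap.2 fun a ha => ?_
    have h1 := congrArg (fun φ : Γ(X, U) ⟶ Γ(Y', i' ⁻¹ᵁ U') => φ.hom a) hpo.w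
    rw [Ideal.mem_comap, RingHom.mem_ker, Scheme.Hom.app_eq_appLE]
    refine h1.symm.trans ?_
    change (g'.appLE (i ⁻¹ᵁ U) (i' ⁻¹ᵁ U') _).hom ((i.appLE U (i ⁻¹ᵁ U) le_rfl).hom a) = 0
    rw [← Scheme.Hom.app_eq_appLE, RingHom.mem_ker.1 ha, map_zero]

/-- Koszul-regular immersions are stable under flat base change. -/
theorem isRegularImmersion_baseChange {X Y X' Y' : Scheme.{u}} (i : Y ⟶ X) (g : X' ⟶ X) [Flat g]
    (i' : Y' ⟶ X') (g' : Y' ⟶ Y) (hsq : IsPullback g' i' i g)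
    (hi : RegImm.IsRegularImmersion .koszul i) : RegImm.IsRegularImmersion .koszul i' := by
  haveI := hi.1
  refine (isRegularImmersion_iff i').2 ⟨MorphismProperty.of_isPullback (P := @IsImmersion) hsq hi.1, fun z => ?_⟩
  obtain ⟨n, hn⟩ := ((isRegularImmersion_iff i).1 hi).2 (g' z)
  exact ⟨n, atN_baseChange i g i' g' hsq z hn⟩

end Groth.Agent.Lib.Synt92.KRBase
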