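import Groth.Agent.Lib.Synt92.KRDescent
import Groth.Agent.Lib.Synt92.KRBase
import Mathlib.AlgebraicGeometry.Morphisms.Descent
import Mathlib.AlgebraicGeometry.Morphisms.LocalIso
import Mathlib.RingTheory.RingHom.FaithfullyFlat

/-! Faithfully flat quasi-compact descent of Koszul-regular immersions. -/

set_option autoImplicit false

universe u

open CategoryTheory CategoryTheory.Limits AlgebraicGeometry

namespace Groth.Agent.Lib.Synt92.KRDescentScheme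

open KRImm KRLoc

theorem ker_baseChange {X Y X' Y' : Scheme.{u}} (i : Y ⟶ X) (g : X' ⟶ X) (i' : Y' ⟶ X')
    (g' : Y' ⟶ Y) (hsq : IsPullback g' i' i g) {U : X.Opens} (hU : IsAffineOpen U)
    (hcl : IsClosedImmersion (i ∣_ U)) {U' : X'.Opens} (hU' : IsAffineOpen U') (hle : U' ≤ g ⁻¹ᵁ U) :
    IsClosedImmersion (i' ∣_ U') ∧
      RingHom.ker (i'.app U').hom = (RingHom.ker (i.app U).hom).map (g.appLE U U' hle).hom := by
  have hW : i' ⁻¹ᵁ U' = g' ⁻¹ᵁ (i ⁻¹ᵁ U) ⊓ i' ⁻¹ᵁ U' := by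
    refine (inf_eq_right.2 fun y hy => ?_).symm
    change (g' ≫ i) y ∈ U
    rw [hsq.w]
    exact hle hy
  have hcl' : IsClosedImmersion (i' ∣_ U') := by
    have hP := Scheme.Hom.isPullback_resLE hsq (hle : U' ≤ g ⁻¹ᵁ U) (le_refl (i ⁻¹ᵁ U)) hW
    rw [← Scheme.Hom.resLE_eq_morphismRestrict]
    refine MorphismProperty.of_isPullback (P := @IsClosedImmersion) hP ?_
    rw [Scheme.Hom.resLE_eq_morphismRestrict]
    exact hcl
  refine ⟨hcl', ?_⟩
  obtain ⟨hWa, hsurj⟩ := isAffine_preimage i hU hcl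
  have hpo := (isIso_pushoutSection_iff hsq hle le_rfl hW).1
    (isIso_pushoutSection_of_isAffineOpen hsq hle le_rfl hW hU hU' hWa)
  set J := (RingHom.ker (i.app U).hom).map (g.appLE U U' hle).hom
  refine le_antisymm ?_ ?_
  · let Q : CommRingCat.{u} := CommRingCat.of (Γ(X', U') ⧸ J)
    have hle' : RingHom.ker (i.app U).hom ≤ RingHom.ker ((Ideal.Quotient.mk J).comp (g.appLE U U' hle).hom) :=
      fun a ha => Ideal.Quotient.eq_zero_iff_mem.2 (Ideal.mem_map_of_mem _ ha)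
    let θ : Γ(Y, i ⁻¹ᵁ U) ⟶ Q := CommRingCat.ofHom (RingHom.liftOfSurjective (i.app U).hom hsurj ⟨_, hle'⟩)
    let μ : Γ(X', U') ⟶ Q := CommRingCat.ofHom (Ideal.Quotient.mk J)
    have hw : i.appLE U (i ⁻¹ᵁ U) le_rfl ≫ θ = g.appLE U U' hle ≫ μ := by
      rw [← Scheme.Hom.app_eq_appLE]
      ext a
      exact RingHom.liftOfRightInverse_comp_apply _ _ (Function.rightInverse_surjInv hsurj) ⟨_, hle'⟩ a
    intro x hx
    have h1 := congrArg (fun φ : Γ(X', U') ⟶ Q => φ.hom x) (hpo.inr_desc θ μ hw)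
    rw [Scheme.Hom.app_eq_appLE] at hx
    have h2 : μ.hom x = 0 := by
      refine h1.symm.trans ?_
      change (hpo.desc θ μ hw).hom ((i'.appLE U' (i' ⁻¹ᵁ U') _).hom x) = 0
      rw [RingHom.mem_ker.1 hx, map_zero]
    exact Ideal.Quotient.eq_zero_iff_mem.1 h2
  · refine Ideal.map_le_iff_le_comap.2 fun a ha => ?_
    have h1 := congrArg (fun φ : Γ(X, U) ⟶ Γ(Y', i' ⁻¹ᵁ U') => φ.hom a) hpo.w
    rw [Ideal.mem_comap, RingHom.mem_ker, Scheme.Hom.app_eq_appLE]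
    refine h1.symm.trans ?_
    change (g'.appLE (i ⁻¹ᵁ U) (i' ⁻¹ᵁ U') _).hom ((i.appLE U (i ⁻¹ᵁ U) le_rfl).hom a) = 0
    rw [← Scheme.Hom.app_eq_appLE, RingHom.mem_ker.1 ha, map_zero]

/-- A Koszul-regular immersion restricted to a closed chart gives a Koszul-regular ideal. -/
theorem exists_genLoc_of_chart {Z X : Scheme.{u}} (i : Z ⟶ X) (hi : ∀ z, ∃ n, AtN n i z)
    {U : X.Opens} (hU : IsAffineOpen U) (hcl : IsClosedImmersion (i ∣_ U))
    (Q : PrimeSpectrum Γ(X, U)) (hQ : RingHom.ker (i.app U).hom ≤ Q.asIdeal) :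
    ∃ n, GenLoc n (RingHom.ker (i.app U).hom) Q.asIdeal := by
  obtain ⟨hW, hs⟩ := isAffine_preimage i hU hcl
  haveI := Q.isPrime
  let q : PrimeSpectrum Γ(Z, i ⁻¹ᵁ U) := ⟨Q.asIdeal.map (i.app U).hom, Ideal.map_isPrime_of_surjective hs hQ⟩
  let w : (i ⁻¹ᵁ U : Z.Opens).toScheme := hW.isoSpec.inv q
  have hq : hW.primeIdealOf ⟨w.1, w.2⟩ = q := by
    change hW.isoSpec.hom (hW.isoSpec.inv q) = q
    rw [← Scheme.Hom.comp_apply, Iso.inv_hom_id]
    rfl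
  obtain ⟨n, hn⟩ := hi w.1
  have hz : i w.1 ∈ U := w.2
  refine ⟨n, ?_⟩
  have h1 : Q.asIdeal = (hU.primeIdealOf ⟨i w.1, hz⟩).asIdeal := by
    ext a
    rw [← mem_prime_app_iff i hU hW le_rfl w.1 w.2 a, hq, ← Scheme.Hom.app_eq_appLE]
    refine ⟨fun ha => Ideal.mem_map_of_mem _ ha, fun ha => ?_⟩
    have : a ∈ (Q.asIdeal.map (i.app U).hom).comap (i.app U).hom := ha
    rwa [Ideal.comap_map_of_surjective _ hs, ← RingHom.ker_eq_comap_bot, sup_eq_left.2 hQ] at this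
  rw [h1]
  exact genAt_of_atN hn hU hcl hz

theorem faithfullyFlat_appLE {X W : Scheme.{u}} (h : W ⟶ X) [Flat h] {U : X.Opens} (hU : IsAffineOpen U)
    {V : W.Opens} (hV : IsAffineOpen V) (e : V ≤ h ⁻¹ᵁ U) (hsurj : ∀ x ∈ U, ∃ w ∈ V, h w = x) :
    (h.appLE U V e).hom.FaithfullyFlat := by
  refine RingHom.FaithfullyFlat.iff_flat_and_comap_surjective.2 ⟨h.flat_appLE hU hV e, fun p => ?_⟩
  let x : (U : X.Opens).toScheme := hU.isoSpec.inv p
  have hp : hU.primeIdealOf ⟨x.1, x.2⟩ = p := by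
    change hU.isoSpec.hom (hU.isoSpec.inv p) = p
    rw [← Scheme.Hom.comp_apply, Iso.inv_hom_id]
    rfl
  obtain ⟨w, hw, hwx⟩ := hsurj x.1 x.2
  refine ⟨hV.primeIdealOf ⟨w, hw⟩, ?_⟩
  rw [IsAffineOpen.comap_primeIdealOf_appLE U hU V hV e hw, ← hp]
  congr 1
  exact Subtype.ext hwx

theorem atN_of_baseChange {X Y X' Y' : Scheme.{u}} (i : Y ⟶ X) [IsImmersion i] (g : X' ⟶ X) [Flat g]
    [Surjective g] [QuasiCompact g] (i' : Y' ⟶ X') (g' : Y' ⟶ Y) (hsq : IsPullback g' i' i g)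
    (hi' : RegImm.IsRegularImmersion .koszul i') (y : Y) : ∃ n, AtN n i y := by
  obtain ⟨⟨U, hU⟩, hyU, -, hcl⟩ := exists_closed_chart i y (O := ⊤) trivial
  haveI : CompactSpace (g ⁻¹ᵁ U).toScheme :=
    isCompact_iff_compactSpace.1 (g.isCompact_preimage hU.isCompact)
  obtain ⟨W, p, hps, hp, hWaff⟩ :=
    (g ⁻¹ᵁ U).toScheme.exists_hom_isAffine_of_isZariskiLocalAtSource @IsLocalIso
  haveI := hps
  haveI := hWaff
  haveI : Flat p := IsLocalIso.le_of_isZariskiLocalAtSource @Flat _ _ p hp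
  let q : W ⟶ X' := p ≫ (g ⁻¹ᵁ U).ι
  let Y'' := pullback i' q
  have hbig : IsPullback (pullback.fst i' q ≫ g') (pullback.snd i' q) i (q ≫ g) :=
    (IsPullback.of_hasPullback i' q).paste_horiz hsq
  obtain ⟨-, hk⟩ := (isRegularImmersion_iff _).1
    (KRBase.isRegularImmersion_baseChange i' q (pullback.snd i' q) (pullback.fst i' q)
      (IsPullback.of_hasPullback i' q) hi')
  have htop : IsAffineOpen (⊤ : W.Opens) := isAffineOpen_top W
  have hle : (⊤ : W.Opens) ≤ (q ≫ g) ⁻¹ᵁ U := fun w _ => (p w).2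
  obtain ⟨hcl', hker⟩ := ker_baseChange i (q ≫ g) (pullback.snd i' q) _ hbig hU hcl htop hle
  have hsurj : ∀ x ∈ U, ∃ w ∈ (⊤ : W.Opens), (q ≫ g) w = x := by
    intro x hx
    obtain ⟨x', rfl⟩ := g.surjective x
    obtain ⟨w, hw⟩ := p.surjective ⟨x', hx⟩
    exact ⟨w, trivial, congrArg (fun v : (g ⁻¹ᵁ U).toScheme => g v.1) hw⟩
  have hff := faithfullyFlat_appLE (q ≫ g) hU htop hle hsurj
  algebraize [((q ≫ g).appLE U ⊤ hle).hom]
  haveI : Module.FaithfullyFlat Γ(X, U) Γ(W, ⊤) := RingHom.faithfullyFlat_algebraMap_iff.1 hff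
  obtain ⟨n, hn⟩ := KRDescent.exists_genLoc (A := Γ(X, U)) (B := Γ(W, ⊤)) (I := RingHom.ker (i.app U).hom)
    (fun Q hQ => by
      have := exists_genLoc_of_chart _ hk htop hcl' Q (hker.le.trans hQ)
      rwa [hker] at this) (hU.primeIdealOf ⟨i y, hyU⟩) (by
      intro a ha
      obtain ⟨hW, -⟩ := isAffine_preimage i hU hcl
      rw [← mem_prime_app_iff i hU hW le_rfl y hyU a, ← Scheme.Hom.app_eq_appLE, RingHom.mem_ker.1 ha]
      exact zero_mem _)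
  exact ⟨n, atN_of_genAt hU hcl hyU hn⟩

end Groth.Agent.Lib.Synt92.KRDescentScheme
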