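import Mathlib.RingTheory.Flat.Equalizer
import Mathlib.RingTheory.Flat.Stability
import Mathlib.RingTheory.Regular.RegularSequence
import Mathlib.RingTheory.IsTensorProduct
import Mathlib.RingTheory.TensorProduct.Quotient

/-!
# Regular sequences with flat quotients survive base change
-/

universe u

open RingTheory.Sequence TensorProduct
open scoped Pointwise

namespace Groth.Agent.Lib.Synt92.BaseChangeSeq

variable {A : Type u} [CommRing A] (A' : Type u) [CommRing A'] [Algebra A A']
  {S : Type u} [CommRing S] [Algebra A S]

/-- A weakly regular sequence with flat quotients stays weakly regular after base change. -/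
theorem isWeaklyRegular (N : Type u) [AddCommGroup N] [Module S N] [Module A N] [IsScalarTower A S N]
    (rs : List S) (h : IsWeaklyRegular N rs)
    (hflat : ∀ i, Module.Flat A (N ⧸ Ideal.ofList (rs.take i) • (⊤ : Submodule S N))) :
    IsWeaklyRegular (N ⊗[A] A') rs := by
  induction rs generalizing N with
  | nil => exact IsWeaklyRegular.nil _ _
  | cons g rs ih =>
    rw [isWeaklyRegular_cons_iff] at h ⊢
    have hfl : ∀ i, Module.Flat A
        (QuotSMulTop g N ⧸ Ideal.ofList (rs.take i) • (⊤ : Submodule S (QuotSMulTop g N))) := by
      intro i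
      haveI : Module.Flat A (N ⧸ Ideal.ofList (g :: rs.take i) • (⊤ : Submodule S N)) := by
        have h' := hflat (i + 1)
        rwa [List.take_succ_cons] at h'
      exact Module.Flat.of_linearEquiv
        ((Submodule.quotOfListConsSMulTopEquivQuotSMulTopInner N g (rs.take i)).restrictScalars A).symm
    haveI : Module.Flat A (QuotSMulTop g N) := by
      haveI := hfl 0
      refine Module.Flat.of_linearEquiv
        (M := QuotSMulTop g N ⧸ Ideal.ofList (rs.take 0) • (⊤ : Submodule S (QuotSMulTop g N)))
        ((Submodule.quotEquivOfEqBot _ ?_).restrictScalars A).symm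
      simp
    let u : N →ₗ[S] N := LinearMap.lsmul S N g
    let π : N →ₗ[S] QuotSMulTop g N := (g • (⊤ : Submodule S N)).mkQ
    have hex : Function.Exact u π := by
      intro x
      rw [show π x = 0 ↔ x ∈ g • (⊤ : Submodule S N) from Submodule.Quotient.mk_eq_zero _,
        Submodule.mem_smul_pointwise_iff_exists]
      simp [u]
    have hπ : Function.Surjective (π.restrictScalars A) := fun y =>
      Submodule.Quotient.mk_surjective (g • (⊤ : Submodule S N)) y
    have hinj : Function.Injective ((u.restrictScalars A).rTensor A') := by
      have h1 := LinearMap.lTensor_injective_of_exact_of_flat (π.restrictScalars A)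
        hπ (u.restrictScalars A) h.1 hex A'
      intro x y hxy
      have h2 : (u.restrictScalars A).lTensor A' (TensorProduct.comm A N A' x) =
          (u.restrictScalars A).lTensor A' (TensorProduct.comm A N A' y) := by
        have hc : ∀ z, (u.restrictScalars A).lTensor A' (TensorProduct.comm A N A' z) =
            TensorProduct.comm A N A' ((u.restrictScalars A).rTensor A' z) := fun z => by
          induction z using TensorProduct.induction_on with
          | zero => simp
          | tmul a b => simp
          | add a b ha hb => simp only [map_add, ha, hb]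
        rw [hc, hc, hxy]
      exact (TensorProduct.comm A N A').injective (h1 h2)
    have hsmul : ∀ z : N ⊗[A] A', g • z = (u.restrictScalars A).rTensor A' z := fun z => by
      induction z using TensorProduct.induction_on with
      | zero => simp
      | tmul a b => simp [u, TensorProduct.smul_tmul']
      | add a b ha hb => simp only [smul_add, map_add, ha, hb]
    refine ⟨fun x y hxy => hinj (by simpa [hsmul] using hxy), ?_⟩
    let q : N ⊗[A] A' →ₗ[S] QuotSMulTop g N ⊗[A] A' := AlgebraTensorModule.map π (LinearMap.id)
    have hqs : Function.Surjective q :=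
      LinearMap.rTensor_surjective (g := π.restrictScalars A) A' hπ
    have hker : g • (⊤ : Submodule S (N ⊗[A] A')) = LinearMap.ker q := by
      ext z
      rw [Submodule.mem_smul_pointwise_iff_exists, LinearMap.mem_ker]
      have := (rTensor_exact A' (f := u.restrictScalars A) (g := π.restrictScalars A) hex hπ) z
      rw [show q z = (π.restrictScalars A).rTensor A' z from rfl, this]
      constructor
      · rintro ⟨b, -, rfl⟩; exact ⟨b, (hsmul b).symm⟩
      · rintro ⟨b, rfl⟩; exact ⟨b, trivial, hsmul b⟩
    exact (((Submodule.quotEquivOfEq _ _ hker).trans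
      (q.quotKerEquivOfSurjective hqs)).isWeaklyRegular_congr rs).2 (ih _ h.2 hfl)

/-- Weak regularity of the images in a pushout ring. -/
theorem of_isPushout {T : Type u} [CommRing T] [Algebra A T] [Algebra A' T] [Algebra S T]
    [IsScalarTower A A' T] [IsScalarTower A S T] [Algebra.IsPushout A S A' T]
    (rs : List S) (h : IsWeaklyRegular S rs)
    (hflat : ∀ i, Module.Flat A (S ⧸ Ideal.ofList (rs.take i))) :
    IsWeaklyRegular T (rs.map (algebraMap S T)) ∧
      ∀ i, Module.Flat A' (T ⧸ Ideal.ofList ((rs.map (algebraMap S T)).take i)) := by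
  let e : S ⊗[A] A' ≃ₐ[S] T := Algebra.IsPushout.equiv A S A' T
  have hflat' : ∀ i, Module.Flat A (S ⧸ Ideal.ofList (rs.take i) • (⊤ : Submodule S S)) := fun i => by
    haveI := hflat i
    have hJ : (Ideal.ofList (rs.take i) • (⊤ : Submodule S S) : Submodule S S) = Ideal.ofList (rs.take i) := by
      rw [smul_eq_mul, ← Ideal.one_eq_top, mul_one]
    exact Module.Flat.of_linearEquiv ((Submodule.quotEquivOfEq _ _ hJ).restrictScalars A)
  refine ⟨(isWeaklyRegular_map_algebraMap_iff T T rs).2
    ((e.toLinearEquiv.isWeaklyRegular_congr rs).1 (isWeaklyRegular A' S rs h hflat')), fun i => ?_⟩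
  haveI := hflat i
  rw [← List.map_take, ← Ideal.map_ofList]
  set J := Ideal.ofList (rs.take i)
  haveI : Algebra.IsPushout A A' S T := Algebra.IsPushout.symm inferInstance
  let f : A' ⊗[A] S ≃ₐ[A'] T := Algebra.IsPushout.equiv A A' S T
  refine Module.Flat.of_linearEquiv
    ((Algebra.TensorProduct.tensorQuotientEquiv (R := A) A' S A' J).toLinearEquiv ≪≫ₗ
      (Ideal.quotientEquivAlg _ (J.map (algebraMap S T)) f ?_).toLinearEquiv).symm
  simp only [J, Ideal.ofList, Ideal.map_span, ← Set.image_comp]
  congr 2
  ext x
  simp [f, Algebra.IsPushout.equiv_tmul]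

end Groth.Agent.Lib.Synt92.BaseChangeSeq
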