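import Groth.Agent.Lib.Synt92.KRSmooth

/-! Koszul-regular kernels of presentations. -/

set_option autoImplicit false

universe u

open scoped TensorProduct

namespace Groth.Agent.Lib.Synt92.KRIdeal

open KRLoc

theorem isKoszulRegularIdeal_iff {A : Type u} [CommRing A] (I : Ideal A) :
    LCI.IsKoszulRegularIdeal I ↔
      ∀ P : PrimeSpectrum A, I ≤ P.asIdeal → ∃ n, GenLoc n I P.asIdeal := by
  refine forall₂_congr fun P hP => ⟨fun ⟨g, hg, l, hl, e⟩ => ⟨l.length, g, hg, gen_of_list hl e⟩,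
    fun ⟨n, g, hg, h⟩ => ?_⟩
  obtain ⟨l, -, hl, e⟩ := exists_list h
  exact ⟨g, hg, l, hl, e⟩

theorem GenLoc.map_equiv {A B : Type u} [CommRing A] [CommRing B] (e : A ≃+* B) {n : ℕ} {I P : Ideal A}
    (h : GenLoc n I P) : GenLoc n (I.map e.toRingHom) (P.map e.toRingHom) := by
  obtain ⟨g, hg, hgen⟩ := h
  let S := Localization.Away (e g)
  let φ : A →+* S := (algebraMap B S).comp e.toRingHom
  letI := φ.toAlgebra
  haveI : Module.Flat A S := RingHom.Flat.comp (RingHom.Flat.of_bijective e.bijective)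
    (RingHom.flat_algebraMap_iff.2 (IsLocalization.flat _ (Submonoid.powers (e g))))
  refine ⟨e g, fun h' => hg ?_, ?_⟩
  · obtain ⟨a, ha, hae⟩ := (Ideal.mem_map_iff_of_surjective e.toRingHom e.surjective).1 h'
    exact e.injective hae ▸ ha
  · rw [Ideal.map_map]
    exact gen_of_isUnit g (Localization.Away g) hgen S (IsLocalization.Away.algebraMap_isUnit (S := S) (e g))

/-- The kernels of two smooth covers are Koszul regular together. -/
theorem isKoszulRegularIdeal_of_presentation {A P₁ P₂ B : Type u} [CommRing A] [CommRing P₁] [CommRing P₂]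
    [CommRing B] [Algebra A P₁] [Algebra A P₂] [Algebra A B] [Algebra.Smooth A P₁] [Algebra.Smooth A P₂]
    (α : P₁ →ₐ[A] B) (hα : Function.Surjective α) (β : P₂ →ₐ[A] B) (hβ : Function.Surjective β)
    (h : LCI.IsKoszulRegularIdeal (RingHom.ker α.toRingHom)) :
    LCI.IsKoszulRegularIdeal (RingHom.ker β.toRingHom) := by
  rw [isKoszulRegularIdeal_iff] at h ⊢
  intro P hP
  let W := P₁ ⊗[A] P₂
  let ψ : W →ₐ[A] B := Algebra.TensorProduct.lift α β fun _ _ => mul_comm _ _
  have hψr : ∀ y, ψ (1 ⊗ₜ y) = β y := fun y => by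
    change Algebra.TensorProduct.lift α β (fun _ _ => mul_comm _ _) ((1 : P₁) ⊗ₜ[A] y) = β y
    rw [Algebra.TensorProduct.lift_tmul, map_one, one_mul]
  have hψl : ∀ x, ψ (x ⊗ₜ 1) = α x := fun x => by
    change Algebra.TensorProduct.lift α β (fun _ _ => mul_comm _ _) (x ⊗ₜ[A] (1 : P₂)) = α x
    rw [Algebra.TensorProduct.lift_tmul, map_one, mul_one]
  -- the prime of `B` and the primes above
  haveI := P.isPrime
  let QB := P.asIdeal.map β.toRingHom
  haveI hQB : QB.IsPrime := Ideal.map_isPrime_of_surjective hβ hP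
  let Q : Ideal W := QB.comap ψ.toRingHom
  haveI : Q.IsPrime := Ideal.IsPrime.comap _
  have hQ : RingHom.ker ψ.toRingHom ≤ Q := fun x hx => by
    change ψ x ∈ QB
    rw [show ψ x = 0 from hx]
    exact zero_mem _
  -- from the first presentation to the product
  obtain ⟨m, hm⟩ : ∃ m, GenLoc m (RingHom.ker ψ.toRingHom) Q := by
    letI : Algebra P₁ B := α.toRingHom.toAlgebra
    let ψ₁ : W →ₐ[P₁] B := { ψ.toRingHom with commutes' := fun x => hψl x }
    obtain ⟨n, hn⟩ := h ⟨QB.comap α.toRingHom, Ideal.IsPrime.comap _⟩ fun x hx => by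
      change α x ∈ QB
      rw [show α x = 0 from hx]
      exact zero_mem _
    have e : Q.under P₁ = QB.comap α.toRingHom := by
      ext x
      change ψ (x ⊗ₜ 1) ∈ QB ↔ α x ∈ QB
      rw [hψl]
    obtain ⟨m, hm⟩ := KRSmooth.genLoc_up (A := P₁) (B := W) (C := B) hα ψ₁ Q hQ (n := n) (by rw [e]; exact hn)
    exact ⟨n + m, hm⟩
  -- and down to the second one
  letI : Algebra P₂ B := β.toRingHom.toAlgebra
  let W' := P₂ ⊗[A] P₁
  let σ : W ≃ₐ[A] W' := Algebra.TensorProduct.comm A P₁ P₂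
  let ψ' : W' →ₐ[A] B := ψ.comp σ.symm.toAlgHom
  have hc : ∀ y : P₂, ψ' (y ⊗ₜ 1) = β y := fun y =>
    (congrArg ψ (Algebra.TensorProduct.comm_symm_tmul (R := A) (A := P₁) (B := P₂) 1 y)).trans (hψr y)
  let ψ₂ : W' →ₐ[P₂] B := { ψ'.toRingHom with commutes' := hc }
  have hσ : GenLoc m ((RingHom.ker ψ.toRingHom).map σ.toRingEquiv.toRingHom) (Q.map σ.toRingEquiv.toRingHom) :=
    GenLoc.map_equiv _ hm
  have e1 : (RingHom.ker ψ.toRingHom).map σ.toRingEquiv.toRingHom = RingHom.ker ψ₂.toRingHom := by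
    ext x
    rw [Ideal.mem_map_iff_of_surjective σ.toRingEquiv.toRingHom σ.surjective]
    constructor
    · rintro ⟨w, hw, rfl⟩
      change ψ (σ.symm (σ w)) = 0
      rw [AlgEquiv.symm_apply_apply]
      exact hw
    · intro hx
      exact ⟨σ.symm x, hx, σ.apply_symm_apply x⟩
  rw [e1] at hσ
  haveI : (Q.map σ.toRingEquiv.toRingHom).IsPrime := Ideal.map_isPrime_of_equiv σ.toRingEquiv
  obtain ⟨e, he⟩ := KRSmooth.genLoc_down (A := P₂) (B := W') (C := B) hβ ψ₂ (Q.map σ.toRingEquiv.toRingHom)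
    (e1 ▸ Ideal.map_mono hQ) hσ
  refine ⟨e, ?_⟩
  convert he using 1
  · rfl
  ext y
  rw [Ideal.mem_comap, Ideal.mem_map_iff_of_surjective σ.toRingEquiv.toRingHom σ.surjective]
  constructor
  · intro hy
    refine ⟨(1 : P₁) ⊗ₜ y, ?_, ?_⟩
    · change ψ (1 ⊗ₜ y) ∈ QB
      rw [hψr]
      exact Ideal.mem_map_of_mem _ hy
    · exact Algebra.TensorProduct.comm_tmul A (1 : P₁) y
  · rintro ⟨w, hw, hwy⟩
    have : ψ w = β y := by
      have h1 : w = σ.symm (y ⊗ₜ 1) := σ.injective (by rw [AlgEquiv.apply_symm_apply]; exact hwy)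
      rw [h1]
      exact ψ₂.commutes y
    have hy : β y ∈ QB := this ▸ hw
    obtain ⟨z, hz, hze⟩ := (Ideal.mem_map_iff_of_surjective β.toRingHom hβ).1 hy
    have h2 : y - z ∈ P.asIdeal := hP (by
      change β (y - z) = 0
      rw [map_sub]
      exact sub_eq_zero.2 hze.symm)
    simpa using add_mem h2 hz

end Groth.Agent.Lib.Synt92.KRIdeal
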