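import Groth.Agent.Lib.Synt92.KRMor
import Groth.Agent.Lib.Synt92.KRIdeal

/-! Koszul-regular immersions between affine schemes. -/

set_option autoImplicit false

universe u

open CategoryTheory AlgebraicGeometry

namespace Groth.Agent.Lib.Synt92.KRSpec

open KRLoc KRImm

theorem isClosedImmersion_specMap {B D : CommRingCat.{u}} (φ : B ⟶ D) (hφ : Function.Surjective φ.hom) :
    IsClosedImmersion (Spec.map φ) := IsClosedImmersion.spec_of_surjective φ hφ

theorem atN_specMap_iff {B D : CommRingCat.{u}} (φ : B ⟶ D) (hφ : Function.Surjective φ.hom)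
    (q : Spec D) (n : ℕ) :
    AtN n (Spec.map φ) q ↔ GenLoc n (RingHom.ker φ.hom) (q.asIdeal.comap φ.hom) := by
  haveI := isClosedImmersion_specMap φ hφ
  let i := Spec.map φ
  have hU : IsAffineOpen (⊤ : (Spec B).Opens) := isAffineOpen_top _
  have hcl : IsClosedImmersion (i ∣_ (⊤ : (Spec B).Opens)) :=
    IsZariskiLocalAtTarget.restrict (P := @IsClosedImmersion) (inferInstanceAs (IsClosedImmersion i)) _
  let e : Γ(Spec B, ⊤) ≃+* B := (Scheme.ΓSpecIso B).commRingCatIsoToRingEquiv
  have hnat : i.appTop ≫ (Scheme.ΓSpecIso D).hom = (Scheme.ΓSpecIso B).hom ≫ φ := Scheme.ΓSpecIso_naturality φ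
  have hker : (RingHom.ker (i.app ⊤).hom).map e.toRingHom = RingHom.ker φ.hom := by
    ext b
    rw [Ideal.mem_map_iff_of_surjective e.toRingHom e.surjective]
    constructor
    · rintro ⟨a, ha, rfl⟩
      have h1 : φ.hom (e a) = (Scheme.ΓSpecIso D).hom.hom ((i.app ⊤).hom a) :=
        (congrArg (fun ψ : Γ(Spec B, ⊤) ⟶ D => ψ.hom a) hnat).symm
      change φ.hom (e a) = 0
      exact h1.trans ((congrArg (Scheme.ΓSpecIso D).hom.hom (show (i.app ⊤).hom a = 0 from ha)).trans
        (map_zero (Scheme.ΓSpecIso D).hom.hom))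
    · intro hb
      refine ⟨e.symm b, ?_, e.apply_symm_apply b⟩
      have h1 : φ.hom (e (e.symm b)) = (Scheme.ΓSpecIso D).hom.hom ((i.app ⊤).hom (e.symm b)) :=
        (congrArg (fun ψ : Γ(Spec B, ⊤) ⟶ D => ψ.hom (e.symm b)) hnat).symm
      rw [e.apply_symm_apply, show φ.hom b = 0 from hb] at h1
      refine (ConcreteCategory.bijective_of_isIso (Scheme.ΓSpecIso D).hom).1 ?_
      exact h1.symm.trans (map_zero (Scheme.ΓSpecIso D).hom.hom).symm
  have hp : (hU.primeIdealOf ⟨i q, trivial⟩).asIdeal.map e.toRingHom = q.asIdeal.comap φ.hom := by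
    have key : ∀ b : B, e.symm b ∈ (hU.primeIdealOf ⟨i q, trivial⟩).asIdeal ↔ b ∈ q.asIdeal.comap φ.hom := by
      intro b
      rw [← not_iff_not, ← mem_basicOpen_iff]
      change i q ∈ (Spec B).basicOpen ((Scheme.ΓSpecIso B).inv.hom b) ↔ _
      erw [basicOpen_eq_of_affine]
      exact Iff.rfl
    ext b
    rw [Ideal.mem_map_iff_of_surjective e.toRingHom e.surjective, ← key]
    exact ⟨fun ⟨a, ha, hab⟩ => hab ▸ (show e.symm (e a) ∈ _ by rwa [e.symm_apply_apply]),
      fun h => ⟨_, h, e.apply_symm_apply b⟩⟩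
  constructor
  · intro h
    have := KRIdeal.GenLoc.map_equiv e (genAt_of_atN h hU hcl trivial)
    rwa [hker, hp] at this
  · intro h
    refine atN_of_genAt hU hcl trivial ?_
    have := KRIdeal.GenLoc.map_equiv e.symm h
    rw [← hker, ← hp, Ideal.map_map, Ideal.map_map,
      show e.symm.toRingHom.comp e.toRingHom = RingHom.id _ from RingHom.ext e.symm_apply_apply,
      Ideal.map_id, Ideal.map_id] at this
    exact this

end Groth.Agent.Lib.Synt92.KRSpec
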