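import Groth.Agent.Lib.Synt92.CIInv
import Groth.Prelude.Def_RegImm
import Mathlib.RingTheory.EssentialFiniteness
import Mathlib.RingTheory.RegularLocalRing.Polynomial
import Mathlib.Algebra.MvPolynomial.Equiv

/-!
# Independence of the presentation of a complete intersection
-/

universe u

open MvPolynomial IsLocalRing RingTheory.Sequence

namespace Groth.Agent.Lib.Synt92.CIPres

variable {k : Type u} [Field k]

/-- The kernel is generated by a regular sequence. -/
def HasRS {R S : Type u} [CommRing R] [CommRing S] (π : R →+* S) : Prop :=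
  ∃ rs : List R, IsRegular R rs ∧ RingHom.ker π = Ideal.ofList rs

/-- Localisations of polynomial rings are regular. -/
instance regular_localPoly {n : ℕ} (Q : Ideal (MvPolynomial (Fin n) k)) [Q.IsPrime] :
    IsRegularLocalRing (Localization.AtPrime Q) := inferInstance

/-- The map from the local ring of affine space at the point given by elements of a local algebra. -/
theorem exists_localPoly_hom {S : Type u} [CommRing S] [IsLocalRing S] [Algebra k S] {n : ℕ}
    (v : Fin n → S) :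
    ∃ (Q : Ideal (MvPolynomial (Fin n) k)) (_ : Q.IsPrime) (π : Localization.AtPrime Q →ₐ[k] S),
      IsLocalHom π.toRingHom ∧ ∀ x : MvPolynomial (Fin n) k,
        π (algebraMap (MvPolynomial (Fin n) k) (Localization.AtPrime Q) x) = aeval v x := by
  let Q := (maximalIdeal S).comap (aeval v : MvPolynomial (Fin n) k →ₐ[k] S).toRingHom
  haveI : Q.IsPrime := Ideal.IsPrime.comap _
  have hu : ∀ y : Q.primeCompl, IsUnit ((aeval v : MvPolynomial (Fin n) k →ₐ[k] S) y) := fun y => by
    by_contra h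
    exact y.2 ((mem_maximalIdeal _).2 h)
  refine ⟨Q, inferInstance, IsLocalization.liftAlgHom (A := k) (S := Localization.AtPrime Q) hu, ⟨fun a ha => ?_⟩,
    fun x => IsLocalization.lift_eq _ x⟩
  obtain ⟨⟨x, s⟩, hxs⟩ := IsLocalization.surj Q.primeCompl a
  have hx : IsUnit (aeval v x) := by
    have h := congrArg (IsLocalization.liftAlgHom (A := k) (S := Localization.AtPrime Q) hu) hxs
    rw [map_mul] at h
    simp only [IsLocalization.liftAlgHom_apply, IsLocalization.lift_eq] at h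
    change IsUnit ((IsLocalization.liftAlgHom (A := k) (S := Localization.AtPrime Q) hu) a) at ha
    rw [IsLocalization.liftAlgHom_apply] at ha
    exact h ▸ ha.mul (hu s)
  have hxQ : x ∈ Q.primeCompl := fun h => IsLocalRing.notMem_maximalIdeal.2 hx h
  have := IsLocalization.map_units (Localization.AtPrime Q) (⟨x, hxQ⟩ : Q.primeCompl)
  rw [← hxs] at this
  exact isUnit_of_mul_isUnit_left this

/-- An essentially finite type local algebra is a quotient of a local ring of affine space. -/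
theorem exists_gens (S : Type u) [CommRing S] [Algebra k S] [Algebra.EssFiniteType k S] :
    ∃ (n : ℕ) (v : Fin n → S), ∀ s : S, ∃ x t : MvPolynomial (Fin n) k,
      IsUnit (aeval v t) ∧ s * aeval v t = aeval v x := by
  obtain ⟨σ, hσ⟩ := (Algebra.essFiniteType_iff k S).1 ‹_›
  refine ⟨σ.card, fun i => σ.equivFin.symm i, fun s => ?_⟩
  obtain ⟨t, ht, hu, hst⟩ := hσ s
  have e : (σ : Set S) = Set.range fun i => ((σ.equivFin.symm i : σ) : S) := by
    ext x
    exact ⟨fun hx => ⟨σ.equivFin ⟨x, hx⟩, by simp⟩, fun ⟨i, hi⟩ => hi ▸ (σ.equivFin.symm i).2⟩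
  rw [e, Algebra.adjoin_range_eq_range_aeval] at ht hst
  obtain ⟨t, rfl⟩ := ht
  obtain ⟨x, hx⟩ := hst
  exact ⟨x, t, hu, hx.symm⟩

/-- A map from a local ring of affine space hitting local generators is surjective. -/
theorem surjective_of_gens {S : Type u} [CommRing S] [Algebra k S] {n : ℕ} {v : Fin n → S}
    (hv : ∀ s : S, ∃ x t : MvPolynomial (Fin n) k, IsUnit (aeval v t) ∧ s * aeval v t = aeval v x)
    {R : Type u} [CommRing R] [IsLocalRing R] [Algebra k R] (π : R →ₐ[k] S) [IsLocalHom π.toRingHom]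
    (w : Fin n → R) (hw : ∀ i, π (w i) = v i) : Function.Surjective π := by
  intro s
  obtain ⟨x, t, hu, h⟩ := hv s
  have e : ∀ y, π (aeval w y) = aeval v y := fun y => by
    rw [← AlgHom.comp_apply, comp_aeval]
    simp only [hw]
  have ht : IsUnit (aeval w t) :=
    (isUnit_map_iff π.toRingHom _).1 (show IsUnit (π (aeval w t)) by rw [e]; exact hu)
  refine ⟨aeval w x * ↑ht.unit⁻¹, ?_⟩
  refine hu.mul_right_cancel ?_
  conv_lhs => rw [← e t, ← map_mul, mul_assoc, ht.val_inv_mul, mul_one, e]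
  exact h.symm

theorem exists_presentation (S : Type u) [CommRing S] [IsLocalRing S] [Algebra k S]
    [Algebra.EssFiniteType k S] :
    ∃ (n : ℕ) (Q : Ideal (MvPolynomial (Fin n) k)) (_ : Q.IsPrime)
      (π : Localization.AtPrime Q →ₐ[k] S), Function.Surjective π := by
  obtain ⟨n, v, hv⟩ := exists_gens (k := k) S
  obtain ⟨Q, hQ, π, hloc, hπ⟩ := exists_localPoly_hom (k := k) v
  exact ⟨n, Q, hQ, π, surjective_of_gens hv π (fun i => algebraMap _ _ (X i)) fun i => by
    rw [hπ, aeval_X]⟩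

/-- Whether the kernel is generated by a regular sequence does not depend on the regular local
ring mapping onto the algebra. -/
theorem hasRS_iff {S : Type u} [CommRing S] [IsLocalRing S] [Algebra k S]
    {R₁ : Type u} [CommRing R₁] [IsRegularLocalRing R₁] [Algebra k R₁] [Algebra.EssFiniteType k R₁]
    {R₂ : Type u} [CommRing R₂] [IsRegularLocalRing R₂] [Algebra k R₂] [Algebra.EssFiniteType k R₂]
    (π₁ : R₁ →ₐ[k] S) (h₁ : Function.Surjective π₁) (π₂ : R₂ →ₐ[k] S) (h₂ : Function.Surjective π₂) :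
    HasRS π₁.toRingHom ↔ HasRS π₂.toRingHom := by
  haveI : IsLocalHom π₁.toRingHom := IsLocalHom.of_surjective _ h₁
  haveI : IsLocalHom π₂.toRingHom := IsLocalHom.of_surjective _ h₂
  obtain ⟨a, v₁, hv₁⟩ := exists_gens (k := k) R₁
  obtain ⟨b, v₂, hv₂⟩ := exists_gens (k := k) R₂
  choose g₁ hg₁ using fun j => h₁ (π₂ (v₂ j))
  choose g₂ hg₂ using fun i => h₂ (π₁ (v₁ i))
  let w₁ : Fin (a + b) → R₁ := Fin.append v₁ g₁
  let w₂ : Fin (a + b) → R₂ := Fin.append g₂ v₂
  have hw : ∀ i, π₁ (w₁ i) = π₂ (w₂ i) := fun i =>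
    Fin.addCases (fun i => by simp [w₁, w₂, hg₂]) (fun j => by simp [w₁, w₂, hg₁]) i
  obtain ⟨Q₁, hQ₁, ρ₁, hl₁, hρ₁⟩ := exists_localPoly_hom (k := k) w₁
  obtain ⟨Q₂, hQ₂, ρ₂, hl₂, hρ₂⟩ := exists_localPoly_hom (k := k) w₂
  have hcomm : ∀ x, π₁ (aeval w₁ x) = π₂ (aeval w₂ x) := fun x => by
    rw [← AlgHom.comp_apply, ← AlgHom.comp_apply π₂, comp_aeval, comp_aeval]
    simp only [hw]
  have hQ : Q₁ = Q₂ := by
    ext x
    have e1 : x ∈ Q₁ ↔ ¬ IsUnit (ρ₁ (algebraMap _ _ x)) := by
      rw [show IsUnit (ρ₁ (algebraMap _ _ x)) ↔ _ from isUnit_map_iff ρ₁.toRingHom _,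
        IsLocalization.AtPrime.isUnit_to_map_iff _ Q₁, Ideal.mem_primeCompl_iff, not_not]
    have e2 : x ∈ Q₂ ↔ ¬ IsUnit (ρ₂ (algebraMap _ _ x)) := by
      rw [show IsUnit (ρ₂ (algebraMap _ _ x)) ↔ _ from isUnit_map_iff ρ₂.toRingHom _,
        IsLocalization.AtPrime.isUnit_to_map_iff _ Q₂, Ideal.mem_primeCompl_iff, not_not]
    rw [e1, e2, hρ₁, hρ₂, ← isUnit_map_iff π₁.toRingHom, ← isUnit_map_iff π₂.toRingHom]
    exact not_congr (by rw [show π₁.toRingHom (aeval w₁ x) = π₂.toRingHom (aeval w₂ x) from hcomm x])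
  subst hQ
  have s₁ : Function.Surjective ρ₁ := surjective_of_gens hv₁ ρ₁
    (fun i => algebraMap _ _ (X (Fin.castAdd b i))) fun i => by rw [hρ₁, aeval_X]; simp [w₁]
  have s₂ : Function.Surjective ρ₂ := surjective_of_gens hv₂ ρ₂
    (fun j => algebraMap _ _ (X (Fin.natAdd a j))) fun i => by rw [hρ₂, aeval_X]; simp [w₂]
  have hcomp : π₁.comp ρ₁ = π₂.comp ρ₂ :=
    IsLocalization.algHom_ext Q₁.primeCompl (AlgHom.ext fun x => by
      change π₁ (ρ₁ (algebraMap _ _ x)) = π₂ (ρ₂ (algebraMap _ _ x))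
      rw [hρ₁, hρ₂, hcomm])
  have hne₁ : RingHom.ker π₁.toRingHom ≠ ⊤ := RingHom.ker_ne_top _
  have hne₂ : RingHom.ker π₂.toRingHom ≠ ⊤ := RingHom.ker_ne_top _
  unfold HasRS
  rw [← CIInv.regular_comap_iff ρ₁.toRingHom s₁ _ hne₁, ← CIInv.regular_comap_iff ρ₂.toRingHom s₂ _ hne₂,
    RingHom.comap_ker, RingHom.comap_ker]
  rw [show π₁.toRingHom.comp ρ₁.toRingHom = π₂.toRingHom.comp ρ₂.toRingHom from
    congrArg AlgHom.toRingHom hcomp]

/-- A complete intersection presented by any regular local ring has kernel generated by a regular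
sequence, and conversely. -/
theorem isCIOver_iff (S : Type u) [CommRing S] [IsLocalRing S] [Algebra k S]
    (R : Type u) [CommRing R] [IsRegularLocalRing R] [Algebra k R] [Algebra.EssFiniteType k R]
    (π : R →ₐ[k] S) (hπ : Function.Surjective π) :
    Synt.IsCIOver k S ↔ HasRS π.toRingHom := by
  constructor
  · rintro ⟨R', _, _, _, _, rs, _, hreg, ⟨e⟩⟩
    have h : HasRS (e.symm.toAlgHom.comp (Ideal.Quotient.mkₐ k (Ideal.ofList rs))).toRingHom :=
      ⟨rs, hreg, by
        ext x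
        simp [RingHom.mem_ker, Ideal.Quotient.eq_zero_iff_mem]⟩
    refine (hasRS_iff _ ?_ π hπ).1 h
    exact e.symm.surjective.comp Ideal.Quotient.mk_surjective
  · rintro ⟨rs, hreg, hker⟩
    refine ⟨R, inferInstance, inferInstance, inferInstance, inferInstance, rs,
      fun r hr => le_maximalIdeal (RingHom.ker_ne_top π.toRingHom) (hker ▸ Ideal.subset_span hr),
      hreg, ⟨(Ideal.quotientKerAlgEquivOfSurjective hπ).symm.trans
        (Ideal.quotientEquivAlgOfEq k hker)⟩⟩

end Groth.Agent.Lib.Synt92.CIPres
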