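import Mathlib.RingTheory.Localization.AtPrime.Basic
import Mathlib.RingTheory.Localization.Algebra
import Mathlib.RingTheory.Ideal.Operations

/-!
# Local rings of quotients
-/

universe u

namespace Groth.Agent.Lib.Synt92.LocalQuot

/-- The local ring of a quotient is the quotient of the local ring. -/
theorem exists_hom {k P A : Type u} [CommRing k] [CommRing P] [CommRing A] [Algebra k P] [Algebra k A]
    (φ : P →ₐ[k] A) (hφ : Function.Surjective φ) (a : Ideal A) [a.IsPrime]
    (S : Type u) [CommRing S] [Algebra A S] [IsLocalization.AtPrime S a] [Algebra k S]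
    [IsScalarTower k A S] :
    ∃ π : Localization.AtPrime (a.comap φ.toRingHom) →ₐ[k] S, Function.Surjective π ∧
      RingHom.ker π.toRingHom =
        (RingHom.ker φ.toRingHom).map (algebraMap P (Localization.AtPrime (a.comap φ.toRingHom))) ∧
      ∀ x, π (algebraMap P _ x) = algebraMap A S (φ x) := by
  set Q := a.comap φ.toRingHom
  have hT : Q.primeCompl.map φ.toRingHom = a.primeCompl := by
    ext y
    obtain ⟨x, rfl⟩ := hφ y
    exact ⟨fun ⟨z, hz, hzx⟩ h => hz (show φ.toRingHom z ∈ a from hzx.symm ▸ h),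
      fun h => ⟨x, h, rfl⟩⟩
  have hu : ∀ y : Q.primeCompl, IsUnit ((IsScalarTower.toAlgHom k A S).comp φ y) := fun y =>
    IsLocalization.map_units S (⟨φ y, y.2⟩ : a.primeCompl)
  let π : Localization.AtPrime Q →ₐ[k] S := IsLocalization.liftAlgHom (A := k) hu
  have hπ : ∀ x, π (algebraMap P _ x) = algebraMap A S (φ x) := fun x => IsLocalization.lift_eq hu x
  have e : π.toRingHom = IsLocalization.map (M := Q.primeCompl) (T := a.primeCompl) S φ.toRingHom
      (hT ▸ Q.primeCompl.le_comap_map) :=
    IsLocalization.ringHom_ext Q.primeCompl (RingHom.ext fun x => by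
      simp only [RingHom.comp_apply, IsLocalization.map_eq]
      exact hπ x)
  refine ⟨π, ?_, ?_, hπ⟩
  · haveI : IsLocalization (Q.primeCompl.map φ.toRingHom) S := by rw [hT]; infer_instance
    intro y
    obtain ⟨⟨b, s⟩, hbs⟩ := IsLocalization.surj a.primeCompl y
    obtain ⟨x, hx⟩ := hφ b
    obtain ⟨z, hz, hzs⟩ := (hT.symm ▸ s.2 : (s : A) ∈ Q.primeCompl.map φ.toRingHom)
    refine ⟨IsLocalization.mk' _ x (⟨z, hz⟩ : Q.primeCompl), ?_⟩
    refine (IsLocalization.map_units S s).mul_right_cancel (Eq.trans ?_ hbs.symm)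
    change π _ * algebraMap A S s = algebraMap A S b
    rw [← hzs, ← hx]
    change π _ * algebraMap A S (φ z) = algebraMap A S (φ x)
    rw [← hπ z, ← hπ x, ← map_mul]
    exact congrArg π (IsLocalization.mk'_spec _ x (⟨z, hz⟩ : Q.primeCompl))
  · rw [e]
    exact IsLocalization.ker_map (S := Localization.AtPrime Q) S φ.toRingHom hT

end Groth.Agent.Lib.Synt92.LocalQuot
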