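import Groth.Agent.Lib.Synt92.IsLCIOverBasic
import Groth.Prelude.Def_RegImm
import Mathlib.RingTheory.Localization.BaseChange
import Mathlib.RingTheory.Flat.Localization

/-!
# Transport of syntomic properties along isomorphisms
-/

universe u

open TensorProduct

namespace Groth.Agent.Lib.Synt92.Congr

theorem isLCIOver_congr {k : Type u} [Field k] {S T : Type u} [CommRing S] [Algebra k S] [CommRing T]
    [Algebra k T] (e : S ≃ₐ[k] T) (h : Synt.IsLCIOver k S) : Synt.IsLCIOver k T := by
  obtain ⟨hft, hloc⟩ := h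
  refine ⟨Algebra.FiniteType.equiv hft e, fun p => ?_⟩
  obtain ⟨g, hg, hCI⟩ := hloc (PrimeSpectrum.comap e.toAlgHom.toRingHom p)
  refine ⟨e g, hg, IsLCIOverBasic.isGlobalCI_congr k
    (IsLocalization.algEquivOfAlgEquiv (Localization.Away g) (Localization.Away (e g)) e
      (M := Submonoid.powers g) (T := Submonoid.powers (e g)) ?_) hCI⟩
  exact Submonoid.map_powers e g

theorem isSyntomic_congr {R S T : Type u} [CommRing R] [CommRing S] [Algebra R S] [CommRing T]
    [Algebra R T] (e : S ≃ₐ[R] T) (h : Synt.IsSyntomic R S) : Synt.IsSyntomic R T := by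
  obtain ⟨hfl, hfp, hfib⟩ := h
  exact ⟨Module.Flat.of_linearEquiv e.symm.toLinearEquiv, Algebra.FinitePresentation.equiv e,
    fun p => isLCIOver_congr
      (Algebra.TensorProduct.congr (R := R) (S := p.asIdeal.ResidueField) AlgEquiv.refl e) (hfib p)⟩

/-- Localising commutes with taking a fibre. -/
theorem exists_fiber_away {R S : Type u} [CommRing R] [CommRing S] [Algebra R S] (p : Ideal R)
    [p.IsPrime] (g : S) :
    ∃ E : Localization.Away ((1 : p.ResidueField) ⊗ₜ[R] g : p.Fiber S) ≃ₐ[p.ResidueField]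
      p.Fiber (Localization.Away g), ∀ s : S,
        E (algebraMap (p.Fiber S) _ ((1 : p.ResidueField) ⊗ₜ[R] s)) =
          (1 : p.ResidueField) ⊗ₜ[R] algebraMap S (Localization.Away g) s := by
  let f : p.Fiber S →ₐ[p.ResidueField] p.Fiber (Localization.Away g) :=
    Algebra.TensorProduct.map (AlgHom.id p.ResidueField p.ResidueField)
      (IsScalarTower.toAlgHom R S (Localization.Away g))
  have hu : ∀ y : Submonoid.powers ((1 : p.ResidueField) ⊗ₜ[R] g : p.Fiber S), IsUnit (f y) := by
    rintro ⟨_, m, rfl⟩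
    rw [map_pow]
    refine IsUnit.pow m ?_
    change IsUnit ((1 : p.ResidueField) ⊗ₜ[R] algebraMap S (Localization.Away g) g)
    exact (IsLocalization.Away.algebraMap_isUnit g).map
      (Algebra.TensorProduct.includeRight (R := R) (A := p.ResidueField) (B := Localization.Away g))
  let B := Localization.Away ((1 : p.ResidueField) ⊗ₜ[R] g : p.Fiber S)
  let α : B →ₐ[p.ResidueField] p.Fiber (Localization.Away g) :=
    IsLocalization.liftAlgHom (A := p.ResidueField) hu
  let j : p.Fiber S →ₐ[R] B := IsScalarTower.toAlgHom R _ _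
  let incl : S →ₐ[R] B := j.comp Algebra.TensorProduct.includeRight
  have hu' : ∀ y : Submonoid.powers g, IsUnit (incl y) := by
    rintro ⟨_, m, rfl⟩
    rw [map_pow]
    exact (IsLocalization.Away.algebraMap_isUnit ((1 : p.ResidueField) ⊗ₜ[R] g : p.Fiber S)).pow m
  let β : p.Fiber (Localization.Away g) →ₐ[p.ResidueField] B :=
    Algebra.TensorProduct.lift (Algebra.ofId _ _) (IsLocalization.liftAlgHom (A := R) hu')
      (fun _ _ => Commute.all _ _)
  refine ⟨AlgEquiv.ofAlgHom α β ?_ ?_, fun s => IsLocalization.lift_eq hu ((1 : p.ResidueField) ⊗ₜ[R] s)⟩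
  · refine Algebra.TensorProduct.ext (Subsingleton.elim _ _) ?_
    refine IsLocalization.algHom_ext (Submonoid.powers g) (AlgHom.ext fun s => ?_)
    change α (β ((1 : p.ResidueField) ⊗ₜ[R] algebraMap S (Localization.Away g) s)) =
      (1 : p.ResidueField) ⊗ₜ[R] algebraMap S (Localization.Away g) s
    rw [show β ((1 : p.ResidueField) ⊗ₜ[R] algebraMap S (Localization.Away g) s) = incl s by
      simp [β, IsLocalization.lift_eq]]
    exact IsLocalization.lift_eq hu ((1 : p.ResidueField) ⊗ₜ[R] s)
  · refine IsLocalization.algHom_ext (Submonoid.powers ((1 : p.ResidueField) ⊗ₜ[R] g : p.Fiber S)) ?_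
    refine Algebra.TensorProduct.ext (Subsingleton.elim _ _) (AlgHom.ext fun s => ?_)
    change β (α (algebraMap (p.Fiber S) B ((1 : p.ResidueField) ⊗ₜ[R] s))) = algebraMap (p.Fiber S) B ((1 : p.ResidueField) ⊗ₜ[R] s)
    rw [show α (algebraMap (p.Fiber S) B ((1 : p.ResidueField) ⊗ₜ[R] s)) = f ((1 : p.ResidueField) ⊗ₜ[R] s)
      from IsLocalization.lift_eq hu _]
    simp [f, β, IsLocalization.lift_eq, incl, j]

/-- A quotient by a smaller ideal agreeing on a basic open has the same basic open. -/
theorem nonempty_away_quotient {R P : Type u} [CommRing R] [CommRing P] [Algebra R P]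
    (I J : Ideal P) (hJI : J ≤ I) (g : P) (hg : ∀ y ∈ I, g * y ∈ J) :
    Nonempty (Localization.Away (Ideal.Quotient.mk J g) ≃ₐ[R] Localization.Away (Ideal.Quotient.mk I g)) := by
  let B := Localization.Away (Ideal.Quotient.mk J g)
  let f : (P ⧸ J) →ₐ[R] (P ⧸ I) := Ideal.Quotient.factorₐ R hJI
  have hf : ∀ x, f (Ideal.Quotient.mk J x) = Ideal.Quotient.mk I x := fun _ => rfl
  have hu : ∀ y : Submonoid.powers (Ideal.Quotient.mk J g),
      IsUnit ((IsScalarTower.toAlgHom R _ (Localization.Away (Ideal.Quotient.mk I g))).comp f y) := by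
    rintro ⟨_, m, rfl⟩
    rw [map_pow]
    exact ((IsLocalization.Away.algebraMap_isUnit (Ideal.Quotient.mk I g))).pow m
  let e : B →ₐ[R] Localization.Away (Ideal.Quotient.mk I g) :=
    IsLocalization.liftAlgHom (A := R) hu
  have he : ∀ y, e (algebraMap _ B y) = algebraMap _ _ (f y) := fun y => IsLocalization.lift_eq hu y
  refine ⟨AlgEquiv.ofBijective e ⟨(injective_iff_map_eq_zero e).2 fun z hz => ?_, fun z => ?_⟩⟩
  · obtain ⟨⟨y, ⟨_, m, rfl⟩⟩, hy⟩ := IsLocalization.surj (Submonoid.powers (Ideal.Quotient.mk J g)) z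
    obtain ⟨x, rfl⟩ := Ideal.Quotient.mk_surjective y
    have h2 := congrArg e hy
    rw [map_mul e, hz, zero_mul, he] at h2
    obtain ⟨⟨_, l, rfl⟩, hl⟩ := (IsLocalization.map_eq_zero_iff
      (Submonoid.powers (Ideal.Quotient.mk I g)) _ (Ideal.Quotient.mk I x)).1 h2.symm
    simp only [← map_pow, ← map_mul, Ideal.Quotient.eq_zero_iff_mem] at hl
    have hJ1 : g ^ (l + 1) * x ∈ J := by
      rw [show g ^ (l + 1) * x = g * (g ^ l * x) by ring]
      exact hg _ hl
    refine ((IsLocalization.map_units B (⟨_, m, rfl⟩ : Submonoid.powers (Ideal.Quotient.mk J g))).mul_left_eq_zero).1 ?_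
    rw [hy]
    refine (IsLocalization.map_eq_zero_iff (Submonoid.powers (Ideal.Quotient.mk J g)) _ _).2
      ⟨⟨_, l + 1, rfl⟩, ?_⟩
    simp only [← map_pow, ← map_mul, Ideal.Quotient.eq_zero_iff_mem]
    exact hJ1
  · obtain ⟨⟨y, ⟨_, m, rfl⟩⟩, hy⟩ := IsLocalization.surj (Submonoid.powers (Ideal.Quotient.mk I g)) z
    obtain ⟨x, rfl⟩ := Ideal.Quotient.mk_surjective y
    refine ⟨IsLocalization.mk' B (Ideal.Quotient.mk J x)
      (⟨_, m, rfl⟩ : Submonoid.powers (Ideal.Quotient.mk J g)), ?_⟩
    refine ((IsLocalization.Away.algebraMap_isUnit (Ideal.Quotient.mk I g)).pow m).mul_right_cancel ?_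
    rw [← map_pow, hy, show (Ideal.Quotient.mk I g) ^ m = f ((Ideal.Quotient.mk J g) ^ m) by
      rw [map_pow, hf], ← he, ← map_mul e, IsLocalization.mk'_spec, he, hf]

/-- Basic opens transport along isomorphisms. -/
theorem nonempty_away_congr {R A B : Type u} [CommRing R] [CommRing A] [Algebra R A] [CommRing B]
    [Algebra R B] (e : A ≃ₐ[R] B) (x : A) :
    Nonempty (Localization.Away x ≃ₐ[R] Localization.Away (e x)) :=
  ⟨IsLocalization.algEquivOfAlgEquiv (Localization.Away x) (Localization.Away (e x)) e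
    (M := Submonoid.powers x) (T := Submonoid.powers (e x)) (Submonoid.map_powers e x)⟩

/-- Local rings of a basic open. -/
theorem exists_equiv_away {k A : Type u} [CommRing k] [CommRing A] [Algebra k A] (g : A) (q : Ideal A)
    [q.IsPrime] (hg : g ∉ q) :
    ∃ (a : Ideal (Localization.Away g)) (_ : a.IsPrime),
      a.comap (algebraMap A (Localization.Away g)) = q ∧
      Nonempty (Localization.AtPrime a ≃ₐ[k] Localization.AtPrime q) := by
  have hd : Disjoint (Submonoid.powers g : Set A) q :=
    (Ideal.disjoint_powers_iff_notMem g (Ideal.IsPrime.isRadical ‹q.IsPrime›)).mpr hg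
  haveI hp : (q.map (algebraMap A (Localization.Away g))).IsPrime :=
    IsLocalization.isPrime_of_isPrime_disjoint (Submonoid.powers g) _ q ‹_› hd
  set a := q.map (algebraMap A (Localization.Away g))
  have hcomap : a.under A = q :=
    IsLocalization.under_map_of_isPrime_disjoint (Submonoid.powers g) _ ‹q.IsPrime› hd
  refine ⟨a, hp, hcomap, ?_⟩
  haveI : IsLocalization.AtPrime (Localization.AtPrime a) q := by
    have := IsLocalization.isLocalization_isLocalization_atPrime_isLocalization
      (Submonoid.powers g) (Localization.AtPrime a) a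
    simpa only [IsLocalization.AtPrime, Ideal.under, show a.comap (algebraMap A _) = q from hcomap] using this
  exact ⟨(IsLocalization.algEquiv q.primeCompl (Localization.AtPrime a) (Localization.AtPrime q)).restrictScalars k⟩

/-- A basic open of a basic open is a basic open. -/
theorem exists_away_away {k A : Type u} [CommRing k] [CommRing A] [Algebra k A] (g : A)
    (z : Localization.Away g) (q : Ideal (Localization.Away g)) [q.IsPrime] (hz : z ∉ q) :
    ∃ y : A, g * y ∉ q.comap (algebraMap A (Localization.Away g)) ∧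
      Nonempty (Localization.Away (g * y) ≃ₐ[k] Localization.Away z) := by
  obtain ⟨m, y, hy⟩ := IsLocalization.Away.surj g z
  have hu : IsUnit (algebraMap A (Localization.Away g) g ^ m) :=
    (IsLocalization.Away.algebraMap_isUnit g).pow m
  have hass : Associated (algebraMap A (Localization.Away g) y) z :=
    Associated.symm ⟨hu.unit, hy⟩
  haveI : IsLocalization.Away (g * y) (Localization.Away z) :=
    IsLocalization.Away.mul_of_associated (S := Localization.Away g) g y z hass
  refine ⟨y, fun h => ?_, ⟨(IsLocalization.algEquiv (Submonoid.powers (g * y))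
    (Localization.Away (g * y)) (Localization.Away z)).restrictScalars k⟩⟩
  rw [Ideal.mem_comap, map_mul] at h
  rcases Ideal.IsPrime.mem_or_mem ‹q.IsPrime› h with h1 | h1
  · exact ‹q.IsPrime›.ne_top (Ideal.eq_top_of_isUnit_mem q h1 (IsLocalization.Away.algebraMap_isUnit g))
  · rw [← hy] at h1
    exact (Ideal.IsPrime.mem_or_mem ‹q.IsPrime› h1).elim hz fun h2 =>
      ‹q.IsPrime›.ne_top (Ideal.eq_top_of_isUnit_mem q h2 hu)

end Groth.Agent.Lib.Synt92.Congr
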