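import Groth.Agent.Lib.Synt92.MorStalk
import Mathlib.AlgebraicGeometry.Morphisms.Flat

/-!
# Syntomic morphisms and complete intersection morphisms
-/

universe u

open CategoryTheory AlgebraicGeometry

namespace Groth.Agent.Lib.Synt92.MorCrit

variable {X S : Scheme.{u}} (f : X ⟶ S)

/-- A complete intersection morphism is syntomic on all affine charts. -/
theorem isSyntomic_appLE (h : CInt.IsCIMorphism f) (U : X.affineOpens) (V : S.affineOpens)
    (e : U.1 ≤ f ⁻¹ᵁ V.1) :
    letI := (f.appLE V.1 U.1 e).hom.toAlgebra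
    Synt.IsSyntomic Γ(S, V.1) Γ(X, U.1) := by
  obtain ⟨h1, h2, h3⟩ := h
  letI := (f.appLE V.1 U.1 e).hom.toAlgebra
  refine MorAlg.isSyntomic_iff.2 ⟨HasRingHomProperty.appLE @Flat f h1 V U e,
    HasRingHomProperty.appLE @LocallyOfFinitePresentation f h2 V U e, fun p Q => ?_⟩
  obtain ⟨x, hx, hQ⟩ := MorStalk.exists_point f U.2 e p Q
  haveI := h2
  exact (MorStalk.isCompleteIntersection_fiberStalk_iff f V.2 U.2 e hx p Q hQ).1 (h3 x)

theorem flat_of_isSyntomicMor (h : Synt.IsSyntomicMor f) : Flat f :=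
  (HasRingHomProperty.iff_exists_appLE (P := @Flat)
    (RingHom.Flat.stableUnderComposition.stableUnderCompositionWithLocalizationAway
      RingHom.Flat.holdsForLocalizationAway).left).2 fun x => by
    obtain ⟨U, V, e, hx, hs⟩ := h x
    exact ⟨V, U, hx, e, hs.1⟩

theorem lfp_of_isSyntomicMor (h : Synt.IsSyntomicMor f) : LocallyOfFinitePresentation f :=
  (HasRingHomProperty.iff_exists_appLE (P := @LocallyOfFinitePresentation)
    (RingHom.finitePresentation_stableUnderComposition.stableUnderCompositionWithLocalizationAway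
      RingHom.finitePresentation_holdsForLocalizationAway).left).2 fun x => by
    obtain ⟨U, V, e, hx, hs⟩ := h x
    exact ⟨V, U, hx, e, hs.2.1⟩

/-- A syntomic morphism is a complete intersection morphism. -/
theorem isCIMorphism_of_isSyntomicMor (h : Synt.IsSyntomicMor f) : CInt.IsCIMorphism f := by
  haveI := lfp_of_isSyntomicMor f h
  refine ⟨flat_of_isSyntomicMor f h, inferInstance, fun x => ?_⟩
  obtain ⟨U, V, e, hx, hs⟩ := h x
  letI := (f.appLE V.1 U.1 e).hom.toAlgebra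
  obtain ⟨p, Q, hQ⟩ := MorStalk.exists_fiber_point f U.2 e hx
  exact (MorStalk.isCompleteIntersection_fiberStalk_iff f V.2 U.2 e hx p Q hQ).2
    ((MorAlg.isSyntomic_iff.1 hs).2.2 p Q)

theorem exists_chart (x : X) {V : S.Opens} (hV : f x ∈ V) :
    ∃ U : X.affineOpens, x ∈ U.1 ∧ U.1 ≤ f ⁻¹ᵁ V := by
  obtain ⟨U, hU, hxU, hUV⟩ := exists_isAffineOpen_mem_and_subset (x := x) (U := f ⁻¹ᵁ V) hV
  exact ⟨⟨U, hU⟩, hxU, hUV⟩

/-- Syntomic morphisms are exactly the complete intersection morphisms. -/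
theorem isSyntomicMor_iff : Synt.IsSyntomicMor f ↔ CInt.IsCIMorphism f := by
  refine ⟨isCIMorphism_of_isSyntomicMor f, fun h x => ?_⟩
  obtain ⟨V, hV, hxV, -⟩ := exists_isAffineOpen_mem_and_subset (X := S) (x := f x) (U := ⊤) trivial
  obtain ⟨U, hxU, hUV⟩ := exists_chart f x hxV
  exact ⟨U, ⟨V, hV⟩, hUV, hxU, isSyntomic_appLE f h U ⟨V, hV⟩ hUV⟩

end Groth.Agent.Lib.Synt92.MorCrit
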