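import Groth.Prelude.Def_RegImm
import Mathlib.RingTheory.Localization.Away.Basic
import Mathlib.RingTheory.KrullDimension.Basic

/-!
# A global complete intersection is a local complete intersection
-/

universe u

namespace Groth.Agent.Lib.Synt92.IsLCIOverBasic

variable (k : Type u) [Field k]

theorem isGlobalCI_congr {S T : Type u} [CommRing S] [Algebra k S] [CommRing T] [Algebra k T]
    (e : S ≃ₐ[k] T) (h : Synt.IsGlobalCI k S) : Synt.IsGlobalCI k T := by
  rcases h with h | ⟨n, c, hc, φ, r, hφ, hker, hdim⟩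
  · exact Or.inl e.symm.toEquiv.subsingleton
  · refine Or.inr ⟨n, c, hc, e.toAlgHom.comp φ, r, e.surjective.comp hφ, ?_, ?_⟩
    · rw [← hker]
      ext x
      simp [RingHom.mem_ker]
    · rw [← hdim, ringKrullDim_eq_of_ringEquiv e.toRingEquiv]

theorem of_isGlobalCI (S : Type u) [CommRing S] [Algebra k S] (hft : Algebra.FiniteType k S)
    (h : Nontrivial S → Synt.IsGlobalCI k S) : Synt.IsLCIOver k S := by
  refine ⟨hft, fun p => ⟨1, p.asIdeal.one_notMem, ?_⟩⟩
  haveI : Nontrivial S := PrimeSpectrum.nonempty_iff_nontrivial.1 ⟨p⟩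
  exact isGlobalCI_congr k ((IsLocalization.atUnits S (Submonoid.powers (1 : S))
    (S := Localization.Away (1 : S)) (by simp)).restrictScalars k) (h inferInstance)

end Groth.Agent.Lib.Synt92.IsLCIOverBasic
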