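import Groth.Agent.Lib.Synt92.RelGCI
import Mathlib.RingTheory.LocalRing.ResidueField.Fiber
import Mathlib.RingTheory.Flat.Localization
import Mathlib.RingTheory.LocalProperties.Basic
import Mathlib.RingTheory.FinitePresentation

/-!
# Relative global complete intersections: fibres, flatness, regularity
-/

universe u

open MvPolynomial RingTheory.Sequence TensorProduct

namespace Groth.Agent.Lib.Synt92.GCIBasic

variable (R : Type u) [CommRing R] {n c : ℕ} (F : Fin c → MvPolynomial (Fin n) R)

/-- The fibre of a polynomial quotient. -/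
noncomputable def fiberEquiv (I : Ideal (MvPolynomial (Fin n) R)) (p : Ideal R) [p.IsPrime] :
    p.Fiber (MvPolynomial (Fin n) R ⧸ I) ≃ₐ[p.ResidueField]
      MvPolynomial (Fin n) p.ResidueField ⧸ I.map (MvPolynomial.map (algebraMap R p.ResidueField)) :=
  (Algebra.TensorProduct.tensorQuotientEquiv (R := R) p.ResidueField (MvPolynomial (Fin n) R)
    p.ResidueField I).trans
  (Ideal.quotientEquivAlg _ _ (algebraTensorAlgEquiv R p.ResidueField) (by
    have key : (algebraTensorAlgEquiv R p.ResidueField).toAlgHom.toRingHom.comp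
        (Algebra.TensorProduct.includeRight (R := R) (A := p.ResidueField)
          (B := MvPolynomial (Fin n) R)).toRingHom = MvPolynomial.map (algebraMap R p.ResidueField) := by
      ext x <;> simp
    rw [← key, ← Ideal.map_map]
    simp only [Ideal.map, AlgHom.toRingHom_eq_coe, RingHom.coe_coe]
    rfl))

/-- The fibres are presented by the reduced equations. -/
theorem exists_presentation (p : Ideal R) [p.IsPrime] :
    ∃ φ : MvPolynomial (Fin n) p.ResidueField →ₐ[p.ResidueField] p.Fiber (Synt.RelGCIRing R n c F),
      Function.Surjective φ ∧ RingHom.ker φ.toRingHom =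
        Ideal.span (Set.range fun i => MvPolynomial.map (algebraMap R p.ResidueField) (F i)) := by
  let e := fiberEquiv R (Ideal.span (Set.range F)) p
  refine ⟨e.symm.toAlgHom.comp (Ideal.Quotient.mkₐ p.ResidueField _),
    e.symm.surjective.comp Ideal.Quotient.mk_surjective, ?_⟩
  rw [show RingHom.ker (e.symm.toAlgHom.comp (Ideal.Quotient.mkₐ p.ResidueField
      ((Ideal.span (Set.range F)).map (MvPolynomial.map (algebraMap R p.ResidueField))))).toRingHom =
      (Ideal.span (Set.range F)).map (MvPolynomial.map (algebraMap R p.ResidueField)) from ?_,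
    Ideal.map_span, ← Set.range_comp]
  · rfl
  · ext x
    simp [RingHom.mem_ker, e, Ideal.Quotient.eq_zero_iff_mem]

/-- The dimension of the fibre in coordinates. -/
theorem ringKrullDim_fiber (h : Synt.IsRelGCI R n c F) (q : Ideal (MvPolynomial (Fin n) R)) [q.IsPrime]
    (hq : Ideal.span (Set.range F) ≤ q) :
    c ≤ n ∧ ringKrullDim (MvPolynomial (Fin n) (q.comap C).ResidueField ⧸
      Ideal.ofList ((List.ofFn F).map (MvPolynomial.map (algebraMap R (q.comap C).ResidueField)))) ≤
        ((n - (List.ofFn F).length : ℕ) : WithBot ℕ∞) := by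
  haveI : (q.map (Ideal.Quotient.mk (Ideal.span (Set.range F)))).IsPrime :=
    Ideal.map_isPrime_of_surjective Ideal.Quotient.mk_surjective (by rwa [Ideal.mk_ker])
  let x : PrimeSpectrum (Synt.RelGCIRing R n c F) := ⟨q.map (Ideal.Quotient.mk _), inferInstance⟩
  let p : PrimeSpectrum R := PrimeSpectrum.comap (algebraMap R (Synt.RelGCIRing R n c F)) x
  have hp : p.asIdeal = q.comap C := by
    ext r
    change Ideal.Quotient.mk _ (C r) ∈ q.map (Ideal.Quotient.mk (Ideal.span (Set.range F))) ↔ C r ∈ q
    rw [Ideal.mem_map_iff_of_surjective _ Ideal.Quotient.mk_surjective]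
    refine ⟨fun ⟨y, hy, e⟩ => ?_, fun hr => ⟨_, hr, rfl⟩⟩
    have := hq (Ideal.Quotient.eq.1 e)
    simpa using q.sub_mem hy this
  have hne : Nontrivial (p.asIdeal.Fiber (Synt.RelGCIRing R n c F)) :=
    PrimeSpectrum.nonempty_iff_nontrivial.1
      ⟨PrimeSpectrum.preimageEquivFiber R (Synt.RelGCIRing R n c F) p ⟨x, rfl⟩⟩
  obtain ⟨hc, hd⟩ := h p hne
  refine ⟨hc, ?_⟩
  rw [List.length_ofFn]
  rw [ringKrullDim_eq_of_ringEquiv (fiberEquiv R (Ideal.span (Set.range F)) p.asIdeal).toRingEquiv] at hd
  have hF : Ideal.ofList (List.ofFn F) = Ideal.span (Set.range F) := by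
    simp [Ideal.ofList, Set.range, List.mem_ofFn]
  rw [← Ideal.map_ofList, hF]
  have key : ∀ (P : Ideal R) [P.IsPrime], P = q.comap C →
      ringKrullDim (MvPolynomial (Fin n) P.ResidueField ⧸ (Ideal.span (Set.range F)).map
        (MvPolynomial.map (algebraMap R P.ResidueField))) ≤ ((n - c : ℕ) : WithBot ℕ∞) →
      ringKrullDim (MvPolynomial (Fin n) (q.comap C).ResidueField ⧸ (Ideal.span (Set.range F)).map
        (MvPolynomial.map (algebraMap R (q.comap C).ResidueField))) ≤ ((n - c : ℕ) : WithBot ℕ∞) := by
    intro P _ e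
    subst e
    exact id
  exact key p.asIdeal hp hd.le

/-- Relative global complete intersections: regular sequence with flat quotients at every prime. -/
theorem regular (h : Synt.IsRelGCI R n c F) (q : Ideal (MvPolynomial (Fin n) R)) [q.IsPrime]
    (hq : Ideal.span (Set.range F) ≤ q)
    (S : Type u) [CommRing S] [Algebra (MvPolynomial (Fin n) R) S] [IsLocalization.AtPrime S q]
    [Algebra R S] [IsScalarTower R (MvPolynomial (Fin n) R) S] :
    IsRegular S ((List.ofFn F).map (algebraMap (MvPolynomial (Fin n) R) S)) ∧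
      ∀ i, Module.Flat R (S ⧸ Ideal.ofList
        (((List.ofFn F).map (algebraMap (MvPolynomial (Fin n) R) S)).take i)) := by
  obtain ⟨hc, hd⟩ := ringKrullDim_fiber R F h q hq
  refine RelGCI.main (List.ofFn F) (by rwa [List.length_ofFn]) q hd ?_ S
  rw [show Ideal.ofList (List.ofFn F) = Ideal.span (Set.range F) by
    simp [Ideal.ofList, Set.range, List.mem_ofFn]]
  exact hq

/-- A quotient ring is flat if it is so locally on the ambient ring. -/
theorem flat_quotient_of_local (P : Type u) [CommRing P] [Algebra R P] (I : Ideal P)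
    (H : ∀ q : Ideal P, ∀ (_ : q.IsMaximal), I ≤ q →
      Module.Flat R (Localization.AtPrime q ⧸ I.map (algebraMap P (Localization.AtPrime q)))) :
    Module.Flat R (P ⧸ I) := by
  refine Module.flat_of_isLocalized_maximal (R := R) P (P ⧸ I)
    (fun q _ => Localization.AtPrime q ⧸
      I.localized' (Localization.AtPrime q) q.primeCompl (Algebra.linearMap P (Localization.AtPrime q)))
    (fun q _ => I.toLocalizedQuotient' (Localization.AtPrime q) q.primeCompl
      (Algebra.linearMap P (Localization.AtPrime q)))
    fun q hqm => ?_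
  by_cases hq : I ≤ q
  · haveI := H q hqm hq
    exact Module.Flat.of_linearEquiv
      ((Submodule.quotEquivOfEq _ _ (Ideal.localized'_eq_map _ _ I)).restrictScalars R)
  · obtain ⟨f, hfI, hfq⟩ := SetLike.not_le_iff_exists.1 hq
    have ht : I.localized' (Localization.AtPrime q) q.primeCompl
        (Algebra.linearMap P (Localization.AtPrime q)) = ⊤ := by
      rw [Ideal.localized'_eq_map]
      exact Ideal.eq_top_of_isUnit_mem _ (Ideal.mem_map_of_mem _ hfI)
        (IsLocalization.map_units (Localization.AtPrime q) (⟨f, hfq⟩ : q.primeCompl))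
    haveI : Subsingleton (Localization.AtPrime q ⧸ I.localized' (Localization.AtPrime q) q.primeCompl
        (Algebra.linearMap P (Localization.AtPrime q))) := Submodule.Quotient.subsingleton_iff.2 ht
    infer_instance

/-- A relative global complete intersection is flat. -/
theorem flat (h : Synt.IsRelGCI R n c F) : Module.Flat R (Synt.RelGCIRing R n c F) := by
  refine flat_quotient_of_local R (MvPolynomial (Fin n) R) (Ideal.span (Set.range F)) fun q _ hq => ?_
  obtain ⟨_, hflat⟩ := regular R F h q hq (Localization.AtPrime q)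
  have hJ : Ideal.ofList (((List.ofFn F).map
      (algebraMap (MvPolynomial (Fin n) R) (Localization.AtPrime q))).take c) =
      (Ideal.span (Set.range F)).map (algebraMap (MvPolynomial (Fin n) R) (Localization.AtPrime q)) := by
    rw [List.take_of_length_le (by simp), ← Ideal.map_ofList]
    congr 1
    simp [Ideal.ofList, Set.range, List.mem_ofFn]
  have hc' := hflat c
  rwa [hJ] at hc'

end Groth.Agent.Lib.Synt92.GCIBasic
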