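import Groth.Agent.Lib.Synt92.CritLocal
import Groth.Agent.Lib.Synt92.IsLCIOverBasic
import Groth.Agent.S9147

/-!
# Syntomic at a prime
-/

universe u

open TensorProduct

namespace Groth.Agent.Lib.Synt92.PointCrit

/-- A basic open isomorphic to a relative global complete intersection is syntomic. -/
theorem isSyntomic_of_relGCI {R S : Type u} [CommRing R] [CommRing S] [Algebra R S] {n c : ℕ}
    {F : Fin c → MvPolynomial (Fin n) R} (h : Synt.IsRelGCI R n c F)
    (e : S ≃ₐ[R] Synt.RelGCIRing R n c F) : Synt.IsSyntomic R S :=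
  Congr.isSyntomic_congr e.symm (Groth.Agent.S9147.result R n c F h)

/-- The local ring and the fibre of a syntomic neighbourhood. -/
theorem flat_and_isCIOver {R S : Type u} [CommRing R] [CommRing S] [Algebra R S] (g : S)
    (hg : Synt.IsSyntomic R (Localization.Away g)) (q : Ideal S) [q.IsPrime] (hgq : g ∉ q)
    (p : PrimeSpectrum R) (Q : Ideal (p.asIdeal.Fiber S)) [Q.IsPrime]
    (hQ : Q.comap (Algebra.TensorProduct.includeRight.toRingHom) = q) :
    Module.Flat R (Localization.AtPrime q) ∧
      Synt.IsCIOver p.asIdeal.ResidueField (Localization.AtPrime Q) := by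
  obtain ⟨hfl, -, hfib⟩ := hg
  constructor
  · obtain ⟨b, hb, -, ⟨e⟩⟩ := Congr.exists_equiv_away (k := R) g q hgq
    haveI : Module.Flat (Localization.Away g) (Localization.AtPrime b) :=
      IsLocalization.flat _ b.primeCompl
    haveI : Module.Flat R (Localization.AtPrime b) := Module.Flat.trans R (Localization.Away g) _
    exact Module.Flat.of_linearEquiv e.symm.toLinearEquiv
  · obtain ⟨E, -⟩ := Congr.exists_fiber_away p.asIdeal g
    have hLCI := Congr.isLCIOver_congr E.symm (hfib p)
    have hG : ((1 : p.asIdeal.ResidueField) ⊗ₜ[R] g : p.asIdeal.Fiber S) ∉ Q := fun h =>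
      hgq (hQ ▸ h)
    obtain ⟨a, ha, -, ⟨e⟩⟩ := Congr.exists_equiv_away (k := p.asIdeal.ResidueField) _ Q hG
    obtain ⟨g', hg', hCI⟩ := hLCI.2 ⟨a, ha⟩
    exact CIPoint.isCIOver_congr e (CIPoint.isCIOver_of_away g' a hg' hCI)

/-- The complete intersection property passes to the fibre of a basic open. -/
theorem exists_fibre_prime {R S : Type u} [CommRing R] [CommRing S] [Algebra R S] (g : S)
    (q : Ideal S) [q.IsPrime] (hgq : g ∉ q) (p : Ideal R) [p.IsPrime] (Q : Ideal (p.Fiber S)) [Q.IsPrime]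
    (hQ : Q.comap (Algebra.TensorProduct.includeRight.toRingHom) = q)
    (hCI : Synt.IsCIOver p.ResidueField (Localization.AtPrime Q)) :
    ∃ (a : Ideal (p.Fiber (Localization.Away g))) (_ : a.IsPrime),
      (a.comap Algebra.TensorProduct.includeRight.toRingHom).comap
          (algebraMap S (Localization.Away g)) = q ∧
      Synt.IsCIOver p.ResidueField (Localization.AtPrime a) := by
  obtain ⟨E, hE⟩ := Congr.exists_fiber_away p g
  have hG : ((1 : p.ResidueField) ⊗ₜ[R] g : p.Fiber S) ∉ Q := fun h => hgq (hQ ▸ h)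
  obtain ⟨a, ha, hac, ⟨e⟩⟩ := Congr.exists_equiv_away (k := p.ResidueField) _ Q hG
  haveI := ha
  let a' : Ideal (p.Fiber (Localization.Away g)) := a.comap E.symm.toAlgHom.toRingHom
  haveI : a'.IsPrime := Ideal.IsPrime.comap _
  refine ⟨a', inferInstance, ?_, CIPoint.isCIOver_congr
    (e.symm.trans (Localization.localAlgEquiv a a' E ?_)) hCI⟩
  · rw [← hQ, ← hac]
    ext x
    change E.symm ((1 : p.ResidueField) ⊗ₜ[R] algebraMap S (Localization.Away g) x) ∈ a ↔
      algebraMap (p.Fiber S) _ ((1 : p.ResidueField) ⊗ₜ[R] x) ∈ a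
    suffices h : E (algebraMap (p.Fiber S) _ ((1 : p.ResidueField) ⊗ₜ[R] x)) =
        (1 : p.ResidueField) ⊗ₜ[R] algebraMap S (Localization.Away g) x by
      rw [← h, E.symm_apply_apply]
    exact hE x
  · ext x
    simp [a']

end Groth.Agent.Lib.Synt92.PointCrit
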