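import Groth.Agent.Lib.Synt92.KoszulScheme

/-!
# Koszul morphisms are locally of finite presentation
-/

universe u

open CategoryTheory AlgebraicGeometry

namespace Groth.Agent.Lib.Synt92.KoszulLfp

variable {X S : Scheme.{u}}

/-- A morphism which is Koszul at every point is locally of finite presentation. -/
theorem locallyOfFinitePresentation (f : X ⟶ S) (h : ∀ x : X, Synt.IsKoszulAt f x) :
    LocallyOfFinitePresentation f := by
  refine (HasRingHomProperty.iff_exists_appLE (P := @LocallyOfFinitePresentation)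
    (RingHom.finitePresentation_stableUnderComposition.stableUnderCompositionWithLocalizationAway
      RingHom.finitePresentation_holdsForLocalizationAway).left).2 fun x => ?_
  obtain ⟨U, P, i, π, hxU, -, ⟨-, hi⟩, hπ, hfac⟩ := h x
  obtain ⟨⟨W, hW⟩, hzW, hcl, rs, -, hker⟩ := hi ⟨x, hxU⟩
  obtain ⟨V, hV, hfV, -⟩ :=
    exists_isAffineOpen_mem_and_subset (X := S) (x := π (i ⟨x, hxU⟩)) (U := ⊤) trivial
  obtain ⟨g, hgV, hzg⟩ := hW.exists_basicOpen_le (V := π ⁻¹ᵁ V) ⟨i ⟨x, hxU⟩, hfV⟩ hzW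
  obtain ⟨hO, hsurj, hker'⟩ := KoszulScheme.exists_chart i hW rs hker g
  have eO : i ⁻¹ᵁ P.basicOpen g ≤ (U.ι ≫ f) ⁻¹ᵁ V := by
    rw [← hfac]
    exact fun w hw => hgV hw
  have eO' : U.ι ''ᵁ i ⁻¹ᵁ P.basicOpen g ≤ f ⁻¹ᵁ V := by
    rintro _ ⟨w, hw, rfl⟩
    exact eO hw
  refine ⟨⟨V, hV⟩, ⟨_, hO.image_of_isOpenImmersion U.ι⟩, ⟨⟨x, hxU⟩, hzg, rfl⟩, eO', ?_⟩
  rw [← KoszulScheme.appLE_ι_comp f U _ eO eO']
  have hc : ∀ (h : (U : Scheme.{u}) ⟶ S) (e : i ⁻¹ᵁ P.basicOpen g ≤ h ⁻¹ᵁ V), i ≫ π = h →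
      (h.appLE V (i ⁻¹ᵁ P.basicOpen g) e).hom.FinitePresentation := by
    rintro h e rfl
    have hh : π.appLE V (P.basicOpen g) hgV ≫ i.app (P.basicOpen g) =
        (i ≫ π).appLE V (i ⁻¹ᵁ P.basicOpen g) e := by
      rw [Scheme.Hom.app_eq_appLE, Scheme.Hom.appLE_comp_appLE]
    rw [← hh, CommRingCat.hom_comp]
    refine RingHom.FinitePresentation.comp (RingHom.FinitePresentation.of_surjective _ hsurj ?_)
      ((π.smooth_appLE hV (hW.basicOpen g) hgV).finitePresentation)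
    rw [hker']
    classical
    exact ⟨(rs.map (P.presheaf.map (homOfLE (P.basicOpen_le g)).op).hom).toFinset, by
      rw [Ideal.ofList]
      exact congrArg Ideal.span (Set.ext fun a => by simp)⟩
  exact hc _ eO hfac

end Groth.Agent.Lib.Synt92.KoszulLfp
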