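import Groth.Agent.Lib.Koszul.Tensor
import Groth.Agent.Lib.Tor.Balance
import Groth.Prelude.Def_LCI2
import Mathlib.RingTheory.Localization.BaseChange
import Mathlib.RingTheory.Flat.Localization

/-!
# A locally weakly regular sequence is Koszul regular
-/

universe u

open CategoryTheory CategoryTheory.Limits MonoidalCategory RingTheory.Sequence TensorProduct

namespace Groth.Agent.Lib.Synt92.KoszulLocal

open Groth.Agent.Lib.Koszul

variable {A : Type u} [CommRing A]

/-- Koszul homology vanishes after tensoring with a flat module on which the sequence is regular. -/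
theorem isZero_tensor (l : List A) (M : ModuleCat.{u} A) [Module.Flat A M]
    (h : IsWeaklyRegular M l) (i : ℤ) (hi : i ≠ 0) :
    IsZero ((tensorRight M).obj ((Koszul.koszul A l).homology i)) :=
  IsZero.of_iso (Basic.isZero_of_weaklyRegular M l h i hi)
    ((((Koszul.koszul A l).sc i).mapHomologyIso (tensorRight M)).symm ≪≫ Tensor.tensorHomologyIso l M i)

/-- A sequence weakly regular in every local ring containing it is Koszul regular. -/
theorem isKoszulRegularSeq_of_local (l : List A)
    (h : ∀ (q : Ideal A) (_ : q.IsMaximal), (∀ x ∈ l, x ∈ q) →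
      IsWeaklyRegular (Localization.AtPrime q) (l.map (algebraMap A (Localization.AtPrime q)))) :
    LCI.IsKoszulRegularSeq A l := by
  intro i hi
  rw [ModuleCat.isZero_iff_subsingleton]
  suffices hz : ∀ x : (Koszul.koszul A l).homology i, x = 0 from ⟨fun a b => (hz a).trans (hz b).symm⟩
  intro x
  by_contra hx
  have hann : Ideal.torsionOf A _ x ≠ ⊤ := fun e => hx <| by
    have h1 : (1 : A) ∈ Ideal.torsionOf A _ x := e ▸ Submodule.mem_top
    simpa using h1
  obtain ⟨q, hq, hle⟩ := Ideal.exists_le_maximal _ hann
  by_cases hl : ∀ a ∈ l, a ∈ q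
  · let M := ModuleCat.of A (Localization.AtPrime q)
    haveI : Module.Flat A M := IsLocalization.flat (Localization.AtPrime q) q.primeCompl
    have hw : IsWeaklyRegular M l :=
      (isWeaklyRegular_map_algebraMap_iff (Localization.AtPrime q) (Localization.AtPrime q) l).1
        (h q hq hl)
    haveI := ModuleCat.isZero_iff_subsingleton.1 (isZero_tensor l M hw i hi)
    have h0 : (1 : Localization.AtPrime q) ⊗ₜ[A] x = 0 := by
      have h1 : x ⊗ₜ[A] (1 : Localization.AtPrime q) = 0 :=
        Subsingleton.elim (α := ((tensorRight M).obj ((Koszul.koszul A l).homology i) : Type u)) _ _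
      rw [← TensorProduct.comm_tmul, h1, map_zero]
    haveI : IsLocalizedModule q.primeCompl
        (TensorProduct.mk A (Localization.AtPrime q) ((Koszul.koszul A l).homology i) 1) :=
      (isLocalizedModule_iff_isBaseChange q.primeCompl (Localization.AtPrime q) _).2
        (TensorProduct.isBaseChange A _ _)
    obtain ⟨s, hs⟩ := (IsLocalizedModule.eq_zero_iff q.primeCompl
      (TensorProduct.mk A (Localization.AtPrime q) ((Koszul.koszul A l).homology i) 1)).1 h0
    exact s.2 (hle hs)
  · push Not at hl
    obtain ⟨a, hal, haq⟩ := hl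
    refine haq (hle ?_)
    refine (Ideal.mem_torsionOf_iff _ _).2 ?_
    have key := Basic.smul_homology_eq_zero_of_mem_span (Basic.sgl (ModuleCat.of A A)) l
      (Ideal.subset_span hal) i ((Basic.koszulHomologyIso l i).hom x)
    rw [← map_smul] at key
    have := congrArg (Basic.koszulHomologyIso l i).inv key
    simpa using this

end Groth.Agent.Lib.Synt92.KoszulLocal
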