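import Groth.Agent.Lib.Synt92.MorCrit

/-!
# Complete intersection morphisms to the spectrum of a field and fibres
-/

universe u

open CategoryTheory AlgebraicGeometry IsLocalRing

namespace Groth.Agent.Lib.Synt92.MorField

/-- The fibre local rings of a scheme over a field are its local rings. -/
theorem nonempty_fiberStalk_equiv {F : Scheme.{u}} {K : CommRingCat.{u}} (hK : IsField K)
    (g : F ⟶ Spec K) (a : F) :
    Nonempty (CInt.fiberStalk g a ≃+* F.presheaf.stalk a) := by
  have h : (maximalIdeal ((Spec K).presheaf.stalk (g a))).map (g.stalkMap a).hom = ⊥ := by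
    refine eq_bot_iff.2 (Ideal.map_le_iff_le_comap.2 fun r hr => ?_)
    exact H46.FiberStalk.stalkMap_eq_zero_of_factor_field K hK g (𝟙 _) g (by simp) a r hr
  exact ⟨(H46.FiberStalk.quotientEquiv g a).symm.trans
    ((Ideal.quotEquivOfEq h).trans (RingEquiv.quotientBot _))⟩

/-- A complete intersection fibre gives complete intersection fibre local rings. -/
theorem isCompleteIntersection_of_fiber {X S : Scheme.{u}} (f : X ⟶ S)
    [LocallyOfFinitePresentation f] (x : X)
    (h : Pi1.IsCompleteIntersection
      (CInt.fiberStalk (f.fiberToSpecResidueField (f x)) (f.asFiber x))) :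
    Pi1.IsCompleteIntersection (CInt.fiberStalk f x) := by
  obtain ⟨V, hV, hxV, -⟩ := exists_isAffineOpen_mem_and_subset (X := S) (x := f x) (U := ⊤) trivial
  obtain ⟨⟨U, hU⟩, hxU, hUV⟩ := MorCrit.exists_chart f x hxV
  obtain ⟨p, Q, hQ⟩ := MorStalk.exists_fiber_point f hU hUV hxU
  haveI := HasRingHomProperty.appLE @LocallyOfFinitePresentation f inferInstance ⟨V, hV⟩ ⟨U, hU⟩ hUV
  letI := (f.appLE V U hUV).hom.toAlgebra
  haveI : Algebra.FinitePresentation Γ(S, V) Γ(X, U) := by assumption
  haveI := MorStalk.essFiniteType_fiber p.asIdeal Q.asIdeal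
  obtain ⟨e⟩ := MorStalk.nonempty_fiberStalk_equiv f hV hU hUV hxU p Q hQ
  obtain ⟨e'⟩ := nonempty_fiberStalk_equiv (K := S.residueField (f x)) (Field.toIsField _)
    (f.fiberToSpecResidueField (f x)) (f.asFiber x)
  let e'' : CInt.fiberStalk (f.fiberToSpecResidueField (f x)) (f.asFiber x) ≃+*
      Localization.AtPrime Q.asIdeal :=
    RingEquiv.trans (S' := Localization.AtPrime Q.asIdeal) e' e
  exact (MorAlg.isCompleteIntersection_iff_of_equiv _ e).2
    ((MorAlg.isCompleteIntersection_iff_of_equiv p.asIdeal.ResidueField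
      (B := Localization.AtPrime Q.asIdeal) e'').1 h)

end Groth.Agent.Lib.Synt92.MorField
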