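import Groth.Agent.Lib.Synt92.KoszulFlat
import Groth.Agent.Lib.Synt92.KoszulLocal
import Groth.Agent.Lib.Synt92.MorField
import Mathlib.AlgebraicGeometry.Morphisms.ClosedImmersion
import Mathlib.AlgebraicGeometry.Morphisms.Smooth

/-!
# Koszul morphisms and their fibres
-/

universe u

open CategoryTheory AlgebraicGeometry RingTheory.Sequence

namespace Groth.Agent.Lib.Synt92.KoszulScheme

/-- A locally weakly regular sequence stays Koszul regular after a ring isomorphism. -/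
theorem isKoszulRegularSeq_map {A A' : Type u} [CommRing A] [CommRing A'] (e : A ≃+* A') (l : List A)
    (h : ∀ (q : Ideal A) (_ : q.IsPrime), (∀ x ∈ l, x ∈ q) →
      IsWeaklyRegular (Localization.AtPrime q) (l.map (algebraMap A (Localization.AtPrime q)))) :
    LCI.IsKoszulRegularSeq A' (l.map e) := by
  refine KoszulLocal.isKoszulRegularSeq_of_local _ fun q' hq' hl => ?_
  let q := Ideal.comap e q'
  haveI : q.IsPrime := Ideal.IsPrime.comap _
  let E : Localization.AtPrime q ≃+* Localization.AtPrime q' :=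
    IsLocalization.ringEquivOfRingEquiv (Localization.AtPrime q) (Localization.AtPrime q') e
      (e.map_primeCompl_comap_eq q')
  have hq := h q inferInstance fun x hx => hl (e x) (List.mem_map_of_mem hx)
  refine (E.toAddEquiv.isWeaklyRegular_congr ?_).1 hq
  rw [List.map_map, List.forall₂_map_left_iff, List.forall₂_map_right_iff, List.forall₂_same]
  intro r _ x
  change E (algebraMap A _ r * x) = algebraMap A' _ (e r) * E x
  rw [map_mul, IsLocalization.ringEquivOfRingEquiv_eq]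

variable {X S : Scheme.{u}}

theorem appLE_ι_comp (f : X ⟶ S) (U₀ : X.Opens) {V : S.Opens}
    (W : (U₀ : Scheme.{u}).Opens) (e : W ≤ (U₀.ι ≫ f) ⁻¹ᵁ V) (e' : U₀.ι ''ᵁ W ≤ f ⁻¹ᵁ V) :
    (U₀.ι ≫ f).appLE V W e = f.appLE V (U₀.ι ''ᵁ W) e' := by
  rw [Scheme.Hom.comp_appLE, Scheme.Opens.ι_appLE]
  rfl

/-- An affine chart of a closed immersion over a basic open. -/
theorem exists_chart {Z P : Scheme.{u}} (i : Z ⟶ P) {W : P.Opens} (hW : IsAffineOpen W)
    [IsClosedImmersion (i ∣_ W)] (rs : List Γ(P, W))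
    (hker : RingHom.ker (i.app W).hom = Ideal.ofList rs) (g : Γ(P, W)) :
    IsAffineOpen (i ⁻¹ᵁ P.basicOpen g) ∧
      Function.Surjective (i.app (P.basicOpen g)).hom ∧
      RingHom.ker (i.app (P.basicOpen g)).hom =
        Ideal.ofList (rs.map (P.presheaf.map (homOfLE (P.basicOpen_le g)).op).hom) := by
  obtain ⟨hWZ, hsurj⟩ : IsAffineOpen (i ⁻¹ᵁ W) ∧ Function.Surjective (i.app W).hom := by
    haveI : IsAffine W.toScheme := hW
    have h1 : IsAffine (i ⁻¹ᵁ W).toScheme ∧ Function.Surjective ((i ∣_ W).appTop).hom :=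
      (HasAffineProperty.iff_of_isAffine (P := @IsClosedImmersion)).1 ‹_›
    refine ⟨h1.1, ?_⟩
    have h2 := h1.2
    rw [morphismRestrict_appTop] at h2
    erw [CommRingCat.hom_comp, RingHom.coe_comp] at h2
    have h3 : Function.Surjective (i.app (W.ι ''ᵁ ⊤)).hom := by
      refine (Function.Surjective.of_comp_iff' ?_ _).1 h2
      exact ConcreteCategory.bijective_of_isIso
        (Z.presheaf.map (eqToHom (image_morphismRestrict_preimage i W ⊤)).op)
    rwa [W.ι_image_top] at h3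
  haveI := hW.isLocalization_basicOpen g
  haveI := hWZ.isLocalization_basicOpen ((i.app W).hom g)
  have hpre : i ⁻¹ᵁ P.basicOpen g = Z.basicOpen ((i.app W).hom g) := Scheme.preimage_basicOpen i g
  refine ⟨hpre ▸ hWZ.basicOpen _, ?_⟩
  rw [← show (rs.map (algebraMap Γ(P, W) Γ(P, P.basicOpen g))) =
    rs.map (P.presheaf.map (homOfLE (P.basicOpen_le g)).op).hom from rfl, ← Ideal.map_ofList, ← hker]
  letI : Algebra Γ(Z, i ⁻¹ᵁ W) Γ(Z, i ⁻¹ᵁ P.basicOpen g) :=
    (Z.presheaf.map (homOfLE (i.preimage_mono (P.basicOpen_le g))).op).hom.toAlgebra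
  haveI : IsLocalization ((Submonoid.powers g).map (i.app W).hom) Γ(Z, i ⁻¹ᵁ P.basicOpen g) := by
    rw [Submonoid.map_powers]
    exact hWZ.isLocalization_of_eq_basicOpen _ (homOfLE (i.preimage_mono (P.basicOpen_le g))) hpre
  have hmap : (i.app (P.basicOpen g)).hom = IsLocalization.map (M := Submonoid.powers g)
      (S := Γ(P, P.basicOpen g)) (T := (Submonoid.powers g).map (i.app W).hom)
      Γ(Z, i ⁻¹ᵁ P.basicOpen g) (i.app W).hom (Submonoid.le_comap_map _) :=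
    IsLocalization.ringHom_ext (Submonoid.powers g) (RingHom.ext fun r => by
      rw [RingHom.comp_apply, RingHom.comp_apply, IsLocalization.map_eq]
      exact congrArg (fun φ : Γ(P, W) ⟶ Γ(Z, i ⁻¹ᵁ P.basicOpen g) => φ.hom r)
        (i.naturality (homOfLE (P.basicOpen_le g)).op))
  refine ⟨?_, ?_⟩
  · rw [hmap]
    intro y
    obtain ⟨⟨a, s, hs⟩, e⟩ := IsLocalization.surj ((Submonoid.powers g).map (i.app W).hom) y
    obtain ⟨b, rfl⟩ := hsurj a
    obtain ⟨t, ht, rfl⟩ := hs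
    refine ⟨IsLocalization.mk' _ b (⟨t, ht⟩ : Submonoid.powers g), ?_⟩
    rw [IsLocalization.map_mk', IsLocalization.mk'_eq_iff_eq_mul]
    exact e.symm
  · rw [hmap]
    exact IsLocalization.ker_map (S := Γ(P, P.basicOpen g)) Γ(Z, i ⁻¹ᵁ P.basicOpen g) (i.app W).hom rfl

/-- A flat finitely presented morphism which is Koszul at a point has a complete intersection fibre
there. -/
theorem isCompleteIntersection_of_koszulAt (f : X ⟶ S) [Flat f] [LocallyOfFinitePresentation f]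
    (x : X) (hk : Synt.IsKoszulAt f x) : Pi1.IsCompleteIntersection (CInt.fiberStalk f x) := by
  obtain ⟨U, P, i, π, hxU, -, ⟨-, hi⟩, hπ, hfac⟩ := hk
  obtain ⟨⟨W, hW⟩, hzW, hcl, rs, hrs, hker⟩ := hi ⟨x, hxU⟩
  set z : (U : Scheme.{u}) := ⟨x, hxU⟩
  obtain ⟨V, hV, hfV, -⟩ :=
    exists_isAffineOpen_mem_and_subset (X := S) (x := π (i z)) (U := ⊤) trivial
  obtain ⟨g, hgV, hzg⟩ := hW.exists_basicOpen_le (V := π ⁻¹ᵁ V) ⟨i z, hfV⟩ hzW
  obtain ⟨hO, hsurj, hker'⟩ := exists_chart i hW rs hker g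
  set D := P.basicOpen g
  set O : (U : Scheme.{u}).Opens := i ⁻¹ᵁ D
  have eO : O ≤ (U.ι ≫ f) ⁻¹ᵁ V := by
    rw [← hfac]
    exact fun w hw => hgV hw
  have hO' : IsAffineOpen (U.ι ''ᵁ O) := hO.image_of_isOpenImmersion U.ι
  have eO' : U.ι ''ᵁ O ≤ f ⁻¹ᵁ V := by
    rintro _ ⟨w, hw, rfl⟩
    exact eO hw
  have hxO : x ∈ U.ι ''ᵁ O := ⟨z, hzg, rfl⟩
  -- the algebras
  letI : Algebra Γ(S, V) Γ(P, D) := (π.appLE V D hgV).hom.toAlgebra
  letI : Algebra Γ(S, V) Γ(X, U.ι ''ᵁ O) := (f.appLE V (U.ι ''ᵁ O) eO').hom.toAlgebra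
  haveI : Algebra.Smooth Γ(S, V) Γ(P, D) :=
    RingHom.smooth_algebraMap.1 (π.smooth_appLE hV (hW.basicOpen g) hgV)
  haveI : Module.Flat Γ(S, V) Γ(X, U.ι ''ᵁ O) :=
    HasRingHomProperty.appLE @Flat f inferInstance ⟨V, hV⟩ ⟨_, hO'⟩ eO'
  haveI : Algebra.FinitePresentation Γ(S, V) Γ(X, U.ι ''ᵁ O) :=
    HasRingHomProperty.appLE @LocallyOfFinitePresentation f inferInstance ⟨V, hV⟩ ⟨_, hO'⟩ eO'
  have hcomp : π.appLE V D hgV ≫ i.app D = f.appLE V (U.ι ''ᵁ O) eO' := by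
    rw [← appLE_ι_comp f U O eO eO']
    have hc : ∀ (h : (U : Scheme.{u}) ⟶ S) (e : O ≤ h ⁻¹ᵁ V), i ≫ π = h →
        π.appLE V D hgV ≫ i.app D = h.appLE V O e := by
      rintro h e rfl
      rw [Scheme.Hom.app_eq_appLE, Scheme.Hom.appLE_comp_appLE]
    exact hc _ eO hfac
  let φ : Γ(P, D) →ₐ[Γ(S, V)] Γ(X, U.ι ''ᵁ O) :=
    { (i.app D).hom with
      commutes' := fun r => congrArg (fun ψ : Γ(S, V) ⟶ Γ(X, U.ι ''ᵁ O) => ψ.hom r) hcomp }
  letI : Algebra Γ(P, W) Γ(P, D) := (P.presheaf.map (homOfLE (P.basicOpen_le g)).op).hom.toAlgebra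
  haveI : IsLocalization.Away g Γ(P, D) := hW.isLocalization_basicOpen g
  haveI : Module.Flat Γ(P, W) Γ(P, D) := IsLocalization.flat _ (Submonoid.powers g)
  have hacyc := Wiebe.Bridge.acyc_flat (B := Γ(P, D)) rs.get
    (Wiebe.Bridge.acyc_of_isKoszulRegularSeq rs.get (by rw [List.ofFn_get]; exact hrs))
  have hk' : RingHom.ker φ.toRingHom =
      Ideal.span (Set.range fun j => algebraMap Γ(P, W) Γ(P, D) (rs.get j)) := by
    change RingHom.ker (i.app D).hom = _
    rw [hker', ← Ideal.map_ofList, Ideal.ofList]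
    rw [Ideal.map_span]
    congr 1
    ext y
    simp [List.mem_iff_get, RingHom.algebraMap_toAlgebra]
  obtain ⟨p, Q, hQ⟩ := MorStalk.exists_fiber_point f hO' eO' hxO
  have hci := KoszulFlat.isCompleteIntersection φ hsurj _ hk' hacyc p.asIdeal
    (hO'.primeIdealOf ⟨x, hxO⟩).asIdeal Q.asIdeal hQ
  haveI := MorStalk.essFiniteType_fiber p.asIdeal Q.asIdeal
  obtain ⟨e⟩ := MorStalk.nonempty_fiberStalk_equiv f hV hO' eO' hxO p Q hQ
  exact (MorAlg.isCompleteIntersection_iff_of_equiv p.asIdeal.ResidueField e).2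
    ((MorAlg.isCompleteIntersection_iff_of_equiv p.asIdeal.ResidueField (RingEquiv.refl _)).1 hci)

end Groth.Agent.Lib.Synt92.KoszulScheme
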