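import Groth.Agent.Lib.Synt92.MorCrit
import Groth.Agent.Lib.Synt92.PointCrit
import Mathlib.AlgebraicGeometry.AffineScheme

/-!
# Standard syntomic morphisms and changes of the base ring by an isomorphism
-/

universe u

open CategoryTheory AlgebraicGeometry

namespace Groth.Agent.Lib.Synt92.MorStd

/-- Syntomicity does not change along an isomorphism of base rings. -/
theorem isSyntomic_of_bijective {R' R S : Type u} [CommRing R'] [CommRing R] [CommRing S]
    [Algebra R' R] [Algebra R S] [Algebra R' S] [IsScalarTower R' R S]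
    (hb : Function.Bijective (algebraMap R' R)) (h : Synt.IsSyntomic R S) : Synt.IsSyntomic R' S := by
  obtain ⟨hflat, hfp, hci⟩ := MorAlg.isSyntomic_iff.1 h
  haveI : Module.Flat R' R := RingHom.flat_algebraMap_iff.1 (RingHom.Flat.of_bijective hb)
  haveI : Algebra.FinitePresentation R' R :=
    RingHom.finitePresentation_algebraMap.1 (RingHom.FinitePresentation.of_bijective hb)
  haveI : Algebra.FinitePresentation R' S := Algebra.FinitePresentation.trans R' R S
  refine MorAlg.isSyntomic_iff.2 ⟨Module.Flat.trans R' R S, inferInstance, fun p' Q' => ?_⟩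
  let q : PrimeSpectrum S := PrimeSpectrum.comap
    (Algebra.TensorProduct.includeRight (R := R') (A := p'.asIdeal.ResidueField)).toRingHom Q'
  let p : PrimeSpectrum R := PrimeSpectrum.comap (algebraMap R S) q
  let Q := PrimeSpectrum.preimageEquivFiber R S p ⟨q, rfl⟩
  have hQ : Q.asIdeal.comap (Algebra.TensorProduct.includeRight (R := R) (A := p.asIdeal.ResidueField)) =
      q.asIdeal :=
    congrArg (fun z => z.1.asIdeal)
      ((PrimeSpectrum.preimageEquivFiber R S p).symm_apply_apply ⟨q, rfl⟩)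
  have hp : p'.asIdeal = p.asIdeal.comap (algebraMap R' R) := by
    have h1 : p'.asIdeal = Q'.asIdeal.comap (algebraMap R' (p'.asIdeal.Fiber S)) :=
      (inferInstance : Q'.asIdeal.LiesOver p'.asIdeal).over
    conv_lhs => rw [h1]
    ext r
    simp only [Ideal.mem_comap]
    change _ ↔ Algebra.TensorProduct.includeRight (algebraMap R S (algebraMap R' R r)) ∈ Q'.asIdeal
    rw [← IsScalarTower.algebraMap_apply R' R S, AlgHom.commutes]
  have hmap : p'.asIdeal.map (algebraMap R' (Localization.AtPrime q.asIdeal)) =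
      p.asIdeal.map (algebraMap R (Localization.AtPrime q.asIdeal)) := by
    rw [IsScalarTower.algebraMap_eq R' R (Localization.AtPrime q.asIdeal), ← Ideal.map_map, hp,
      Ideal.map_comap_of_surjective _ hb.2]
  haveI : Algebra.FiniteType R S := inferInstance
  haveI : Algebra.FiniteType R' S := inferInstance
  haveI := MorStalk.essFiniteType_fiber p.asIdeal Q.asIdeal
  haveI := MorStalk.essFiniteType_fiber p'.asIdeal Q'.asIdeal
  obtain ⟨e⟩ := JacCrit.FlatRegular.nonempty_ringEquiv p.asIdeal q.asIdeal Q.asIdeal hQ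
  obtain ⟨e'⟩ := JacCrit.FlatRegular.nonempty_ringEquiv p'.asIdeal q.asIdeal Q'.asIdeal rfl
  let E : Localization.AtPrime Q'.asIdeal ≃+* Localization.AtPrime Q.asIdeal :=
    e'.trans ((Ideal.quotEquivOfEq hmap).trans e.symm)
  exact (MorAlg.isCompleteIntersection_iff_of_equiv _ (RingEquiv.refl _)).1
    ((MorAlg.isCompleteIntersection_iff_of_equiv p.asIdeal.ResidueField E).2 (hci p Q))

/-- A ring map isomorphic, as an arrow, to a syntomic one is syntomic. -/
theorem isSyntomic_of_arrow {A B R T : Type u} [CommRing A] [CommRing B] [CommRing R] [CommRing T]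
    [Algebra A B] [Algebra R T] (eR : A ≃+* R) (eT : B ≃+* T)
    (he : ∀ a, eT (algebraMap A B a) = algebraMap R T (eR a)) (h : Synt.IsSyntomic R T) :
    Synt.IsSyntomic A B := by
  letI : Algebra A R := eR.toRingHom.toAlgebra
  letI : Algebra A T := ((algebraMap R T).comp eR.toRingHom).toAlgebra
  haveI : IsScalarTower A R T := IsScalarTower.of_algebraMap_eq fun _ => rfl
  have h' := isSyntomic_of_bijective (R' := A) eR.bijective h
  exact Congr.isSyntomic_congr (AlgEquiv.ofRingEquiv (f := eT) he).symm h'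

variable {X S : Scheme.{u}} (f : X ⟶ S)

theorem isoSpec_hom_comp {V : S.Opens} (hV : IsAffineOpen V) {U : X.Opens} (hU : IsAffineOpen U)
    (e : U ≤ f ⁻¹ᵁ V) :
    hU.isoSpec.hom ≫ Spec.map (f.appLE V U e) = f.resLE V U e ≫ hV.isoSpec.hom := by
  rw [← cancel_mono hV.fromSpec, Category.assoc, Category.assoc,
    IsAffineOpen.SpecMap_appLE_fromSpec f hV hU, IsAffineOpen.isoSpec_hom_fromSpec,
    IsAffineOpen.isoSpec_hom_fromSpec_assoc, Scheme.Hom.resLE_comp_ι]

/-- A standard syntomic restriction to affine opens gives a syntomic ring map. -/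
theorem isSyntomic_of_isStandardSyntomic {V : S.Opens} (hV : IsAffineOpen V) {U : X.Opens}
    (hU : IsAffineOpen U) (e : U ≤ f ⁻¹ᵁ V) (h : Synt.IsStandardSyntomic (f.resLE V U e)) :
    letI := (f.appLE V U e).hom.toAlgebra
    Synt.IsSyntomic Γ(S, V) Γ(X, U) := by
  obtain ⟨R, _, n, c, F, hF, e₁, e₂, he⟩ := h
  let a : Spec Γ(X, U) ≅ Spec (CommRingCat.of (Synt.RelGCIRing R n c F)) := hU.isoSpec.symm ≪≫ e₁
  let b : Spec Γ(S, V) ≅ Spec (CommRingCat.of R) := hV.isoSpec.symm ≪≫ e₂
  have hsq : Spec.map (f.appLE V U e) ≫ b.hom =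
      a.hom ≫ Spec.map (CommRingCat.ofHom (algebraMap R (Synt.RelGCIRing R n c F))) := by
    rw [← cancel_epi hU.isoSpec.hom]
    simp only [a, b, Iso.trans_hom, Iso.symm_hom, ← Category.assoc, Iso.hom_inv_id, Category.id_comp]
    rw [isoSpec_hom_comp f hV hU e, he]
    simp
  obtain ⟨α, hα⟩ := Spec.map_surjective a.inv
  obtain ⟨α', hα'⟩ := Spec.map_surjective a.hom
  obtain ⟨β, hβ⟩ := Spec.map_surjective b.inv
  obtain ⟨β', hβ'⟩ := Spec.map_surjective b.hom
  haveI : IsIso α := ⟨α', Spec.map_injective (by simp [hα, hα']), Spec.map_injective (by simp [hα, hα'])⟩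
  haveI : IsIso β := ⟨β', Spec.map_injective (by simp [hβ, hβ']), Spec.map_injective (by simp [hβ, hβ'])⟩
  have hc : f.appLE V U e ≫ α = β ≫ CommRingCat.ofHom (algebraMap R (Synt.RelGCIRing R n c F)) := by
    apply Spec.map_injective
    rw [Spec.map_comp, Spec.map_comp, hα, hβ, Iso.inv_comp_eq, ← Category.assoc, ← hsq,
      Category.assoc, Iso.hom_inv_id, Category.comp_id]
  letI := (f.appLE V U e).hom.toAlgebra
  exact isSyntomic_of_arrow (asIso β).commRingCatIsoToRingEquiv (asIso α).commRingCatIsoToRingEquiv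
    (fun r => congrArg (fun φ : Γ(S, V) ⟶ CommRingCat.of (Synt.RelGCIRing R n c F) => φ.hom r) hc)
    (PointCrit.isSyntomic_of_relGCI hF AlgEquiv.refl)

/-- A relative global complete intersection chart is standard syntomic. -/
theorem isStandardSyntomic_resLE {V : S.Opens} (hV : IsAffineOpen V) {U : X.Opens}
    (hU : IsAffineOpen U) (e : U ≤ f ⁻¹ᵁ V) {n c : ℕ} (F : Fin c → MvPolynomial (Fin n) Γ(S, V))
    (hF : Synt.IsRelGCI Γ(S, V) n c F) :
    letI := (f.appLE V U e).hom.toAlgebra
    (Γ(X, U) ≃ₐ[Γ(S, V)] Synt.RelGCIRing Γ(S, V) n c F) →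
      Synt.IsStandardSyntomic (f.resLE V U e) := by
  letI := (f.appLE V U e).hom.toAlgebra
  intro ψ
  refine ⟨Γ(S, V), inferInstance, n, c, F, hF,
    hU.isoSpec ≪≫ Scheme.Spec.mapIso ψ.symm.toRingEquiv.toCommRingCatIso.op, hV.isoSpec, ?_⟩
  rw [← isoSpec_hom_comp f hV hU e, Iso.trans_hom, Category.assoc]
  congr 1
  change Spec.map _ ≫ Spec.map _ = Spec.map _
  rw [← Spec.map_comp]
  congr 1
  ext r
  exact ψ.symm.commutes r

end Groth.Agent.Lib.Synt92.MorStd
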