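import Groth.Agent.Lib.Synt92.MorField
import Mathlib.AlgebraicGeometry.AffineScheme

/-!
# Complete intersections over a field, on schemes
-/

universe u

open CategoryTheory AlgebraicGeometry IsLocalRing

namespace Groth.Agent.Lib.Synt92.MorOverField

variable {k : Type u} [Field k] {X : Scheme.{u}} (p : X ⟶ Spec (CommRingCat.of k))

/-- The structure map on sections. -/
noncomputable def secHom (U : X.Opens) : k →+* Γ(X, U) :=
  ((Scheme.ΓSpecIso (CommRingCat.of k)).inv ≫ p.appLE ⊤ U le_top).hom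

theorem germ_secHom (U : X.Opens) (x : X) (hx : x ∈ U) :
    ((Scheme.ΓSpecIso (CommRingCat.of k)).inv ≫ p.appLE ⊤ ⊤ le_top ≫
      X.presheaf.germ ⊤ x trivial).hom = (X.presheaf.germ U x hx).hom.comp (secHom p U) := by
  rw [secHom, ← CommRingCat.hom_comp, Category.assoc,
    ← Scheme.Hom.appLE_map p (U := ⊤) (V := ⊤) (V' := U) le_top (homOfLE le_top).op,
    Category.assoc, X.presheaf.germ_res]

theorem map_secHom {U W : X.Opens} (h : W ≤ U) :
    (X.presheaf.map (homOfLE h).op).hom.comp (secHom p U) = secHom p W := by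
  rw [secHom, secHom, ← CommRingCat.hom_comp, Category.assoc, Scheme.Hom.appLE_map]

theorem finiteType_secHom [LocallyOfFiniteType p] {U : X.Opens} (hU : IsAffineOpen U) :
    (secHom p U).FiniteType := by
  rw [secHom, CommRingCat.hom_comp]
  exact (HasRingHomProperty.appLE @LocallyOfFiniteType p inferInstance ⟨⊤, isAffineOpen_top _⟩
    ⟨U, hU⟩ le_top).comp (RingHom.FiniteType.of_surjective _
      (Scheme.ΓSpecIso (CommRingCat.of k)).commRingCatIsoToRingEquiv.symm.surjective)

/-- The structure of an algebra on a local ring, through an affine chart. -/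
theorem chart [LocallyOfFiniteType p] {U : X.Opens} (hU : IsAffineOpen U) {x : X} (hx : x ∈ U) :
    letI := (secHom p U).toAlgebra
    letI := ((Scheme.ΓSpecIso (CommRingCat.of k)).inv ≫ p.appLE ⊤ ⊤ le_top ≫
      X.presheaf.germ ⊤ x trivial).hom.toAlgebra
    Algebra.EssFiniteType k (X.presheaf.stalk x) ∧
      ∀ (P : Ideal Γ(X, U)) (_ : P.IsPrime), P = (hU.primeIdealOf ⟨x, hx⟩).asIdeal →
        Nonempty (Localization.AtPrime P ≃ₐ[k] X.presheaf.stalk x) := by
  letI := (secHom p U).toAlgebra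
  letI := ((Scheme.ΓSpecIso (CommRingCat.of k)).inv ≫ p.appLE ⊤ ⊤ le_top ≫
      X.presheaf.germ ⊤ x trivial).hom.toAlgebra
  let := TopCat.Presheaf.algebra_section_stalk X.presheaf (⟨x, hx⟩ : U)
  have := hU.isLocalization_stalk ⟨x, hx⟩
  haveI : IsScalarTower k Γ(X, U) (X.presheaf.stalk x) :=
    IsScalarTower.of_algebraMap_eq fun r => congrArg (fun φ : k →+* _ => φ r) (germ_secHom p U x hx)
  haveI : Algebra.FiniteType k Γ(X, U) := finiteType_secHom p hU
  refine ⟨?_, fun P hP hPe => ?_⟩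
  · haveI : Algebra.EssFiniteType Γ(X, U) (X.presheaf.stalk x) :=
      Algebra.EssFiniteType.of_isLocalization _ (hU.primeIdealOf ⟨x, hx⟩).asIdeal.primeCompl
    exact Algebra.EssFiniteType.comp k Γ(X, U) _
  · subst hPe
    exact ⟨(IsLocalization.algEquiv (hU.primeIdealOf ⟨x, hx⟩).asIdeal.primeCompl
      (Localization.AtPrime (hU.primeIdealOf ⟨x, hx⟩).asIdeal) (X.presheaf.stalk x)).restrictScalars k⟩

/-- Over a field, the fibrewise complete intersection condition is the one on the local rings. -/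
theorem isCI_iff [LocallyOfFiniteType p] (x : X) :
    letI := ((Scheme.ΓSpecIso (CommRingCat.of k)).inv ≫ p.appLE ⊤ ⊤ le_top ≫
      X.presheaf.germ ⊤ x trivial).hom.toAlgebra
    Pi1.IsCompleteIntersection (CInt.fiberStalk p x) ↔ Synt.IsCIOver k (X.presheaf.stalk x) := by
  letI := ((Scheme.ΓSpecIso (CommRingCat.of k)).inv ≫ p.appLE ⊤ ⊤ le_top ≫
      X.presheaf.germ ⊤ x trivial).hom.toAlgebra
  obtain ⟨U, hU, hxU, -⟩ := exists_isAffineOpen_mem_and_subset (X := X) (x := x) (U := ⊤) trivial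
  haveI := (chart p hU hxU).1
  obtain ⟨e⟩ := MorField.nonempty_fiberStalk_equiv (K := CommRingCat.of k) (Field.toIsField k) p x
  exact MorAlg.isCompleteIntersection_iff_of_equiv k e

/-- Being locally a global complete intersection at a point. -/
theorem exists_globalCI_iff [LocallyOfFiniteType p] (x : X) :
    (∃ U : X.affineOpens, x ∈ U.1 ∧
        letI := (secHom p U.1).toAlgebra
        Synt.IsGlobalCI k Γ(X, U.1)) ↔
      letI := ((Scheme.ΓSpecIso (CommRingCat.of k)).inv ≫ p.appLE ⊤ ⊤ le_top ≫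
        X.presheaf.germ ⊤ x trivial).hom.toAlgebra
      Synt.IsCIOver k (X.presheaf.stalk x) := by
  letI := ((Scheme.ΓSpecIso (CommRingCat.of k)).inv ≫ p.appLE ⊤ ⊤ le_top ≫
      X.presheaf.germ ⊤ x trivial).hom.toAlgebra
  constructor
  · rintro ⟨⟨U, hU⟩, hxU, h⟩
    letI := (secHom p U).toAlgebra
    let P := (hU.primeIdealOf ⟨x, hxU⟩).asIdeal
    obtain ⟨e⟩ := (chart p hU hxU).2 P inferInstance rfl
    exact CIPoint.isCIOver_congr e (CIField.isCIOver_of_isGlobalCI h P (Localization.AtPrime P))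
  · intro h
    obtain ⟨U, hU, hxU, -⟩ := exists_isAffineOpen_mem_and_subset (X := X) (x := x) (U := ⊤) trivial
    letI := (secHom p U).toAlgebra
    haveI : Algebra.FiniteType k Γ(X, U) := finiteType_secHom p hU
    let P := (hU.primeIdealOf ⟨x, hxU⟩).asIdeal
    obtain ⟨e⟩ := (chart p hU hxU).2 P inferInstance rfl
    obtain ⟨g, hg, hg'⟩ := H26.CILoc.exists_globalCI_nhd k P (CIPoint.isCIOver_congr e.symm h)
    refine ⟨⟨X.basicOpen g, hU.basicOpen g⟩, ?_, ?_⟩
    · have h1 : hU.primeIdealOf ⟨x, hxU⟩ ∈ hU.fromSpec ⁻¹ᵁ X.basicOpen g := by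
        rw [hU.fromSpec_preimage_basicOpen]
        exact hg
      change hU.fromSpec (hU.primeIdealOf ⟨x, hxU⟩) ∈ X.basicOpen g at h1
      rwa [hU.fromSpec_primeIdealOf] at h1
    · letI := (secHom p (X.basicOpen g)).toAlgebra
      letI : Algebra Γ(X, U) Γ(X, X.basicOpen g) :=
        (X.presheaf.map (homOfLE (X.basicOpen_le g)).op).hom.toAlgebra
      haveI : IsLocalization.Away g Γ(X, X.basicOpen g) := hU.isLocalization_basicOpen g
      haveI : IsScalarTower k Γ(X, U) Γ(X, X.basicOpen g) := IsScalarTower.of_algebraMap_eq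
        fun r => congrArg (fun φ : k →+* _ => φ r) (map_secHom p (X.basicOpen_le g)).symm
      exact IsLCIOverBasic.isGlobalCI_congr k
        ((IsLocalization.algEquiv (Submonoid.powers g) (Localization.Away g)
          Γ(X, X.basicOpen g)).restrictScalars k) hg'

end Groth.Agent.Lib.Synt92.MorOverField
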