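import Groth.Agent.Lib.Wiebe.Bridge
import Groth.Agent.H26.Triv
import Mathlib.RingTheory.Filtration
import Mathlib.RingTheory.AdicCompletion.Noetherian

/-!
# First Koszul homology and regular sequences in quotients by ideals of the base
-/

universe u

open Groth.Agent.Lib.TorObstruction.Cube Groth.Agent.Lib.Wiebe.Exterior
open Groth.Agent.H26

namespace Groth.Agent.Lib.Synt92.KoszulH1

variable {Q : Type u} [CommRing Q]

/-- The vertices of weight one. -/
def ev : ∀ {m : ℕ}, Fin m → (Fin m → Bool)
  | 0, i => i.elim0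
  | m + 1, i => Fin.cases (Fin.cons true (O m)) (fun j => Fin.cons false (ev j)) i

theorem ev_zero (m : ℕ) : ev (0 : Fin (m + 1)) = Fin.cons true (O m) := rfl

theorem ev_succ {m : ℕ} (j : Fin m) : ev j.succ = Fin.cons false (ev j) := rfl

theorem opI_false {m : ℕ} (f : Fin (m + 1) → Q) (w : V Q (m + 1)) (t : Fin m → Bool) :
    opI f w (Fin.cons false t) =
      opI (Fin.tail f) (face false w) t + f 0 * w (Fin.cons true t) :=
  congrFun (face_opI_false f w) t

theorem opI_true {m : ℕ} (f : Fin (m + 1) → Q) (w : V Q (m + 1)) (t : Fin m → Bool) :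
    opI f w (Fin.cons true t) = -opI (Fin.tail f) (face true w) t :=
  congrFun (face_opI_true f w) t

theorem opI_apply_O' : ∀ {m : ℕ} (f : Fin m → Q) (w : V Q m), opI f w (O m) = ∑ j, f j * w (ev j)
  | 0, _, _ => by simp [opI]
  | m + 1, f, w => by
    have h : O (m + 1) = Fin.cons false (O m) := (cons_O m).symm
    rw [h, opI_false, opI_apply_O' (Fin.tail f), Fin.sum_univ_succ, add_comm]
    rfl

theorem isTriv_opI : ∀ {m : ℕ} (f : Fin m → Q) (w : V Q m), Triv.IsTriv f fun i => opI f w (ev i)
  | 0, _, _ => ⟨0, fun i => i.elim0⟩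
  | m + 1, f, w => by
    obtain ⟨a, ha⟩ := isTriv_opI (Fin.tail f) (face false w)
    refine ⟨Fin.cons 0 fun i => Fin.cons (w (Fin.cons true (ev i))) (a i), fun i => ?_⟩
    refine Fin.cases ?_ (fun i => ?_) i
    · simp only [ev_zero, opI_true, opI_apply_O']
      simp [Fin.sum_univ_succ, Fin.tail, face, LinearMap.funLeft_apply, Finset.sum_neg_distrib]
    · simp only [ev_succ, opI_false]
      rw [show opI (Fin.tail f) (face false w) (ev i) = _ from ha i]
      simp [Fin.sum_univ_succ, Fin.tail, add_comm]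

theorem opE_delta_ev : ∀ {m : ℕ} (r : Fin m → Q) (i : Fin m), opE r (delta Q m) (ev i) = r i
  | 0, _, i => i.elim0
  | m + 1, r, i => by
    have h1 : face false (delta Q (m + 1)) = delta Q m := by
      funext t
      simp only [face, LinearMap.funLeft_apply, delta]
      rw [← cons_O m]
      simp only [Fin.cons_inj]
      simp
    have h2 : face true (delta Q (m + 1)) = 0 := by
      funext t
      simp only [face, LinearMap.funLeft_apply, delta]
      rw [← cons_O m]
      simp only [Fin.cons_inj]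
      simp
    refine Fin.cases ?_ (fun j => ?_) i
    · refine (congrFun (face_opE_true r (delta Q (m + 1))) (O m)).trans ?_
      rw [h1, h2, map_zero, sub_zero]
      simp [delta]
    · refine (congrFun (face_opE_false r (delta Q (m + 1))) (ev j)).trans ?_
      rw [h1, opE_delta_ev (Fin.tail r) j]
      rfl

/-- Relations of a sequence with acyclic Koszul complex are trivial. -/
theorem isTriv_of_acyc {n : ℕ} {f : Fin n → Q} (h : Wiebe.Link.Acyc f) (z : Fin n → Q)
    (hz : ∑ i, f i • z i = 0) : Triv.IsTriv f z := by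
  obtain ⟨w, hw⟩ := h (opE z (delta Q n)) (by
    have h' := opI_opE f z (delta Q n)
    rw [opI_delta, map_zero, add_zero] at h'
    rw [h', show (∑ i, z i * f i) = 0 by
      rw [← hz]; exact Finset.sum_congr rfl fun i _ => mul_comm _ _, zero_smul])
    (opE_apply_O _ _)
  have := isTriv_opI f w
  simp only [hw, opE_delta_ev] at this
  exact this

theorem isTriv_map {B : Type u} [CommRing B] (φ : Q →+* B) {n : ℕ} {f : Fin n → Q} {z : Fin n → Q}
    (h : Triv.IsTriv f z) : Triv.IsTriv (fun i => φ (f i)) fun i => φ (z i) := by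
  obtain ⟨a, ha⟩ := h
  exact ⟨fun i j => φ (a i j), fun i => by simp [ha]⟩

/-- Vanishing of the first Koszul homology passes to a quotient by an ideal `J` with
`J ⊓ (f) ≤ J (f)`. -/
theorem isTriv_quotient {B : Type u} [CommRing B] (φ : Q →+* B) (hφ : Function.Surjective φ) {n : ℕ}
    {f : Fin n → Q} (h : ∀ z : Fin n → Q, ∑ i, f i • z i = 0 → Triv.IsTriv f z)
    (hJ : ∀ y ∈ Ideal.span (Set.range f), y ∈ RingHom.ker φ →
      y ∈ RingHom.ker φ * Ideal.span (Set.range f))
    (z : Fin n → B) (hz : ∑ i, φ (f i) • z i = 0) : Triv.IsTriv (fun i => φ (f i)) z := by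
  choose z' hz' using fun i => hφ (z i)
  obtain ⟨j, hj, hsum⟩ : ∃ j : Fin n → Q, (∀ i, j i ∈ RingHom.ker φ) ∧
      ∑ i, f i * j i = ∑ i, f i * z' i := by
    have hm := hJ (∑ i, f i * z' i)
      (Submodule.sum_mem _ fun i _ => Ideal.mul_mem_right _ _ (Ideal.subset_span ⟨i, rfl⟩)) (by
        rw [RingHom.mem_ker, map_sum]
        simpa [hz', smul_eq_mul] using hz)
    refine Submodule.mul_induction_on hm (fun a ha b hb => ?_) ?_
    · obtain ⟨c, rfl⟩ := Ideal.mem_span_range_iff_exists_fun.1 hb
      exact ⟨fun i => a * c i, fun i => Ideal.mul_mem_right _ _ ha, by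
        rw [Finset.mul_sum]; exact Finset.sum_congr rfl fun i _ => by ring⟩
    · rintro a b ⟨j, hj, rfl⟩ ⟨j', hj', rfl⟩
      exact ⟨j + j', fun i => add_mem (hj i) (hj' i), by simp [mul_add, Finset.sum_add_distrib]⟩
  have h' := isTriv_map φ (h (fun i => z' i - j i) (by
    simp only [smul_eq_mul, mul_sub, Finset.sum_sub_distrib, hsum, sub_self]))
  have hj0 : ∀ i, φ (j i) = 0 := hj
  simpa [hz', hj0] using h'

end Groth.Agent.Lib.Synt92.KoszulH1
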