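import Groth.Agent.Lib.Synt92.CIField
import Groth.Agent.Lib.Synt92.IsLCIOverBasic

/-!
# Complete intersection points of affine schemes over a field
-/

universe u

open MvPolynomial

namespace Groth.Agent.Lib.Synt92.CIPoint

variable {k : Type u} [Field k]

/-- Transport along an isomorphism. -/
theorem isCIOver_congr {S T : Type u} [CommRing S] [IsLocalRing S] [Algebra k S] [CommRing T]
    [IsLocalRing T] [Algebra k T] (e : S ≃ₐ[k] T) (h : Synt.IsCIOver k S) : Synt.IsCIOver k T := by
  obtain ⟨R, _, _, _, h1, rs, h2, h3, ⟨e'⟩⟩ := h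
  exact ⟨R, inferInstance, inferInstance, inferInstance, h1, rs, h2, h3, ⟨e.symm.trans e'⟩⟩

/-- Near a prime of a localisation. -/
theorem exists_equiv_away {A : Type u} [CommRing A] [Algebra k A] (g : A) (q : Ideal A) [q.IsPrime]
    (hg : g ∉ q) :
    ∃ (a : Ideal (Localization.Away g)) (_ : a.IsPrime),
      Nonempty (Localization.AtPrime a ≃ₐ[k] Localization.AtPrime q) := by
  have hd : Disjoint (Submonoid.powers g : Set A) q :=
    (Ideal.disjoint_powers_iff_notMem g (Ideal.IsPrime.isRadical ‹q.IsPrime›)).mpr hg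
  haveI hp : (q.map (algebraMap A (Localization.Away g))).IsPrime :=
    IsLocalization.isPrime_of_isPrime_disjoint (Submonoid.powers g) _ q ‹_› hd
  refine ⟨q.map (algebraMap A (Localization.Away g)), hp, ?_⟩
  set a := q.map (algebraMap A (Localization.Away g))
  have hcomap : a.under A = q :=
    IsLocalization.under_map_of_isPrime_disjoint (Submonoid.powers g) _ ‹q.IsPrime› hd
  haveI : IsLocalization.AtPrime (Localization.AtPrime a) q := by
    have := IsLocalization.isLocalization_isLocalization_atPrime_isLocalization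
      (Submonoid.powers g) (Localization.AtPrime a) a
    simpa only [IsLocalization.AtPrime, Ideal.under, show a.comap (algebraMap A _) = q from hcomap] using this
  exact ⟨(IsLocalization.algEquiv q.primeCompl (Localization.AtPrime a) (Localization.AtPrime q)).restrictScalars k⟩

/-- Local rings of a local complete intersection are complete intersections. -/
theorem isCIOver_of_away {A : Type u} [CommRing A] [Algebra k A] (g : A) (q : Ideal A) [q.IsPrime]
    (hg : g ∉ q) (h : Synt.IsGlobalCI k (Localization.Away g)) :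
    Synt.IsCIOver k (Localization.AtPrime q) := by
  obtain ⟨a, ha, ⟨e⟩⟩ := exists_equiv_away (k := k) g q hg
  exact isCIOver_congr e (CIField.isCIOver_of_isGlobalCI h a (Localization.AtPrime a))

/-- An algebra of finite type over a field is a global complete intersection near a point where the
ideal of relations needs no more generators than the codimension. -/
theorem exists_isGlobalCI_of_dim {n c : ℕ} (I : Ideal (MvPolynomial (Fin n) k))
    (q : Ideal (MvPolynomial (Fin n) k ⧸ I)) [q.IsPrime] (hc : c ≤ n)
    (f : Fin c → Localization.AtPrime (q.comap (Ideal.Quotient.mk I)))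
    (hf : Ideal.span (Set.range f) =
      I.map (algebraMap _ (Localization.AtPrime (q.comap (Ideal.Quotient.mk I)))))
    (hdim : ringKrullDim (Localization.AtPrime q) + (c : WithBot ℕ∞) ≤
      ringKrullDim (Localization.AtPrime (q.comap (Ideal.Quotient.mk I)))) :
    ∃ g : MvPolynomial (Fin n) k ⧸ I, g ∉ q ∧ Synt.IsGlobalCI k (Localization.Away g) := by
  classical
  set Q := q.comap (Ideal.Quotient.mk I) with hQdef
  have hIQ : I ≤ Q := fun x hx => by
    change Ideal.Quotient.mk I x ∈ q
    rw [Ideal.Quotient.eq_zero_iff_mem.2 hx]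
    exact zero_mem _
  choose b hb using fun i =>
    (IsLocalization.mem_map_algebraMap_iff Q.primeCompl (Localization.AtPrime Q)).1
      (hf ▸ Ideal.subset_span (Set.mem_range_self i) : f i ∈ I.map _)
  let r : Fin c → MvPolynomial (Fin n) k := fun i => (b i).1
  have hJI : Ideal.span (Set.range r) ≤ I := Ideal.span_le.2 (by rintro _ ⟨i, rfl⟩; exact (b i).1.2)
  have hgen : I.map (algebraMap _ (Localization.AtPrime Q)) ≤
      (Ideal.span (Set.range r)).map (algebraMap _ (Localization.AtPrime Q)) := by
    rw [← hf, Ideal.span_le]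
    rintro _ ⟨i, rfl⟩
    refine (Ideal.mul_unit_mem_iff_mem _ (IsLocalization.map_units _ (b i).2)).1 ?_
    rw [hb i]
    exact Ideal.mem_map_of_mem _ (Ideal.subset_span ⟨i, rfl⟩)
  suffices hd : ∀ p ∈ (Ideal.span (Set.range r)).minimalPrimes, p ≤ Q →
      Dim.Basic.dimQ k p ≤ n - c by
    obtain ⟨g, hg, hCI⟩ := CIField.exists_isGlobalCI hc I Q hIQ r (fun i => (b i).1.2) hgen hd
    exact ⟨Ideal.Quotient.mk I g, hg, hCI⟩
  intro p hp hpQ
  haveI : p.IsPrime := hp.1.1
  -- `p` contains `I` as the ideals agree at `Q`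
  have hIp : I ≤ p := by
    intro x hx
    have h1 := hgen (Ideal.mem_map_of_mem _ hx)
    have h2 := Ideal.map_mono (f := algebraMap _ (Localization.AtPrime Q)) hp.1.2 h1
    rwa [← Ideal.mem_comap, show (p.map (algebraMap _ (Localization.AtPrime Q))).comap _ = p from
      IsLocalization.under_map_of_isPrime_disjoint Q.primeCompl _ inferInstance
        (Set.disjoint_left.2 fun y hy hy' => hy (hpQ hy'))] at h2
  haveI : (p.map (Ideal.Quotient.mk I)).IsPrime :=
    Ideal.map_isPrime_of_surjective Ideal.Quotient.mk_surjective (by rwa [Ideal.mk_ker])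
  have hp' : (p.map (Ideal.Quotient.mk I)).comap (Ideal.Quotient.mkₐ k I).toRingHom = p := by
    change (p.map (Ideal.Quotient.mk I)).comap (Ideal.Quotient.mk I) = p
    rw [Ideal.comap_map_of_surjective _ Ideal.Quotient.mk_surjective]
    exact sup_eq_left.2 (Ideal.mk_ker.le.trans hIp)
  have h1 := Dim.Local.dimQ_le_dimAt_of_le k
    (Ideal.map_le_iff_le_comap.2 hpQ : p.map (Ideal.Quotient.mk I) ≤ q)
  have h2 := FieldDim.dimQ_comap (Ideal.Quotient.mkₐ k I) (Ideal.Quotient.mkₐ_surjective k I)
    (p.map (Ideal.Quotient.mk I))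
  simp only [hp'] at h2
  have h3 : Dim.Basic.dimQ k Q = Dim.Basic.dimQ k q :=
    FieldDim.dimQ_comap (Ideal.Quotient.mkₐ k I) (Ideal.Quotient.mkₐ_surjective k I) q
  have h4 := Dim.Basic.height_add_dimQ k Q
  have h5 : Dim.Basic.trdegNat k (MvPolynomial (Fin n) k) = n := by
    have := (Dim.Basic.ringKrullDim_eq_trdegNat k (MvPolynomial (Fin n) k)).symm.trans
      (Dim.Basic.ringKrullDim_mvPolynomial k (Fin n))
    simpa using this
  rw [h5, ← Dim.Local.coe_height_toNat k Q] at h4
  rw [IsLocalization.AtPrime.ringKrullDim_eq_height q (Localization.AtPrime q),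
    IsLocalization.AtPrime.ringKrullDim_eq_height Q (Localization.AtPrime Q),
    ← Dim.Local.coe_height_toNat k q, ← Dim.Local.coe_height_toNat k Q] at hdim
  have h6 : Dim.Local.dimAt k q = q.height.toNat + Dim.Basic.dimQ k q := rfl
  norm_cast at h4 hdim
  omega

end Groth.Agent.Lib.Synt92.CIPoint
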