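import Groth.Agent.Lib.Synt92.RelChart
import Groth.Agent.Lib.Synt92.CIPoint
import Groth.Agent.Lib.Synt92.Congr
import Mathlib.RingTheory.Flat.Equalizer

/-!
# The local criterion: flat with complete intersection fibre gives a relative complete intersection
-/

universe u

open MvPolynomial TensorProduct

namespace Groth.Agent.Lib.Synt92.CritLocal

/-- An ideal with flat quotient meets the extension of an ideal of the base in the product. -/
theorem mem_mul_of_flat {R A : Type u} [CommRing R] [CommRing A] [Algebra R A] (K : Ideal A)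
    [Module.Flat R (A ⧸ K)] (p : Ideal R) {y : A} (hK : y ∈ K) (hp : y ∈ p.map (algebraMap R A)) :
    y ∈ p.map (algebraMap R A) * K := by
  let ι : K →ₗ[R] A := K.subtype.restrictScalars R
  let g : A →ₗ[R] A ⧸ K := (Ideal.Quotient.mkₐ R K).toLinearMap
  have hex : Function.Exact ι g := fun x => by
    rw [show g x = Ideal.Quotient.mk K x from rfl, Ideal.Quotient.eq_zero_iff_mem]
    exact ⟨fun hx => ⟨⟨x, hx⟩, rfl⟩, fun ⟨z, hz⟩ => hz ▸ z.2⟩
  have hinj := LinearMap.lTensor_injective_of_exact_of_flat g Ideal.Quotient.mk_surjective ι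
    K.subtype_injective hex (R ⧸ p)
  have h0 : (1 : R ⧸ p) ⊗ₜ[R] y = 0 := by
    have hy : y ∈ (p • ⊤ : Submodule R A) := by
      rw [Ideal.smul_top_eq_map]
      exact hp
    refine Submodule.smul_induction_on hy (fun r hr a _ => ?_) fun a b ha hb => ?_
    · rw [TensorProduct.tmul_smul, TensorProduct.smul_tmul', Algebra.smul_def, mul_one,
        Ideal.Quotient.algebraMap_eq, Ideal.Quotient.eq_zero_iff_mem.2 hr, TensorProduct.zero_tmul]
    · rw [TensorProduct.tmul_add, ha, hb, add_zero]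
  have h1 : (1 : R ⧸ p) ⊗ₜ[R] (⟨y, hK⟩ : K) = 0 := hinj (by rw [map_zero]; exact h0)
  have h2 : (⟨y, hK⟩ : K) ∈ (p • ⊤ : Submodule R K) := by
    rw [← Submodule.Quotient.mk_eq_zero]
    have h3 := congrArg (TensorProduct.quotTensorEquivQuotSMul K p) h1
    rw [map_zero, ← map_one (Ideal.Quotient.mk p),
      TensorProduct.quotTensorEquivQuotSMul_mk_tmul, one_smul] at h3
    exact h3
  refine Submodule.smul_induction_on (p := fun z : K => (z : A) ∈ p.map (algebraMap R A) * K) h2
    (fun r hr z _ => ?_) fun a b ha hb => ?_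
  · rw [SetLike.val_smul_of_tower, Algebra.smul_def]
    exact Ideal.mul_mem_mul (Ideal.mem_map_of_mem _ hr) z.2
  · exact add_mem ha hb

variable {R : Type u} [CommRing R] {n : ℕ}

/-- Every polynomial over a residue field is, up to a unit constant, defined over the base. -/
theorem exists_rep (p : Ideal R) [p.IsPrime] (u : MvPolynomial (Fin n) p.ResidueField) :
    ∃ r : R, r ∉ p ∧ ∃ a : MvPolynomial (Fin n) R,
      C (algebraMap R p.ResidueField r) * u = MvPolynomial.map (algebraMap R p.ResidueField) a := by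
  obtain ⟨r, hr, s, hs⟩ := Ideal.Fiber.exists_smul_eq_one_tmul p
    ((algebraTensorAlgEquiv R p.ResidueField).symm u)
  refine ⟨r, hr, s, ?_⟩
  have h := congrArg (algebraTensorAlgEquiv R p.ResidueField) hs
  rw [algebraTensorAlgEquiv_tmul, one_smul,
    ← algebraMap_smul p.ResidueField r ((algebraTensorAlgEquiv R p.ResidueField).symm u),
    map_smul, AlgEquiv.apply_symm_apply, MvPolynomial.smul_eq_C_mul] at h
  exact h

/-- Elements of an extended ideal come from the ideal up to a unit constant. -/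
theorem exists_rep_mem (p : Ideal R) [p.IsPrime] (I : Ideal (MvPolynomial (Fin n) R))
    {u : MvPolynomial (Fin n) p.ResidueField}
    (hu : u ∈ I.map (MvPolynomial.map (algebraMap R p.ResidueField))) :
    ∃ r : R, r ∉ p ∧ ∃ a ∈ I,
      C (algebraMap R p.ResidueField r) * u = MvPolynomial.map (algebraMap R p.ResidueField) a := by
  induction hu using Submodule.span_induction with
  | mem x hx =>
    obtain ⟨a, ha, rfl⟩ := hx
    exact ⟨1, p.one_notMem, a, ha, by simp⟩
  | zero => exact ⟨1, p.one_notMem, 0, I.zero_mem, by simp⟩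
  | add x y _ _ hx hy =>
    obtain ⟨r, hr, a, ha, ea⟩ := hx
    obtain ⟨s, hs, b, hb, eb⟩ := hy
    refine ⟨r * s, fun h => (Ideal.IsPrime.mem_or_mem ‹p.IsPrime› h).elim hr hs, C s * a + C r * b,
      add_mem (I.mul_mem_left _ ha) (I.mul_mem_left _ hb), ?_⟩
    simp only [map_add, map_mul, map_C, ← ea, ← eb]
    ring
  | smul c x _ hx =>
    obtain ⟨r, hr, a, ha, ea⟩ := hx
    obtain ⟨s, hs, b, eb⟩ := exists_rep p c
    refine ⟨r * s, fun h => (Ideal.IsPrime.mem_or_mem ‹p.IsPrime› h).elim hr hs, b * a,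
      I.mul_mem_left _ ha, ?_⟩
    simp only [map_mul, ← ea, ← eb, smul_eq_mul]
    ring

/-- The fibre of a polynomial quotient is presented by the reduced equations. -/
theorem exists_fibre_hom₀ (I : Ideal (MvPolynomial (Fin n) R)) (p : Ideal R) [p.IsPrime] :
    ∃ φ : MvPolynomial (Fin n) p.ResidueField →ₐ[p.ResidueField] p.Fiber (MvPolynomial (Fin n) R ⧸ I),
      Function.Surjective φ ∧
      RingHom.ker φ.toRingHom = I.map (MvPolynomial.map (algebraMap R p.ResidueField)) ∧
      ∀ x, φ (MvPolynomial.map (algebraMap R p.ResidueField) x) = 1 ⊗ₜ Ideal.Quotient.mk I x := by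
  let e := GCIBasic.fiberEquiv R I p
  have he : ∀ x, e (1 ⊗ₜ Ideal.Quotient.mk I x) =
      Ideal.Quotient.mk _ (MvPolynomial.map (algebraMap R p.ResidueField) x) := fun x => by
    simp [e, GCIBasic.fiberEquiv]
  refine ⟨e.symm.toAlgHom.comp (Ideal.Quotient.mkₐ p.ResidueField _),
    e.symm.surjective.comp Ideal.Quotient.mk_surjective, ?_, fun x => e.symm_apply_eq.2 (he x).symm⟩
  ext x
  simp [RingHom.mem_ker, e, Ideal.Quotient.eq_zero_iff_mem]

/-- The fibre of a presented algebra is presented by the reduced equations. -/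
theorem exists_fibre_hom {S : Type u} [CommRing S] [Algebra R S] (ψ : MvPolynomial (Fin n) R →ₐ[R] S)
    (hψ : Function.Surjective ψ) (p : Ideal R) [p.IsPrime] :
    ∃ φ : MvPolynomial (Fin n) p.ResidueField →ₐ[p.ResidueField] p.Fiber S,
      Function.Surjective φ ∧
      RingHom.ker φ.toRingHom =
        (RingHom.ker ψ.toRingHom).map (MvPolynomial.map (algebraMap R p.ResidueField)) ∧
      ∀ x, φ (MvPolynomial.map (algebraMap R p.ResidueField) x) = 1 ⊗ₜ ψ x := by
  obtain ⟨φ₀, h₁, h₂, h₃⟩ := exists_fibre_hom₀ (RingHom.ker ψ.toRingHom) p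
  let e₁ := Ideal.quotientKerAlgEquivOfSurjective hψ
  let E := Algebra.TensorProduct.congr (R := R) (S := p.ResidueField)
    (AlgEquiv.refl (A₁ := p.ResidueField)) e₁
  refine ⟨E.toAlgHom.comp φ₀, E.surjective.comp h₁, ?_, fun x => ?_⟩
  · rw [← h₂]
    ext x
    simp [RingHom.mem_ker]
    rfl
  · change E (φ₀ _) = _
    rw [h₃]
    rfl

/-- The fibre dimension is bounded by the dimensions of the components through the point. -/
theorem fdim_le_of_minimal {S : Type u} [CommRing S] [Algebra R S] [Algebra.FiniteType R S]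
    (q : Ideal S) [q.IsPrime] (m : ℕ)
    (H : ∀ p1 ∈ minimalPrimes ((q.under R).Fiber S),
      p1 ≤ (Groth.Agent.H20.FibreDimBC.fibrePoint R S q).asIdeal →
      Dim.Basic.dimQ (q.under R).ResidueField p1 ≤ m) :
    Groth.Agent.H20.FibreDimBC.fdim R S q ≤ m :=
  (Dim.Local.dimAt_le_iff (q.under R).ResidueField
    (Groth.Agent.H20.FibreDimBC.fibrePoint R S q).asIdeal m).2 H

/-- A bound on the fibre dimension from the components of the fibre through the point. -/
theorem fdim_le {S : Type u} [CommRing S] [Algebra R S] [Algebra.FiniteType R S]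
    (ψ : MvPolynomial (Fin n) R →ₐ[R] S) (hψ : Function.Surjective ψ) (m : ℕ)
    (b : Ideal S) [b.IsPrime] (p : Ideal R) [p.IsPrime] (hp : b.under R = p)
    (H : ∀ (p0 : Ideal (MvPolynomial (Fin n) p.ResidueField)) [p0.IsPrime],
      (∀ x, ψ x = 0 → MvPolynomial.map (algebraMap R p.ResidueField) x ∈ p0) →
      p0.comap (MvPolynomial.map (algebraMap R p.ResidueField)) ≤ b.comap ψ.toRingHom →
      Dim.Basic.dimQ p.ResidueField p0 ≤ m) :
    Groth.Agent.H20.FibreDimBC.fdim R S b ≤ m := by
  subst hp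
  refine fdim_le_of_minimal b m fun p1 hp1 hle => ?_
  haveI : p1.IsPrime := hp1.1.1
  obtain ⟨φ, hφ, hker, hφρ⟩ := exists_fibre_hom ψ hψ (b.under R)
  haveI : (p1.comap φ.toRingHom).IsPrime := Ideal.IsPrime.comap _
  rw [← FieldDim.dimQ_comap φ hφ p1]
  refine H _ (fun x hx => ?_) fun x hx => ?_
  · change φ _ ∈ p1
    rw [hφρ, hx, TensorProduct.tmul_zero]
    exact zero_mem _
  · have h1 : (1 : (b.under R).ResidueField) ⊗ₜ[R] ψ x ∈
        (Groth.Agent.H20.FibreDimBC.fibrePoint R S b).asIdeal := by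
      rw [← hφρ]
      exact hle hx
    have h2 := Groth.Agent.H20.FibreDimBC.comap_fibrePoint (R := R) (S := S) b
    rw [Ideal.mem_comap, ← h2]
    exact h1

/-- Flat with complete intersection fibre: equations which cut out the algebra near the point and
form a relative global complete intersection there. -/
theorem exists_data {S : Type u} [CommRing S] [Algebra R S]
    (ψ : MvPolynomial (Fin n) R →ₐ[R] S) (hψ : Function.Surjective ψ)
    (hI : (RingHom.ker ψ.toRingHom).FG)
    (b : Ideal S) [b.IsPrime] (p : Ideal R) [p.IsPrime] (hb : b.under R = p)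
    [Module.Flat R (Localization.AtPrime b)]
    (a : Ideal (p.Fiber S)) [a.IsPrime]
    (ha : a.comap Algebra.TensorProduct.includeRight.toRingHom = b)
    (hCI : Synt.IsCIOver p.ResidueField (Localization.AtPrime a)) :
    ∃ (c : ℕ) (F : Fin c → MvPolynomial (Fin n) R) (g : MvPolynomial (Fin n) R), ψ g ∉ b ∧
      (∀ i, ψ (F i) = 0) ∧ (∀ y, ψ y = 0 → g * y ∈ Ideal.span (Set.range F)) ∧
      Synt.IsRelGCI R (n + 1) (c + 1) (AwayPres.ext R n c F g) := by
  classical
  set I : Ideal (MvPolynomial (Fin n) R) := RingHom.ker ψ.toRingHom with hIdef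
  haveI : Algebra.FiniteType R S := Algebra.FiniteType.of_surjective ψ hψ
  obtain ⟨φ, hφ, hker, hφρ⟩ := exists_fibre_hom ψ hψ p
  set ρ : MvPolynomial (Fin n) R →+* MvPolynomial (Fin n) p.ResidueField :=
    MvPolynomial.map (algebraMap R p.ResidueField) with hρdef
  set Q : Ideal (MvPolynomial (Fin n) R) := b.comap ψ.toRingHom with hQdef
  set Qk : Ideal (MvPolynomial (Fin n) p.ResidueField) := a.comap φ.toRingHom with hQk
  haveI : Qk.IsPrime := Ideal.IsPrime.comap _
  have hρQ : ∀ x, ρ x ∈ Qk ↔ x ∈ Q := fun x => by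
    change φ (ρ x) ∈ a ↔ ψ x ∈ b
    rw [hφρ, ← ha]
    rfl
  have hC : ∀ r, r ∉ p → C (algebraMap R p.ResidueField r) ∉ Qk := fun r hr hmem => by
    rw [← map_C (algebraMap R p.ResidueField)] at hmem
    have h1 : ψ (algebraMap R _ r) ∈ b := (hρQ _).1 hmem
    rw [ψ.commutes] at h1
    rw [← hb] at hr
    exact hr h1
  set L := Localization.AtPrime Qk
  haveI : Algebra.EssFiniteType (MvPolynomial (Fin n) p.ResidueField) L :=
    Algebra.EssFiniteType.of_isLocalization _ Qk.primeCompl
  haveI : Algebra.EssFiniteType p.ResidueField L :=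
    Algebra.EssFiniteType.comp p.ResidueField (MvPolynomial (Fin n) p.ResidueField) _
  obtain ⟨π, hπ, hkerπ, -⟩ := LocalQuot.exists_hom φ hφ a (Localization.AtPrime a)
  rw [hker] at hkerπ
  obtain ⟨rs, hrs, hrsker⟩ := (CIPres.isCIOver_iff _ _ π hπ).1 hCI
  set c := rs.length
  -- equations over the base with the same ideal at the point of the fibre
  have hex : ∀ i : Fin c, ∃ f ∈ I, ∃ u : L, IsUnit u ∧ rs[i.1] * u = algebraMap _ L (ρ f) := fun i => by
    have h1 : rs[i.1] ∈ (I.map ρ).map (algebraMap _ L) := by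
      rw [← hkerπ, hrsker]
      exact Ideal.subset_span (List.getElem_mem _)
    obtain ⟨⟨⟨y, hy⟩, t⟩, e⟩ := (IsLocalization.mem_map_algebraMap_iff Qk.primeCompl L).1 h1
    obtain ⟨r, hr, f, hf, ef⟩ := exists_rep_mem p I hy
    refine ⟨f, hf, algebraMap _ L (C (algebraMap R p.ResidueField r)) * algebraMap _ L t.1,
      (IsLocalization.map_units L (⟨_, hC r hr⟩ : Qk.primeCompl)).mul (IsLocalization.map_units L t), ?_⟩
    rw [mul_left_comm, e, ← map_mul, ef]
  choose F hFI u hu hFu using hex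
  set J : Ideal (MvPolynomial (Fin n) R) := Ideal.span (Set.range F)
  have hJI : J ≤ I := Ideal.span_le.2 (by rintro _ ⟨i, rfl⟩; exact hFI i)
  have hLJ : (I.map ρ).map (algebraMap _ L) ≤ (J.map ρ).map (algebraMap _ L) := by
    rw [← hkerπ, hrsker]
    refine Ideal.span_le.2 fun x hx => ?_
    obtain ⟨i, hi, rfl⟩ := List.mem_iff_getElem.1 hx
    refine (Ideal.mul_unit_mem_iff_mem _ (hu ⟨i, hi⟩)).1 ?_
    rw [hFu ⟨i, hi⟩]
    exact Ideal.mem_map_of_mem _ (Ideal.mem_map_of_mem _ (Ideal.subset_span (Set.mem_range_self _)))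
  -- the components of the fibre through the point
  have hd0 : ringKrullDim (Localization.AtPrime a) + (c : WithBot ℕ∞) = ringKrullDim L := by
    have hq : ringKrullDim (L ⧸ Ideal.ofList rs) = ringKrullDim (Localization.AtPrime a) :=
      ringKrullDim_eq_of_ringEquiv ((Ideal.quotEquivOfEq hrsker.symm).trans
        (RingHom.quotientKerEquivOfSurjective hπ))
    rw [← hq, ringKrullDim_add_length_eq_ringKrullDim_of_isRegular rs hrs]
  haveI : IsLocalization.AtPrime (Localization.AtPrime a) a := inferInstance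
  rw [IsLocalization.AtPrime.ringKrullDim_eq_height a (Localization.AtPrime a),
    IsLocalization.AtPrime.ringKrullDim_eq_height Qk L,
    ← Dim.Local.coe_height_toNat p.ResidueField Qk,
    ← Dim.Local.coe_height_toNat p.ResidueField a] at hd0
  norm_cast at hd0
  have h5 : Dim.Basic.trdegNat p.ResidueField (MvPolynomial (Fin n) p.ResidueField) = n := by
    have := (Dim.Basic.ringKrullDim_eq_trdegNat p.ResidueField (MvPolynomial (Fin n) p.ResidueField)).symm.trans
      (Dim.Basic.ringKrullDim_mvPolynomial p.ResidueField (Fin n))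
    simpa using this
  have h4 := Dim.Basic.height_add_dimQ p.ResidueField Qk
  rw [h5, ← Dim.Local.coe_height_toNat p.ResidueField Qk] at h4
  norm_cast at h4
  have hcn : c ≤ n := by omega
  have hdim : ∀ (p0 : Ideal (MvPolynomial (Fin n) p.ResidueField)) [p0.IsPrime],
      (∀ i, ρ (F i) ∈ p0) → p0.comap ρ ≤ Q → Dim.Basic.dimQ p.ResidueField p0 ≤ n - c := by
    intro p0 _ hF hle
    have hp0 : p0 ≤ Qk := fun x hx => by
      obtain ⟨r, hr, y, ey⟩ := exists_rep p x
      have h1 : ρ y ∈ Qk := (hρQ y).2 (hle (show ρ y ∈ p0 from ey ▸ p0.mul_mem_left _ hx))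
      rw [← ey] at h1
      exact (Ideal.IsPrime.mem_or_mem ‹Qk.IsPrime› h1).resolve_left (hC r hr)
    have hIp0 : I.map ρ ≤ p0 := by
      intro x hx
      have h1 := hLJ (Ideal.mem_map_of_mem _ hx)
      have h2 : (J.map ρ).map (algebraMap _ L) ≤ p0.map (algebraMap _ L) := by
        refine Ideal.map_mono (Ideal.map_le_iff_le_comap.2 (Ideal.span_le.2 ?_))
        rintro _ ⟨i, rfl⟩
        exact hF i
      have h3 := h2 h1
      rwa [← Ideal.mem_comap, show (p0.map (algebraMap _ L)).comap _ = p0 from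
        IsLocalization.under_map_of_isPrime_disjoint Qk.primeCompl _ inferInstance
          (Set.disjoint_left.2 fun y hy hy' => hy (hp0 hy'))] at h3
    haveI : (p0.map φ.toRingHom).IsPrime :=
      Ideal.map_isPrime_of_surjective (f := φ.toRingHom) hφ (hker.le.trans hIp0)
    have hp' : (p0.map φ.toRingHom).comap φ.toRingHom = p0 := by
      rw [Ideal.comap_map_of_surjective _ (show Function.Surjective φ.toRingHom from hφ)]
      exact sup_eq_left.2 (hker.le.trans hIp0)
    have h1 := Dim.Local.dimQ_le_dimAt_of_le p.ResidueField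
      (Ideal.map_le_iff_le_comap.2 hp0 : p0.map φ.toRingHom ≤ a)
    have h2 := FieldDim.dimQ_comap φ hφ (p0.map φ.toRingHom)
    simp only [hp'] at h2
    have h3 : Dim.Basic.dimQ p.ResidueField Qk = Dim.Basic.dimQ p.ResidueField a :=
      FieldDim.dimQ_comap φ hφ a
    have h6 : Dim.Local.dimAt p.ResidueField a = a.height.toNat + Dim.Basic.dimQ p.ResidueField a := rfl
    omega
  -- the equations generate the ideal at the point
  let θ : Localization.AtPrime Q →+* L := Localization.localRingHom Q Qk ρ (Ideal.ext fun x => (hρQ x).symm)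
  have hθ : ∀ x, θ (algebraMap _ _ x) = algebraMap _ L (ρ x) := fun x =>
    Localization.localRingHom_to_map _ _ _ _ x
  have hθs : Function.Surjective θ := fun l => by
    obtain ⟨⟨x, s, hs⟩, e⟩ := IsLocalization.surj Qk.primeCompl l
    obtain ⟨r, hr, xa, ex⟩ := exists_rep p x
    obtain ⟨r', hr', sb, es⟩ := exists_rep p s
    have hd : C r * sb ∈ Q.primeCompl := fun hmem => by
      have h1 := (hρQ _).2 hmem
      rw [map_mul, ← es, show ρ (C r) = C (algebraMap R p.ResidueField r) from map_C _ r] at h1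
      rcases Ideal.IsPrime.mem_or_mem ‹Qk.IsPrime› h1 with h2 | h2
      · exact hC r hr h2
      · exact (Ideal.IsPrime.mem_or_mem ‹Qk.IsPrime› h2).elim (hC r' hr') hs
    refine ⟨IsLocalization.mk' _ (C r' * xa) (⟨_, hd⟩ : Q.primeCompl), ?_⟩
    have hu' : IsUnit (θ (algebraMap _ _ (C r * sb))) :=
      (IsLocalization.map_units _ (⟨_, hd⟩ : Q.primeCompl)).map θ
    refine hu'.mul_right_cancel ?_
    rw [← map_mul θ, IsLocalization.mk'_spec, hθ, hθ]
    have ex' : ρ xa = C (algebraMap R p.ResidueField r) * x := ex.symm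
    have es' : ρ sb = C (algebraMap R p.ResidueField r') * s := es.symm
    simp only at e
    simp only [map_mul, ex', es']
    rw [show ρ (C r) = C (algebraMap R p.ResidueField r) from map_C _ r,
      show ρ (C r') = C (algebraMap R p.ResidueField r') from map_C _ r', ← e]
    ring
  have hθker : RingHom.ker θ ≤ p.map (algebraMap R (Localization.AtPrime Q)) := by
    intro z hz
    obtain ⟨⟨x, s⟩, e⟩ := IsLocalization.surj Q.primeCompl z
    have h1 : θ (algebraMap _ _ x) = 0 := by rw [← e, map_mul, RingHom.mem_ker.1 hz, zero_mul]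
    rw [hθ] at h1
    have hinj : Function.Injective (algebraMap (MvPolynomial (Fin n) p.ResidueField) L) :=
      IsLocalization.injective L Qk.primeCompl_le_nonZeroDivisors
    have h2 : x ∈ RingHom.ker ρ := hinj (h1.trans (map_zero _).symm)
    rw [hρdef, MvPolynomial.ker_map, Ideal.ker_algebraMap_residueField] at h2
    refine (Ideal.mul_unit_mem_iff_mem _ (IsLocalization.map_units _ s)).1 ?_
    rw [e, IsScalarTower.algebraMap_eq R (MvPolynomial (Fin n) R), ← Ideal.map_map]
    exact Ideal.mem_map_of_mem _ h2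
  obtain ⟨π₀, hπ₀, hker₀, -⟩ := LocalQuot.exists_hom (k := R) ψ hψ b (Localization.AtPrime b)
  set LQ := Localization.AtPrime Q
  set K : Ideal LQ := I.map (algebraMap _ LQ)
  haveI : Module.Flat R (LQ ⧸ K) :=
    Module.Flat.of_linearEquiv ((Ideal.quotientEquivAlgOfEq R hker₀.symm).trans
      (Ideal.quotientKerAlgEquivOfSurjective hπ₀)).toLinearEquiv
  have hKJ : K ≤ J.map (algebraMap _ LQ) := by
    have hpm : p.map (algebraMap R LQ) ≤ IsLocalRing.maximalIdeal LQ := by
      rw [← Localization.AtPrime.map_eq_maximalIdeal, Ideal.map_le_iff_le_comap]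
      intro r hr
      rw [Ideal.mem_comap, IsScalarTower.algebraMap_apply R (MvPolynomial (Fin n) R) LQ]
      refine Ideal.mem_map_of_mem _ ?_
      change ψ (algebraMap R _ r) ∈ b
      rw [ψ.commutes]
      rw [← hb] at hr
      exact hr
    refine Submodule.le_of_le_smul_of_le_jacobson_bot (I := IsLocalRing.maximalIdeal LQ)
      (hI.map _) (IsLocalRing.maximalIdeal_le_jacobson _) fun y hy => ?_
    have h1 : θ y ∈ (J.map (algebraMap _ LQ)).map θ := by
      have e : ∀ K' : Ideal (MvPolynomial (Fin n) R),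
          (K'.map (algebraMap _ LQ)).map θ = (K'.map ρ).map (algebraMap _ L) := fun K' => by
        rw [Ideal.map_map, Ideal.map_map]
        congr 1
        exact RingHom.ext hθ
      rw [e]
      exact hLJ (e I ▸ Ideal.mem_map_of_mem θ hy)
    obtain ⟨j, hj, hjy⟩ := (Ideal.mem_map_iff_of_surjective θ hθs).1 h1
    have h2 : y - j ∈ p.map (algebraMap R LQ) := hθker (by rw [RingHom.mem_ker, map_sub, hjy, sub_self])
    have h3 : y - j ∈ K := sub_mem hy (Ideal.map_mono hJI hj)
    have h4 := Ideal.mul_mono_left hpm (mem_mul_of_flat K p h3 h2)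
    rw [show y = j + (y - j) by ring]
    exact Submodule.add_mem_sup hj h4
  -- spread out
  obtain ⟨s, hs⟩ := hI
  have hex2 : ∀ x ∈ s, ∃ h, h ∉ Q ∧ h * x ∈ J := fun x hx => by
    have hx' := hKJ (Ideal.mem_map_of_mem _ (hs ▸ Ideal.subset_span hx : x ∈ I))
    obtain ⟨⟨⟨y, hy⟩, ⟨t, ht⟩⟩, e⟩ := (IsLocalization.mem_map_algebraMap_iff Q.primeCompl _).1 hx'
    simp only [← map_mul] at e
    obtain ⟨⟨w, hw⟩, he⟩ := IsLocalization.exists_of_eq (M := Q.primeCompl) e
    refine ⟨w * t, Q.primeCompl.mul_mem hw ht, ?_⟩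
    have : w * (x * t) ∈ J := he ▸ J.mul_mem_left w hy
    convert this using 1
    ring
  choose! hfun hfq hfJ using hex2
  set h₀ := ∏ x ∈ s, hfun x
  have h₀Q : h₀ ∉ Q := fun hm => by
    obtain ⟨x, hx, hxq⟩ := (Ideal.IsPrime.prod_mem_iff).1 hm
    exact hfq x hx hxq
  have h₀I : ∀ y ∈ I, h₀ * y ∈ J := by
    intro y hy
    rw [← hs] at hy
    induction hy using Submodule.span_induction with
    | mem x hx =>
      obtain ⟨w, hw⟩ := Finset.dvd_prod_of_mem hfun hx
      rw [show h₀ * x = w * (hfun x * x) by rw [show h₀ = hfun x * w from hw]; ring]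
      exact J.mul_mem_left w (hfJ x hx)
    | zero => simp
    | add a b _ _ ha hb => rw [mul_add]; exact add_mem ha hb
    | smul a b _ hb => rw [smul_eq_mul, mul_left_comm]; exact J.mul_mem_left a hb
  have hJQ : J ≤ Q := hJI.trans fun x hx => by
    change ψ x ∈ b
    rw [show ψ x = 0 from hx]
    exact zero_mem _
  haveI hbT : (Q.map (Ideal.Quotient.mk J)).IsPrime :=
    Ideal.map_isPrime_of_surjective Ideal.Quotient.mk_surjective (by rwa [Ideal.mk_ker])
  set bT : Ideal (Synt.RelGCIRing R n c F) := Q.map (Ideal.Quotient.mk J)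
  have hbTc : bT.comap (Ideal.Quotient.mk J) = Q := by
    rw [Ideal.comap_map_of_surjective _ Ideal.Quotient.mk_surjective]
    exact sup_eq_left.2 (Ideal.mk_ker.le.trans hJQ)
  have hfd := fdim_le (Ideal.Quotient.mkₐ R J) (Ideal.Quotient.mkₐ_surjective R J) (n - c) bT p (by
    rw [← hb]
    ext r
    change Ideal.Quotient.mk J (algebraMap R _ r) ∈ bT ↔ algebraMap R S r ∈ b
    rw [← Ideal.mem_comap, hbTc, ← ψ.commutes]
    rfl) fun p0 _ hF hle => hdim p0
      (fun i => hF _ (Ideal.Quotient.eq_zero_iff_mem.2 (Ideal.subset_span (Set.mem_range_self i))))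
      (hle.trans hbTc.le)
  obtain ⟨_, ⟨g₁, rfl⟩, hg₁, hsub⟩ := PrimeSpectrum.isTopologicalBasis_basic_opens.exists_subset_of_mem_open
    (show (⟨bT, hbT⟩ : PrimeSpectrum (Synt.RelGCIRing R n c F)) ∈ _ from hfd)
    (Groth.Agent.H20.FibreDimSet.isOpen_setOf_fdim_le (R := R) (S := Synt.RelGCIRing R n c F) (n - c))
  obtain ⟨g₁, rfl⟩ := Ideal.Quotient.mk_surjective g₁
  set g := h₀ * g₁ with hg
  have hgQ : g ∉ Q := fun hm => (Ideal.IsPrime.mem_or_mem (inferInstance : Q.IsPrime) hm).elim h₀Q
    fun h => hg₁ (Ideal.mem_map_of_mem _ h)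
  refine ⟨c, F, g, hgQ, hFI, fun y hy => ?_, RelChart.isRelGCI_ext R hcn F g fun q hq hgq =>
    hsub (a := ⟨q, hq⟩) fun hm => hgq (by rw [hg, map_mul]; exact q.mul_mem_left _ hm)⟩
  rw [hg, mul_comm h₀, mul_assoc]
  exact J.mul_mem_left _ (h₀I y hy)

/-- Flat with complete intersection fibre: a relative global complete intersection nearby. -/
theorem exists_relGCI {S : Type u} [CommRing S] [Algebra R S]
    (ψ : MvPolynomial (Fin n) R →ₐ[R] S) (hψ : Function.Surjective ψ)
    (hI : (RingHom.ker ψ.toRingHom).FG)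
    (b : Ideal S) [b.IsPrime] (p : Ideal R) [p.IsPrime] (hb : b.under R = p)
    [Module.Flat R (Localization.AtPrime b)]
    (a : Ideal (p.Fiber S)) [a.IsPrime]
    (ha : a.comap Algebra.TensorProduct.includeRight.toRingHom = b)
    (hCI : Synt.IsCIOver p.ResidueField (Localization.AtPrime a)) :
    ∃ g : S, g ∉ b ∧ ∃ (n' c : ℕ) (F : Fin c → MvPolynomial (Fin n') R),
      Synt.IsRelGCI R n' c F ∧ Nonempty (Localization.Away g ≃ₐ[R] Synt.RelGCIRing R n' c F) := by
  obtain ⟨c, F, g, hgb, hFI, hmul, hrel⟩ := exists_data ψ hψ hI b p hb a ha hCI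
  refine ⟨ψ g, hgb, n + 1, c + 1, AwayPres.ext R n c F g, hrel, ?_⟩
  obtain ⟨e⟩ := Congr.nonempty_away_quotient (R := R) (RingHom.ker ψ.toRingHom)
    (Ideal.span (Set.range F)) (Ideal.span_le.2 (by rintro _ ⟨i, rfl⟩; exact hFI i)) g hmul
  obtain ⟨e'⟩ := AwayPres.nonempty_equiv R n c F g
  obtain ⟨e₂⟩ := Congr.nonempty_away_congr (Ideal.quotientKerAlgEquivOfSurjective hψ)
    (Ideal.Quotient.mk (RingHom.ker ψ) g)
  exact ⟨e₂.symm.trans (e.symm.trans e')⟩

end Groth.Agent.Lib.Synt92.CritLocal
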