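import Groth.Agent.H26.CILoc

/-!
# Syntomic ring maps through the local rings of their fibres
-/

universe u

open Groth.Agent.H26

namespace Groth.Agent.Lib.Synt92.MorAlg

/-- A ring map is syntomic if and only if it is flat, finitely presented and all local rings of all
fibres are complete intersections. -/
theorem isSyntomic_iff {R S : Type u} [CommRing R] [CommRing S] [Algebra R S] :
    Synt.IsSyntomic R S ↔ Module.Flat R S ∧ Algebra.FinitePresentation R S ∧
      ∀ (p : PrimeSpectrum R) (Q : PrimeSpectrum (p.asIdeal.Fiber S)),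
        Synt.IsCIOver p.asIdeal.ResidueField (Localization.AtPrime Q.asIdeal) := by
  refine ⟨fun ⟨h1, h2, h3⟩ => ⟨h1, h2, fun p => ?_⟩, fun ⟨h1, h2, h3⟩ => ⟨h1, h2, fun p => ?_⟩⟩
  · haveI : Algebra.FiniteType R S := inferInstance
    exact (CILoc.isLCIOver_iff _).1 (h3 p)
  · haveI : Algebra.FiniteType R S := inferInstance
    exact (CILoc.isLCIOver_iff _).2 (h3 p)

/-- Complete intersection rings and complete intersections over a field, through a ring isomorphism. -/
theorem isCompleteIntersection_iff_of_equiv (k : Type u) [Field k] {A B : Type u} [CommRing A] [IsLocalRing A]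
    [CommRing B] [IsLocalRing B] [Algebra k B] [Algebra.EssFiniteType k B] (e : A ≃+* B) :
    Pi1.IsCompleteIntersection A ↔ Synt.IsCIOver k B := by
  obtain ⟨n, Q, hQ, π, hπ⟩ := CIPres.exists_presentation (k := k) B
  haveI : IsRegularLocalRing (Localization.AtPrime Q) := inferInstance
  haveI : Algebra.EssFiniteType (MvPolynomial (Fin n) k) (Localization.AtPrime Q) :=
    Algebra.EssFiniteType.of_isLocalization _ Q.primeCompl
  haveI : Algebra.EssFiniteType k (Localization.AtPrime Q) :=
    Algebra.EssFiniteType.comp k (MvPolynomial (Fin n) k) _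
  rw [CIPres.isCIOver_iff B _ π hπ]
  letI := (e.symm.toRingHom.comp π.toRingHom).toAlgebra
  have hs : Function.Surjective (algebraMap (Localization.AtPrime Q) A) :=
    e.symm.surjective.comp hπ
  rw [(CIQuotient.isCompleteIntersection_iff_of_surjective (R := Localization.AtPrime Q) (A := A) hs).1]
  have hk : RingHom.ker (algebraMap (Localization.AtPrime Q) A) = RingHom.ker π.toRingHom := by
    ext a
    rw [RingHom.mem_ker, RingHom.mem_ker]
    exact map_eq_zero_iff e.symm.toRingHom e.symm.injective
  rw [hk]
  exact ⟨fun ⟨rs, h, e⟩ => ⟨rs, h, e.symm⟩, fun ⟨rs, h, e⟩ => ⟨rs, h, e.symm⟩⟩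

end Groth.Agent.Lib.Synt92.MorAlg
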