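import Groth.Agent.Lib.Synt92.KoszulH1
import Groth.Agent.Lib.Synt92.CritLocal
import Groth.Agent.Lib.Synt92.MorAlg
import Groth.Agent.Lib.Synt92.LocalQuot
import Groth.Agent.Lib.Cyc.SmoothReg
import Groth.Agent.Lib.JacCrit.FlatRegular

/-!
# Fibres of flat Koszul-regular quotients of smooth algebras
-/

universe u

open IsLocalRing RingTheory.Sequence Groth.Agent.H26

namespace Groth.Agent.Lib.Synt92.KoszulFlat

/-- Local rings of smooth algebras over fields are regular. -/
theorem isRegularLocalRing_of_smooth (k : Type u) [Field k] (A : Type u) [CommRing A] [Algebra k A]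
    [Algebra.Smooth k A] (P : Ideal A) [P.IsPrime] : IsRegularLocalRing (Localization.AtPrime P) := by
  obtain ⟨g, hg, hs⟩ := Algebra.IsSmoothAt.exists_notMem_isStandardSmooth k P
  haveI := Cyc.SmoothReg.isRegularRing_of_isStandardSmooth (algebraMap k (Localization.Away g))
    (RingHom.isStandardSmooth_algebraMap.2 hs)
  obtain ⟨a, ha, ⟨e⟩⟩ := CIPoint.exists_equiv_away (k := k) g P hg
  haveI : IsRegularLocalRing (Localization.AtPrime a) :=
    IsRegularRing.isRegularLocalRing_localization (R := Localization.Away g) a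
  exact IsRegularLocalRing.of_ringEquiv e.toRingEquiv

variable {R B A : Type u} [CommRing R] [CommRing B] [CommRing A] [Algebra R B] [Algebra R A]

/-- The local ring of the fibre of a flat Koszul-regular quotient of a smooth algebra is a complete
intersection. -/
theorem isCompleteIntersection [Algebra.Smooth R B] [Module.Flat R A] (φ : B →ₐ[R] A)
    (hφ : Function.Surjective φ) {n : ℕ} (f : Fin n → B) (hker : RingHom.ker φ.toRingHom = Ideal.span (Set.range f))
    (hf : Wiebe.Link.Acyc f) (p : Ideal R) [p.IsPrime] (P : Ideal A) [P.IsPrime]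
    (Q : Ideal (p.Fiber A)) [Q.IsPrime]
    (hQ : Q.comap (Algebra.TensorProduct.includeRight (R := R) (A := p.ResidueField)) = P) :
    Pi1.IsCompleteIntersection (Localization.AtPrime Q) := by
  set q := P.comap φ.toRingHom with hq
  haveI : q.IsPrime := Ideal.IsPrime.comap _
  obtain ⟨π, hπ, hkerπ, -⟩ := LocalQuot.exists_hom φ hφ P (Localization.AtPrime P)
  let L := Localization.AtPrime q
  let fL : Fin n → L := fun i => algebraMap B L (f i)
  have hK : RingHom.ker π.toRingHom = Ideal.span (Set.range fL) := by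
    rw [hkerπ, hker, Ideal.map_span, ← Set.range_comp]
    rfl
  -- the first Koszul homology vanishes in the local ring
  haveI : Module.Flat B L := IsLocalization.flat L q.primeCompl
  have hH1 : ∀ z : Fin n → L, ∑ i, fL i • z i = 0 → Triv.IsTriv fL z :=
    KoszulH1.isTriv_of_acyc (Wiebe.Bridge.acyc_flat f hf)
  haveI : Module.Flat R (Localization.AtPrime P) := Module.Flat.trans R A _
  haveI : Module.Flat R (L ⧸ Ideal.span (Set.range fL)) :=
    Module.Flat.of_linearEquiv (((Ideal.quotientEquivAlgOfEq R hK.symm).trans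
      (Ideal.quotientKerAlgEquivOfSurjective hπ)).toLinearEquiv)
  -- the two fibre rings
  set pL := p.map (algebraMap R L) with hpL
  set pP := p.map (algebraMap R (Localization.AtPrime P)) with hpP
  have hle : pL ≤ pP.comap π.toRingHom := Ideal.map_le_iff_le_comap.2 fun r hr => by
    change π (algebraMap R L r) ∈ pP
    rw [π.commutes]
    exact Ideal.mem_map_of_mem _ hr
  let θ : (L ⧸ pL) →+* Localization.AtPrime P ⧸ pP := Ideal.quotientMap pP π.toRingHom hle
  have hθ : Function.Surjective θ := Ideal.quotientMap_surjective hπ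
  -- the ambient fibre is regular
  let QB : Ideal (p.Fiber B) := Q.comap (Algebra.TensorProduct.map (AlgHom.id p.ResidueField p.ResidueField) φ).toRingHom
  haveI : QB.IsPrime := Ideal.IsPrime.comap _
  have hQB : QB.comap (Algebra.TensorProduct.includeRight (R := R) (A := p.ResidueField)) = q := by
    ext b
    change (Algebra.TensorProduct.map (AlgHom.id p.ResidueField p.ResidueField) φ)
      ((1 : p.ResidueField) ⊗ₜ[R] b) ∈ Q ↔ φ b ∈ P
    rw [Algebra.TensorProduct.map_tmul, ← hQ]
    exact Iff.rfl
  haveI := isRegularLocalRing_of_smooth p.ResidueField (p.Fiber B) QB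
  obtain ⟨eB⟩ := JacCrit.FlatRegular.nonempty_ringEquiv p q QB hQB
  haveI : IsRegularLocalRing (L ⧸ pL) := IsRegularLocalRing.of_ringEquiv (R := Localization.AtPrime QB) (R' := L ⧸ pL) eB
  obtain ⟨eA⟩ := JacCrit.FlatRegular.nonempty_ringEquiv p P Q hQ
  letI := (eA.symm.toRingHom.comp θ).toAlgebra
  have hs : Function.Surjective (algebraMap (L ⧸ pL) (Localization.AtPrime Q)) :=
    eA.symm.surjective.comp hθ
  rw [(CIQuotient.isCompleteIntersection_iff_of_surjective (R := L ⧸ pL) hs).1]
  let fb : Fin n → L ⧸ pL := fun i => Ideal.Quotient.mk pL (fL i)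
  have hkθ : RingHom.ker (algebraMap (L ⧸ pL) (Localization.AtPrime Q)) = Ideal.span (Set.range fb) := by
    rw [show Set.range fb = Ideal.Quotient.mk pL '' Set.range fL from Set.range_comp _ _,
      ← Ideal.map_span, ← hK]
    change RingHom.ker (eA.symm.toRingHom.comp θ) = _
    rw [RingHom.ker_comp_of_injective (f := eA.symm.toRingHom) θ eA.symm.injective]
    change RingHom.ker (Ideal.quotientMap pP π.toRingHom hle) = _
    rw [Ideal.quotientMap, Ideal.ker_quotient_lift]
    rw [← RingHom.comap_ker, Ideal.mk_ker]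
    have hpm : pP = pL.map π.toRingHom := by
      rw [hpL, hpP, Ideal.map_map]
      exact congrArg (fun g => Ideal.map g p) π.comp_algebraMap.symm
    rw [hpm, Ideal.comap_map_of_surjective π.toRingHom hπ, Ideal.map_sup, Ideal.map_quotient_self, bot_sup_eq]
    rfl
  have htriv : ∀ z : Fin n → L ⧸ pL, ∑ i, fb i • z i = 0 → Triv.IsTriv fb z :=
    KoszulH1.isTriv_quotient (Ideal.Quotient.mk pL) Ideal.Quotient.mk_surjective hH1
      fun y hy hy' => by
        rw [Ideal.mk_ker] at hy' ⊢
        exact CritLocal.mem_mul_of_flat _ p hy hy'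
  have hne : Ideal.span (Set.range fb) ≠ ⊤ := hkθ ▸ RingHom.ker_ne_top _
  have hw : IsWeaklyRegular (L ⧸ pL) (List.ofFn fb) :=
    Triv.regular_of_triv (Ideal.span (Set.range fb))
      (fun N N' => IsHausdorff.of_isLocalRing _ _ hne) n fb (fun i => Ideal.subset_span ⟨i, rfl⟩) htriv
  refine ⟨List.ofFn fb, ⟨hw, fun h => hne ?_⟩, (Triv.ofList_ofFn fb).trans hkθ.symm⟩
  rw [smul_eq_mul, Ideal.mul_top, Triv.ofList_ofFn] at h
  exact h.symm

end Groth.Agent.Lib.Synt92.KoszulFlat
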