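import Groth.Agent.Lib.Synt92.KRImm

/-! Koszul-regular immersions and restrictions to open subschemes. -/

set_option autoImplicit false

universe u

open CategoryTheory CategoryTheory.Limits AlgebraicGeometry

namespace Groth.Agent.Lib.Synt92.KRMor

open KRImm

theorem atN_openImmersion_iff {W Z X : Scheme.{u}} (i : Z ⟶ X) [IsImmersion i] (o : W ⟶ Z)
    [IsOpenImmersion o] (w : W) (n : ℕ) : AtN n (o ≫ i) w ↔ AtN n i (o w) := by
  obtain ⟨O, hO, hOW⟩ := i.isEmbedding.isInducing.isOpen_iff.1 o.opensRange.2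
  have hz : i (o w) ∈ (⟨O, hO⟩ : X.Opens) := by
    have : o w ∈ i ⁻¹' O := hOW ▸ ⟨w, rfl⟩
    exact this
  obtain ⟨⟨V, hV⟩, hzV, hVO, hcl⟩ := exists_closed_chart i (o w) hz
  have hr : i ⁻¹ᵁ V ≤ o.opensRange := fun x hx => hOW.le (hVO hx : i x ∈ O)
  haveI hiso : IsIso (o ∣_ (i ⁻¹ᵁ V)) := by
    haveI : Surjective (o ∣_ (i ⁻¹ᵁ V)) := ⟨fun x => by
      obtain ⟨y, hy⟩ := hr x.2
      exact ⟨⟨y, by change o y ∈ i ⁻¹ᵁ V; rw [hy]; exact x.2⟩,
        Subtype.ext ((morphismRestrict_base_coe o (i ⁻¹ᵁ V) _).trans hy)⟩⟩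
    exact (isIso_iff_isOpenImmersion_and_surjective _).2 ⟨inferInstance, inferInstance⟩
  have hcl' : IsClosedImmersion ((o ≫ i) ∣_ V) := by
    rw [morphismRestrict_comp]
    exact @MorphismProperty.comp_mem _ _ @IsClosedImmersion _ _ _ _ (o ∣_ (i ⁻¹ᵁ V)) (i ∣_ V)
      (haveI := hiso; inferInstance) hcl
  have hker : RingHom.ker ((o ≫ i).app V).hom = RingHom.ker (i.app V).hom := by
    haveI := Scheme.Hom.isIso_app o (i ⁻¹ᵁ V) hr
    rw [Scheme.Hom.comp_app]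
    erw [CommRingCat.hom_comp]
    exact RingHom.ker_comp_of_injective _ (ConcreteCategory.bijective_of_isIso (o.app (i ⁻¹ᵁ V))).1
  have hgen : GenAt n (o ≫ i) hV w hzV ↔ GenAt n i hV (o w) hzV := by
    unfold GenAt
    rw [hker]
    rfl
  exact ⟨fun h => atN_of_genAt hV hcl hzV (hgen.1 (genAt_of_atN h hV hcl' hzV)),
    fun h => atN_of_genAt hV hcl' hzV (hgen.2 (genAt_of_atN h hV hcl hzV))⟩

theorem atN_open_iff {Z X : Scheme.{u}} (i : Z ⟶ X) [IsImmersion i] (W : Z.Opens) (w : (W : Scheme.{u}))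
    (n : ℕ) : AtN n (W.ι ≫ i) w ↔ AtN n i (W.ι w) :=
  atN_openImmersion_iff i W.ι w n

/-- An immersion into a smooth scheme of a Koszul morphism is Koszul regular. -/
theorem exists_atN_of_koszulAt {X Y Z : Scheme.{u}} (f : X ⟶ Y) (p : Z ⟶ Y) [Smooth p] (i : X ⟶ Z)
    [IsImmersion i] (h : i ≫ p = f) (x : X) (hf : Synt.IsKoszulAt f x) : ∃ n, AtN n i x := by
  obtain ⟨U, P, i₀, π, hxU, -, ⟨hi₀, hreg⟩, hπ, hfac⟩ := hf
  haveI := hi₀
  haveI := hπ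
  have hc : (U.ι ≫ i) ≫ p = i₀ ≫ π := by rw [Category.assoc, h, hfac]
  let k := pullback.lift (U.ι ≫ i) i₀ hc
  haveI : IsImmersion (k ≫ pullback.fst p π) := by rw [pullback.lift_fst]; infer_instance
  haveI : IsImmersion k := IsImmersion.of_comp k (pullback.fst p π)
  have hk := exists_atN_of_below i₀ k (pullback.snd p π) (pullback.lift_snd _ _ _) ⟨x, hxU⟩
    ((isRegularImmersionAt_iff _ _).1 (hreg _))
  obtain ⟨n, hn⟩ := exists_atN_of_above (U.ι ≫ i) k (pullback.fst p π) (pullback.lift_fst _ _ _) ⟨x, hxU⟩ hk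
  exact ⟨n, (atN_open_iff i U ⟨x, hxU⟩ n).1 hn⟩

/-- A local immersion into a smooth scheme of a Koszul morphism is Koszul regular. -/
theorem exists_atN_of_koszulAt' {W X Y Z : Scheme.{u}} (f : X ⟶ Y) (o : W ⟶ X) [IsOpenImmersion o]
    (p : Z ⟶ Y) [Smooth p] (i : W ⟶ Z) [IsImmersion i] (h : i ≫ p = o ≫ f) (w : W)
    (hf : Synt.IsKoszulAt f (o w)) : ∃ n, AtN n i w := by
  obtain ⟨U, P, i₀, π, hxU, -, ⟨hi₀, hreg⟩, hπ, hfac⟩ := hf
  haveI := hi₀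
  haveI := hπ
  let a : ((o ⁻¹ᵁ U : W.Opens) : Scheme.{u}) ⟶ W := (o ⁻¹ᵁ U).ι
  let b : ((o ⁻¹ᵁ U : W.Opens) : Scheme.{u}) ⟶ U := o ∣_ U
  have hb : b ≫ U.ι = a ≫ o := morphismRestrict_ι o U
  have hc : (a ≫ i) ≫ p = (b ≫ i₀) ≫ π := by
    rw [Category.assoc, h, Category.assoc, hfac, ← Category.assoc b, hb, Category.assoc]
  let k := pullback.lift (a ≫ i) (b ≫ i₀) hc
  haveI : IsImmersion (k ≫ pullback.fst p π) := by rw [pullback.lift_fst]; infer_instance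
  haveI : IsImmersion k := IsImmersion.of_comp k (pullback.fst p π)
  let w' : ((o ⁻¹ᵁ U : W.Opens) : Scheme.{u}) := ⟨w, hxU⟩
  obtain ⟨m, hm⟩ := (isRegularImmersionAt_iff _ _).1 (hreg (b w'))
  have hk := exists_atN_of_below (b ≫ i₀) k (pullback.snd p π) (pullback.lift_snd _ _ _) w'
    ⟨m, (atN_openImmersion_iff i₀ b w' m).2 hm⟩
  obtain ⟨n, hn⟩ := exists_atN_of_above (a ≫ i) k (pullback.fst p π) (pullback.lift_fst _ _ _) w' hk
  exact ⟨n, (atN_open_iff i (o ⁻¹ᵁ U) w' n).1 hn⟩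

end Groth.Agent.Lib.Synt92.KRMor
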