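import Groth.Agent.Lib.Synt92.KRMorDescent
import Groth.Agent.S8661
import Groth.Agent.S8660
import Groth.Agent.S9729
import Groth.Agent.S0114
import Groth.Agent.Lib.Synt92.KoszulLfp
import Groth.Prelude.Def_AlgSpMor6

/-! Formal properties of Koszul morphisms of schemes. -/

set_option autoImplicit false

universe u

open CategoryTheory CategoryTheory.Limits AlgebraicGeometry

namespace Groth.Agent.Lib.Synt92.LciScheme

open KRImm KRLoc Wiebe.Link

theorem atN_zero_id {X : Scheme.{u}} (x : X) : AtN 0 (𝟙 X) x := by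
  obtain ⟨V, hV, hxV, -⟩ := exists_isAffineOpen_mem_and_subset (X := X) (x := x) (U := ⊤) trivial
  refine ⟨⟨V, hV⟩, hxV, IsZariskiLocalAtTarget.restrict (P := @IsClosedImmersion) inferInstance V, [], rfl, ?_, ?_⟩
  · have h : Acyc (fun i : Fin 0 => i.elim0 (α := Γ(X, V))) := fun z _ hz =>
      ⟨0, funext fun b => by rw [Subsingleton.elim b (fun _ => false), map_zero]; exact hz.symm⟩
    simpa using CubeBase.isKoszulRegularSeq_of_acyc _ h
  · rw [Scheme.Hom.id_app]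
    simp [Ideal.ofList]
    rfl

theorem isRegularImmersion_id (X : Scheme.{u}) : RegImm.IsRegularImmersion .koszul (𝟙 X) :=
  (isRegularImmersion_iff _).2 ⟨inferInstance, fun x => ⟨0, atN_zero_id x⟩⟩

theorem lci_of_smooth {X Y : Scheme.{u}} (f : X ⟶ Y) [Smooth f] : AlgSp.lci f := fun x =>
  ⟨⊤, (⊤ : X.Opens).toScheme, 𝟙 _, (⊤ : X.Opens).ι ≫ f, trivial, inferInstance,
    isRegularImmersion_id _, inferInstance, Category.id_comp _⟩

theorem lci_comp {X Y Z : Scheme.{u}} (f : X ⟶ Y) (g : Y ⟶ Z) (hf : AlgSp.lci f) (hg : AlgSp.lci g) :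
    AlgSp.lci (f ≫ g) := Groth.Agent.S8661.result f g hf hg

theorem lci_cancel {X Y Z : Scheme.{u}} (f : X ⟶ Y) (g : Y ⟶ Z) [Smooth g] (h : AlgSp.lci (f ≫ g)) :
    AlgSp.lci f := Groth.Agent.S9729.result f g h

theorem lci_baseChange {X Y X' Y' : Scheme.{u}} (f : X ⟶ Y) (g : Y' ⟶ Y) [Flat g] (f' : X' ⟶ Y')
    (g' : X' ⟶ X) (hsq : IsPullback g' f' f g) (h : AlgSp.lci f) : AlgSp.lci f' := by
  intro x'
  obtain ⟨U, P, i, π, hxU, hft, ⟨hi, hreg⟩, hπ, hfac⟩ := h (g' x')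
  haveI := hi
  haveI := hπ
  haveI := hft
  have hc : ((g' ∣_ U) ≫ i) ≫ π = ((g' ⁻¹ᵁ U).ι ≫ f') ≫ g := by
    rw [Category.assoc, hfac, ← Category.assoc, morphismRestrict_ι, Category.assoc, hsq.w, Category.assoc]
  let i' := pullback.lift ((g' ∣_ U) ≫ i) ((g' ⁻¹ᵁ U).ι ≫ f') hc
  have houter0 : IsPullback (g' ∣_ U) ((g' ⁻¹ᵁ U).ι ≫ f') (U.ι ≫ f) g :=
    (isPullback_morphismRestrict g' U).paste_vert hsq
  have htop : IsPullback (g' ∣_ U) i' i (pullback.fst π g) :=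
    IsPullback.of_bot (h₂₁ := pullback.fst π g) (v₂₁ := pullback.snd π g)
      (by rw [pullback.lift_snd, hfac]; exact houter0) (pullback.lift_fst _ _ _).symm (IsPullback.of_hasPullback π g)
  refine ⟨g' ⁻¹ᵁ U, pullback π g, i', pullback.snd π g, hxU,
    MorphismProperty.of_isPullback (P := @LocallyOfFiniteType) houter0 hft,
    KRBase.isRegularImmersion_baseChange i (pullback.fst π g) i' (g' ∣_ U) htop ⟨hi, hreg⟩,
    inferInstance, pullback.lift_snd _ _ _⟩

theorem lci_descends_etale {X X' Y : Scheme.{u}} (e : X' ⟶ X) (f : X ⟶ Y) [Etale e] [Surjective e]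
    (h : AlgSp.lci (e ≫ f)) : AlgSp.lci f := by
  haveI : LocallyOfFinitePresentation (e ≫ f) := KoszulLfp.locallyOfFinitePresentation _ h
  haveI : LocallyOfFinitePresentation f := Groth.Agent.S0114.result e f
  exact KRCover.isKoszulAt_of_comp e ((Groth.Agent.S8660.result e).1 (lci_of_smooth e)) f h

theorem isKoszulAt_of_openImmersion {W X Y : Scheme.{u}} (k : W ⟶ X) [IsOpenImmersion k] (f : X ⟶ Y)
    (w : W) (h : Synt.IsKoszulAt (k ≫ f) w) : Synt.IsKoszulAt f (k w) := by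
  obtain ⟨U, P, i, π, hwU, hft, ⟨hi, hreg⟩, hπ, hfac⟩ := h
  haveI := hi
  haveI := hπ
  haveI := hft
  have e : (k.isoImage U).inv ≫ U.ι ≫ k ≫ f = (k ''ᵁ U).ι ≫ f := by
    rw [← Category.assoc, ← Category.assoc, Category.assoc _ U.ι k]
    exact congrArg (· ≫ f) (k.isoImage_inv_ι U)
  refine ⟨k ''ᵁ U, P, (k.isoImage U).inv ≫ i, π, ⟨w, hwU, rfl⟩, ?_, ?_, hπ, ?_⟩
  · rw [← e]
    infer_instance
  · refine (isRegularImmersion_iff _).2 ⟨inferInstance, fun z => ?_⟩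
    obtain ⟨n, hn⟩ := (isRegularImmersionAt_iff _ _).1 (hreg ((k.isoImage U).inv z))
    exact ⟨n, (KRMor.atN_openImmersion_iff i (k.isoImage U).inv z n).2 hn⟩
  · rw [Category.assoc, hfac, e]

/-- Koszul morphisms are local on the target. -/
theorem lci_of_cover {X Y : Scheme.{u}} (f : X ⟶ Y) {κ : Type*} (O : κ → Scheme.{u}) (o : ∀ j, O j ⟶ Y)
    (ho : ∀ j, IsOpenImmersion (o j)) (hsurj : ∀ y : Y, ∃ j z, o j z = y)
    (h : ∀ j, ∃ (W : Scheme.{u}) (fst : W ⟶ X) (snd : W ⟶ O j),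
      IsPullback fst snd f (o j) ∧ AlgSp.lci snd) : AlgSp.lci f := by
  intro x
  obtain ⟨j, z, hz⟩ := hsurj (f x)
  obtain ⟨W, fst, snd, sq, hs⟩ := h j
  haveI := ho j
  haveI : IsOpenImmersion fst := MorphismProperty.of_isPullback (P := @IsOpenImmersion) sq.flip (ho j)
  obtain ⟨w, hw, -⟩ := Scheme.Pullback.exists_preimage_pullback x z hz.symm
  have hk : fst (sq.isoPullback.inv w) = x := by
    rw [← Scheme.Hom.comp_apply, IsPullback.isoPullback_inv_fst, hw]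
  rw [← hk]
  refine isKoszulAt_of_openImmersion fst f _ ?_
  rw [sq.w]
  exact lci_comp snd (o j) hs (lci_of_smooth (o j)) _

end Groth.Agent.Lib.Synt92.LciScheme
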