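import Groth.Agent.Lib.Synt92.KRGens
import Mathlib.RingTheory.Ideal.Cotangent
import Mathlib.LinearAlgebra.Dimension.StrongRankCondition

/-! Length of Koszul-regular generating sequences. -/

set_option autoImplicit false

universe u

namespace Groth.Agent.Lib.Synt92.KRRank

open Groth.Agent.Lib.TorObstruction.Cube Groth.Agent.Lib.Wiebe.Exterior Groth.Agent.Lib.Wiebe.Link

variable {R : Type u} [CommRing R] {I : Ideal R}

theorem exists_basis {r : ℕ} (f : Fin r → I) (hf : Acyc fun i => (f i : R))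
    (hfI : Ideal.span (Set.range fun i => (f i : R)) = I) :
    ∃ b : Module.Basis (Fin r) (R ⧸ I) I.Cotangent, ∀ i, b i = I.toCotangent (f i) := by
  classical
  have hsq : ∀ y ∈ I * Ideal.span (Set.range fun i => (f i : R)),
      ∃ c : Fin r → R, (∀ i, c i ∈ I) ∧ ∑ i, c i * f i = y := by
    intro y hy
    refine Submodule.mul_induction_on hy (fun p hp x hx => ?_) ?_
    · obtain ⟨c, rfl⟩ := Ideal.mem_span_range_iff_exists_fun.1 hx
      exact ⟨fun i => p * c i, fun i => Ideal.mul_mem_right _ _ hp, by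
        rw [Finset.mul_sum]; exact Finset.sum_congr rfl fun i _ => mul_assoc _ _ _⟩
    · rintro _ _ ⟨c, hc, rfl⟩ ⟨c', hc', rfl⟩
      exact ⟨c + c', fun i => add_mem (hc i) (hc' i), by simp [add_mul, Finset.sum_add_distrib]⟩
  have hsmul : ∀ (c : R) (i : Fin r),
      (Ideal.Quotient.mk I c) • I.toCotangent (f i) = I.toCotangent (c • f i) := fun c i => by
    rw [map_smul]
    rfl
  have hli : LinearIndependent (R ⧸ I) fun i => I.toCotangent (f i) := by
    rw [Fintype.linearIndependent_iff]
    intro l hl i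
    choose c hc using fun i => Ideal.Quotient.mk_surjective (l i)
    rw [← hc i, Ideal.Quotient.eq_zero_iff_mem]
    have h0 : I.toCotangent (∑ j, c j • f j) = 0 := by
      rw [map_sum, ← hl]
      exact Finset.sum_congr rfl fun j _ => by rw [← hc j, hsmul]
    rw [Ideal.toCotangent_eq_zero, pow_two] at h0
    simp only [AddSubmonoidClass.coe_finsetSum, SetLike.val_smul, smul_eq_mul] at h0
    conv at h0 => arg 1; arg 2; rw [← hfI]
    obtain ⟨ν, hν, hνs⟩ := hsq _ h0
    have h3 := CubeBase.mem_span_of_relation hf (c := fun j => c j - ν j)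
      (by simp [sub_mul, Finset.sum_sub_distrib, hνs]) i
    rw [hfI] at h3
    simpa using add_mem h3 (hν i)
  refine ⟨Module.Basis.mk hli ?_, fun i => Module.Basis.mk_apply _ _ i⟩
  rintro x -
  obtain ⟨⟨y, hy⟩, rfl⟩ := I.toCotangent_surjective x
  obtain ⟨c, hc⟩ := Ideal.mem_span_range_iff_exists_fun.1 (hfI.ge hy)
  have : (⟨y, hy⟩ : I) = ∑ j, c j • f j := Subtype.ext (by simp [hc])
  rw [this, map_sum]
  refine Submodule.sum_mem _ fun j _ => ?_
  rw [← hsmul]
  exact Submodule.smul_mem _ _ (Submodule.subset_span ⟨j, rfl⟩)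

theorem le_length {r : ℕ} (f : Fin r → R) (hI : I ≠ ⊤) (hf : Acyc f)
    (hfI : Ideal.span (Set.range f) = I) (h : List R) (hh : Ideal.ofList h = I) : r ≤ h.length := by
  classical
  haveI : Nontrivial (R ⧸ I) := Ideal.Quotient.nontrivial_iff.2 hI
  obtain ⟨b, -⟩ := exists_basis (fun i => (⟨f i, hfI ▸ Ideal.subset_span ⟨i, rfl⟩⟩ : I)) hf hfI
  let w : Fin h.length → I.Cotangent := fun i =>
    I.toCotangent ⟨h.get i, hh ▸ Ideal.subset_span (List.get_mem h i)⟩
  have hw : Submodule.span (R ⧸ I) (Set.range w) = ⊤ := by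
    refine eq_top_iff.2 fun x _ => ?_
    obtain ⟨⟨y, hy⟩, rfl⟩ := I.toCotangent_surjective x
    have hy' : y ∈ Ideal.span (Set.range h.get) := by
      rw [KRLoc.span_range_eq_ofList, List.ofFn_get, hh]; exact hy
    obtain ⟨c, hc⟩ := Ideal.mem_span_range_iff_exists_fun.1 hy'
    have : (⟨y, hy⟩ : I) = ∑ j, c j • (⟨h.get j, hh ▸ Ideal.subset_span (List.get_mem h j)⟩ : I) :=
      Subtype.ext (by simpa using hc.symm)
    rw [this, map_sum]
    refine Submodule.sum_mem _ fun j _ => ?_
    rw [map_smul]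
    exact Submodule.smul_mem (Submodule.span (R ⧸ I) (Set.range w)) (Ideal.Quotient.mk I (c j))
      (Submodule.subset_span (Set.mem_range_self j))
  have h1 := Module.finrank_eq_card_basis b
  have h2 := finrank_range_le_card (R := R ⧸ I) w
  rw [Set.finrank, hw, finrank_top, h1, Fintype.card_fin, Fintype.card_fin] at h2
  exact h2

/-- Generators of minimal length of an ideal generated by an acyclic sequence are acyclic. -/
theorem acyc_of_card_eq {r : ℕ} (g f : Fin r → R) (hg : Acyc g)
    (h : Ideal.span (Set.range f) = Ideal.span (Set.range g)) : Acyc f := by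
  classical
  set J := Ideal.span (Set.range g) with hJ
  choose c hc using fun i => Ideal.mem_span_range_iff_exists_fun.1 (h.le (Ideal.subset_span ⟨i, rfl⟩) : f i ∈ J)
  choose d hd using fun i => Ideal.mem_span_range_iff_exists_fun.1 (h.ge (Ideal.subset_span ⟨i, rfl⟩))
  let C : Matrix (Fin r) (Fin r) R := c
  let D : Matrix (Fin r) (Fin r) R := d
  have hDC : D.map (Ideal.Quotient.mk J) * C.map (Ideal.Quotient.mk J) = 1 := by
    rw [← Matrix.map_mul]
    ext i k
    rw [Matrix.map_apply, Matrix.one_apply]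
    have hrel : ∑ l, ((D * C) i l - if i = l then 1 else 0) * g l = 0 := by
      simp only [sub_mul, Finset.sum_sub_distrib, ite_mul, one_mul, zero_mul, Finset.sum_ite_eq,
        Finset.mem_univ, if_true, Matrix.mul_apply, Finset.sum_mul, mul_assoc]
      rw [Finset.sum_comm]
      simp only [← Finset.mul_sum, C, D, hc, hd, sub_self]
    have := CubeBase.mem_span_of_relation hg (c := fun l => (D * C) i l - if i = l then 1 else 0) hrel k
    rw [← hJ, ← Ideal.Quotient.eq_zero_iff_mem, map_sub, sub_eq_zero] at this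
    rw [this]
    split <;> simp
  have hu : IsUnit (Ideal.Quotient.mk J C.det) := by
    rw [RingHom.map_det]
    exact Matrix.isUnit_det_of_left_inverse hDC
  obtain ⟨e, he⟩ := Ideal.Quotient.mk_surjective hu.unit⁻¹.1
  have hδ : 1 - e * C.det ∈ J := by
    rw [← Ideal.Quotient.eq, map_one, map_mul, he, IsUnit.val_inv_mul]
  intro z hz hzO
  let 𝔞 : Ideal R := (LinearMap.range (opI f)).comap (LinearMap.toSpanSingleton R _ z)
  suffices h1 : (1 : R) ∈ 𝔞 by
    obtain ⟨w, hw⟩ := h1
    exact ⟨w, hw.trans (one_smul R z)⟩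
  have hJ' : J ≤ 𝔞 := fun a ha => by
    obtain ⟨k, rfl⟩ := Ideal.mem_span_range_iff_exists_fun.1 (h.ge ha)
    refine ⟨opE k z, ?_⟩
    have := opI_opE f k z
    rw [hz, map_zero, add_zero] at this
    exact this
  let S := Localization.Away C.det
  let σ := algebraMap R S
  have hS : Acyc (σ ∘ f) := (KRGens.acyc_and_span_of_mulVec (σ.mapMatrix C)
    (by rw [← RingHom.map_det]; exact IsLocalization.Away.algebraMap_isUnit _) (σ ∘ g) _
    (funext fun i => by
      change σ (f i) = ∑ j, σ (C i j) * σ (g j)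
      simp only [← map_mul, ← map_sum, C, hc])
    (haveI : Module.Flat R S := IsLocalization.flat _ (Submonoid.powers C.det)
     Wiebe.Bridge.acyc_flat g hg)).1
  obtain ⟨w, hw⟩ := hS (σ ∘ z)
    (by rw [Wiebe.Bridge.opI_map, hz]; funext b; simp)
    (by rw [Function.comp_apply, hzO, map_zero])
  obtain ⟨⟨_, k, rfl⟩, hk⟩ := IsLocalization.exist_integer_multiples_of_finite (Submonoid.powers C.det) w
  choose w₀ hw₀ using hk
  have hw₀' : σ ∘ w₀ = σ (C.det ^ k) • w := funext fun b => (hw₀ b).trans (Algebra.smul_def _ _)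
  have key : ∀ b, σ (opI f w₀ b) = σ (C.det ^ k * z b) := fun b => by
    have h1 := congrFun (Wiebe.Bridge.opI_map σ f w₀) b
    rw [hw₀', map_smul, hw] at h1
    rw [map_mul]
    exact h1.symm
  choose t ht using fun b => IsLocalization.exists_of_eq (M := Submonoid.powers C.det) (key b)
  choose m hm using fun b => (t b).2
  let N := ∑ b, m b
  have hN : C.det ^ (N + k) ∈ 𝔞 := by
    refine ⟨C.det ^ N • w₀, funext fun b => ?_⟩
    change opI f (C.det ^ N • w₀) b = C.det ^ (N + k) * z b
    have hb := ht b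
    rw [← hm b] at hb
    rw [map_smul, Pi.smul_apply, smul_eq_mul, pow_add, show N = ∑ b, m b from rfl,
      ← Nat.sub_add_cancel (Finset.single_le_sum (fun b _ => Nat.zero_le (m b)) (Finset.mem_univ b)), pow_add]
    linear_combination C.det ^ ((∑ b, m b) - m b) * hb
  have htop : Ideal.span {C.det} ⊔ J = ⊤ := by
    rw [Ideal.eq_top_iff_one, show (1 : R) = e * C.det + (1 - e * C.det) by ring]
    exact Submodule.add_mem_sup (Ideal.mul_mem_left _ _ (Ideal.mem_span_singleton_self _)) hδ
  have : Ideal.span {C.det} ^ (N + k) ⊔ J = ⊤ := Ideal.pow_sup_eq_top htop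
  rw [Ideal.span_singleton_pow] at this
  exact (sup_le ((Ideal.span_singleton_le_iff_mem _).2 hN) hJ') (this ▸ Submodule.mem_top)

end Groth.Agent.Lib.Synt92.KRRank
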