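import Groth.Agent.Lib.Synt92.KRIdeal
import Groth.Agent.Lib.Synt92.KRRank
import Mathlib.RingTheory.Flat.EquationalCriterion
import Mathlib.RingTheory.Flat.FaithfullyFlat.Algebra
import Mathlib.RingTheory.RingHom.Flat
import Mathlib.RingTheory.Spectrum.Prime.Topology
import Mathlib.LinearAlgebra.Matrix.Rank

/-! Descent of Koszul-regular ideals along faithfully flat maps. -/

set_option autoImplicit false

universe u

namespace Groth.Agent.Lib.Synt92.KRDescent

open Groth.Agent.Lib.TorObstruction.Cube Groth.Agent.Lib.Wiebe.Link KRLoc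

variable {A : Type u} [CommRing A] {n : ℕ}

theorem acyc_of_span_eq_top (f : Fin n → A) (h : Ideal.span (Set.range f) = ⊤) : Acyc f := by
  intro z hz _
  obtain ⟨c, hc⟩ := Ideal.mem_span_range_iff_exists_fun.1 (h.ge (Submodule.mem_top : (1 : A) ∈ ⊤))
  refine ⟨opE c z, ?_⟩
  have := opI_opE f c z
  rw [hz, map_zero, add_zero, hc, one_smul] at this
  exact this

/-- Acyclicity is local. -/
theorem acyc_of_local (f : Fin n → A)
    (h : ∀ (P : Ideal A) [P.IsPrime], Acyc (algebraMap A (Localization.AtPrime P) ∘ f)) : Acyc f := by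
  intro z hz hzO
  classical
  let J : Ideal A := (LinearMap.range (opI f)).comap (LinearMap.toSpanSingleton A _ z)
  by_cases hJ : J = ⊤
  · have := (Ideal.eq_top_iff_one J).1 hJ
    rw [Submodule.mem_comap, LinearMap.toSpanSingleton_apply, one_smul] at this
    exact this
  exfalso
  obtain ⟨P, hP, hJP⟩ := Ideal.exists_le_maximal J hJ
  haveI := hP.isPrime
  let L := Localization.AtPrime P
  obtain ⟨w, hw⟩ := h P (algebraMap A L ∘ z)
    (by
      rw [Wiebe.Bridge.opI_map, hz]
      funext b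
      simp)
    (by rw [Function.comp_apply, hzO, map_zero])
  obtain ⟨⟨s, hs⟩, hint⟩ := IsLocalization.exist_integer_multiples_of_finite P.primeCompl w
  choose w₀ hw₀ using hint
  have hw₁ : algebraMap A L ∘ w₀ = algebraMap A L s • w := funext fun b => by
    change algebraMap A L (w₀ b) = algebraMap A L s * w b
    rw [hw₀, Algebra.smul_def]
  have key : ∀ b, ∃ t ∈ P.primeCompl, t * opI f w₀ b = t * (s * z b) := by
    intro b
    have h2 : algebraMap A L (opI f w₀ b) = algebraMap A L (s * z b) := by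
      have h1 := congrFun (Wiebe.Bridge.opI_map (algebraMap A L) f w₀) b
      rw [hw₁, map_smul, hw] at h1
      rw [map_mul]
      exact h1.symm
    obtain ⟨⟨t, ht⟩, hte⟩ := IsLocalization.exists_of_eq (M := P.primeCompl) h2
    exact ⟨t, ht, hte⟩
  choose t ht hte using key
  refine prod_mem (S := P.primeCompl) (fun b _ => ht b) |> fun hT =>
    P.primeCompl.mul_mem hT hs (hJP (x := (∏ b, t b) * s) ?_)
  rw [Submodule.mem_comap, LinearMap.toSpanSingleton_apply]
  refine ⟨(∏ b, t b) • w₀, funext fun b => ?_⟩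
  rw [map_smul]
  change (∏ b, t b) * opI f w₀ b = (∏ b, t b) * s * z b
  rw [mul_assoc, ← Finset.prod_erase_mul Finset.univ t (Finset.mem_univ b), mul_assoc, mul_assoc,
    hte b]

theorem map_span_eq_map {I : Ideal A} {r : ℕ} (g : Fin r → A) (hg : ∀ i, g i ∈ I) {f : A}
    (hf : ∀ x ∈ I, f * x ∈ Ideal.span (Set.range g)) {L : Type u} [CommRing L] (φ : A →+* L)
    (hu : IsUnit (φ f)) : I.map φ = Ideal.span (Set.range (φ ∘ g)) := by
  rw [Set.range_comp, ← Ideal.map_span]
  refine le_antisymm (Ideal.map_le_iff_le_comap.2 fun x hx => ?_)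
    (Ideal.map_mono (Ideal.span_le.2 (by rintro _ ⟨i, rfl⟩; exact hg i)))
  rw [Ideal.mem_comap]
  obtain ⟨v, hv⟩ := hu
  have h1 := Ideal.mem_map_of_mem φ (hf x hx)
  rw [map_mul, ← hv] at h1
  simpa using Ideal.mul_mem_left _ ↑v⁻¹ h1

/-- Minimal local generators of a finitely generated ideal. -/
theorem exists_min_gens (I : Ideal A) (hI : I.FG) (P : Ideal A) [P.IsPrime] :
    ∃ (r : ℕ) (g : Fin r → A) (f : A), f ∉ P ∧ (∀ i, g i ∈ I) ∧
      (∀ x ∈ I, f * x ∈ Ideal.span (Set.range g)) ∧
      ∀ a : Fin r → A, ∑ i, a i * g i = 0 → ∀ i, a i ∈ P := by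
  classical
  let p : ℕ → Prop := fun r => ∃ (g : Fin r → A) (f : A), f ∉ P ∧ (∀ i, g i ∈ I) ∧
    (∀ x ∈ I, f * x ∈ Ideal.span (Set.range g))
  have hp : ∃ r, p r := by
    obtain ⟨r, g, hg⟩ := Submodule.fg_iff_exists_fin_generating_family.1 hI
    change Ideal.span (Set.range g) = I at hg
    refine ⟨r, g, 1, fun h => Ideal.IsPrime.ne_top ‹_› ((Ideal.eq_top_iff_one P).2 h),
      fun i => hg ▸ Ideal.subset_span ⟨i, rfl⟩, fun x hx => ?_⟩
    rw [one_mul, hg]
    exact hx
  obtain ⟨g, f, hf, hg, hgen⟩ := Nat.find_spec hp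
  refine ⟨_, g, f, hf, hg, hgen, fun a ha i => ?_⟩
  by_contra hai
  revert g a i hg hgen
  generalize hr : Nat.find hp = r
  intro g hg hgen a ha i hai
  match r, g, hg, hgen, a, ha, i, hai, hr with
  | 0, _, _, _, _, _, i, _, _ => exact i.elim0
  | k + 1, g, hg, hgen, a, ha, i, hai, hr =>
    refine Nat.find_min hp (m := k) (by omega) ⟨g ∘ i.succAbove, a i * f,
      fun h => (Ideal.IsPrime.mem_or_mem ‹_› h).elim hai hf, fun j => hg _, fun x hx => ?_⟩
    have hi : a i * g i ∈ Ideal.span (Set.range (g ∘ i.succAbove)) := by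
      rw [Fin.sum_univ_succAbove _ i] at ha
      rw [eq_neg_of_add_eq_zero_left ha]
      exact neg_mem (Ideal.sum_mem _ fun j _ => Ideal.mul_mem_left _ _ (Ideal.subset_span ⟨j, rfl⟩))
    obtain ⟨c, hc⟩ := Ideal.mem_span_range_iff_exists_fun.1 (hgen x hx)
    rw [mul_assoc, ← hc, Fin.sum_univ_succAbove _ i, mul_add, mul_left_comm]
    refine add_mem (Ideal.mul_mem_left _ _ hi)
      (Ideal.mul_mem_left _ _ (Ideal.sum_mem _ fun j _ => Ideal.mul_mem_left _ _ (Ideal.subset_span ⟨j, rfl⟩)))

theorem le_card {r s : ℕ} {L : Type u} [CommRing L] [IsLocalRing L] (g : Fin r → L) (h : Fin s → L)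
    (e : Ideal.span (Set.range g) = Ideal.span (Set.range h))
    (hmin : ∀ c : Fin r → L, ∑ i, c i * g i = 0 → ∀ i, c i ∈ IsLocalRing.maximalIdeal L) : r ≤ s := by
  classical
  choose C hC using fun i => Ideal.mem_span_range_iff_exists_fun.1 (e.le (Ideal.subset_span ⟨i, rfl⟩) : g i ∈ _)
  choose D hD using fun i => Ideal.mem_span_range_iff_exists_fun.1 (e.ge (Ideal.subset_span ⟨i, rfl⟩) : h i ∈ _)
  let π := IsLocalRing.residue L
  have key : (Matrix.of C).map π * (Matrix.of D).map π = (1 : Matrix (Fin r) (Fin r) _) := by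
    rw [← Matrix.map_mul]
    ext i k
    rw [Matrix.map_apply, Matrix.one_apply]
    have hrel : ∑ l, ((Matrix.of C * Matrix.of D) i l - if i = l then 1 else 0) * g l = 0 := by
      simp only [sub_mul, Finset.sum_sub_distrib, ite_mul, one_mul, zero_mul, Finset.sum_ite_eq,
        Finset.mem_univ, if_true, Matrix.mul_apply, Matrix.of_apply, Finset.sum_mul, mul_assoc]
      rw [Finset.sum_comm]
      simp only [← Finset.mul_sum, hC, hD, sub_self]
    have h1 := hmin _ hrel k
    rw [← IsLocalRing.residue_eq_zero_iff, map_sub, sub_eq_zero] at h1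
    rw [h1]
    split <;> simp
  have h1 := Matrix.rank_mul_le_left ((Matrix.of C).map π) ((Matrix.of D).map π)
  rw [key, Matrix.rank_one, Fintype.card_fin] at h1
  exact h1.trans (by simpa using Matrix.rank_le_card_width ((Matrix.of C).map π))

theorem acyc_localization_iff {B : Type u} [CommRing B] [Algebra A B] [Module.Flat A B] (g : Fin n → A)
    (Q : Ideal B) [Q.IsPrime] :
    Acyc (algebraMap B (Localization.AtPrime Q) ∘ algebraMap A B ∘ g) ↔
      Acyc (algebraMap A (Localization.AtPrime (Q.comap (algebraMap A B))) ∘ g) := by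
  let φ := Localization.localRingHom (Q.comap (algebraMap A B)) Q (algebraMap A B) rfl
  have hflat : φ.Flat := RingHom.Flat.localRingHom (RingHom.flat_algebraMap_iff.2 ‹_›) Q _ rfl
  have e : algebraMap B (Localization.AtPrime Q) ∘ algebraMap A B ∘ g =
      φ ∘ (algebraMap A (Localization.AtPrime (Q.comap (algebraMap A B))) ∘ g) :=
    funext fun i => (Localization.localRingHom_to_map _ _ _ rfl (g i)).symm
  rw [e]
  refine ⟨fun h => ?_, CubeBase.acyc_flat_ringHom φ hflat _⟩
  letI := φ.toAlgebra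
  haveI : Module.Flat _ (Localization.AtPrime Q) := hflat
  haveI : IsLocalHom (algebraMap (Localization.AtPrime (Q.comap (algebraMap A B))) (Localization.AtPrime Q)) :=
    Localization.isLocalHom_localRingHom _ _ _ rfl
  haveI := Module.FaithfullyFlat.of_flat_of_isLocalHom
    (A := Localization.AtPrime (Q.comap (algebraMap A B))) (B := Localization.AtPrime Q)
  exact CubeBase.acyc_of_faithfullyFlat _ h

theorem fg_of_genLoc {I : Ideal A} (h : ∀ P : PrimeSpectrum A, I ≤ P.asIdeal → ∃ m, GenLoc m I P.asIdeal) :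
    I.FG := by
  classical
  have hP : ∀ P : PrimeSpectrum A, ∃ g, g ∉ P.asIdeal ∧ (I.map (algebraMap A (Localization.Away g))).FG := by
    intro P
    by_cases hI : I ≤ P.asIdeal
    · obtain ⟨m, g, hg, f, -, hf⟩ := h P hI
      exact ⟨g, hg, hf ▸ ⟨Finset.univ.image f, by simp⟩⟩
    · obtain ⟨g, hgI, hg⟩ := SetLike.not_le_iff_exists.1 hI
      refine ⟨g, hg, ?_⟩
      rw [Ideal.eq_top_of_isUnit_mem (I.map (algebraMap A (Localization.Away g))) (Ideal.mem_map_of_mem _ hgI)
        (IsLocalization.Away.algebraMap_isUnit g)]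
      exact (⟨{1}, by simp⟩ : (⊤ : Ideal (Localization.Away g)).FG)
  choose g hg hfg using hP
  have hspan : Ideal.span (Set.range g) = ⊤ := by
    by_contra hne
    obtain ⟨M, hM, hle⟩ := Ideal.exists_le_maximal _ hne
    exact hg ⟨M, hM.isPrime⟩ (hle (Ideal.subset_span ⟨_, rfl⟩))
  obtain ⟨t, ht, htop⟩ := (Ideal.span_eq_top_iff_finite _).1 hspan
  refine Ideal.fg_of_localizationSpan (t : Set A) htop fun x => ?_
  obtain ⟨P, hP⟩ := ht x.2
  rw [← hP]
  exact hfg P

variable {B : Type u} [CommRing B] [Algebra A B] [Module.FaithfullyFlat A B] {I : Ideal A}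

theorem fg_of_map (h : (I.map (algebraMap A B)).FG) : I.FG := by
  classical
  obtain ⟨t, ht, e⟩ : ∃ t : Finset A, ↑t ⊆ (I : Set A) ∧
      Ideal.span (algebraMap A B '' ↑t) = I.map (algebraMap A B) := by
    obtain ⟨t, ht, e⟩ := Submodule.fg_span_iff_fg_span_finset_subset _ |>.1
      (show (Submodule.span B (algebraMap A B '' (I : Set A))).FG from h)
    obtain ⟨t', ht', rfl⟩ := Finset.subset_set_image_iff.1 ht
    refine ⟨t', ht', ?_⟩
    rw [← Finset.coe_image]
    exact e.symm
  refine ⟨t, le_antisymm (Ideal.span_le.2 ht) ?_⟩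
  rw [← Ideal.comap_map_eq_self_of_faithfullyFlat (B := B) I,
    ← Ideal.comap_map_eq_self_of_faithfullyFlat (B := B) (Ideal.span (t : Set A)), Ideal.map_span, e]

/-- Koszul-regular ideals descend along faithfully flat maps. -/
theorem exists_genLoc (h : ∀ Q : PrimeSpectrum B, I.map (algebraMap A B) ≤ Q.asIdeal →
      ∃ m, GenLoc m (I.map (algebraMap A B)) Q.asIdeal) (P : PrimeSpectrum A) (hIP : I ≤ P.asIdeal) :
    ∃ m, GenLoc m I P.asIdeal := by
  classical
  obtain ⟨r, g, f, hf, hg, hgen, hrel⟩ := exists_min_gens I (fg_of_map (fg_of_genLoc h)) P.asIdeal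
  let G : Fin r → B := algebraMap A B ∘ g
  let W : Set (PrimeSpectrum B) := {Q | algebraMap A B f ∉ Q.asIdeal ∧
    Acyc (algebraMap B (Localization.AtPrime Q.asIdeal) ∘ G)}
  let W₀ : Set (PrimeSpectrum A) := {p | f ∉ p.asIdeal ∧
    Acyc (algebraMap A (Localization.AtPrime p.asIdeal) ∘ g)}
  have hWW : W = PrimeSpectrum.comap (algebraMap A B) ⁻¹' W₀ := by
    ext Q
    exact and_congr Iff.rfl (acyc_localization_iff g Q.asIdeal)
  -- on a chart of length `r` the generators are acyclic
  have hchart : ∀ (Q : PrimeSpectrum B) (b : B), b ∉ Q.asIdeal → algebraMap A B f ∉ Q.asIdeal →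
      Gen r ((I.map (algebraMap A B)).map (algebraMap B (Localization.Away b))) → Q ∈ W := by
    intro Q b hb hfQ hgen'
    let L := Localization.AtPrime Q.asIdeal
    have hu : ∀ x : B, x ∉ Q.asIdeal → IsUnit (algebraMap B L x) := fun x hx =>
      IsLocalization.map_units L (⟨x, hx⟩ : Q.asIdeal.primeCompl)
    haveI : Module.Flat B L := IsLocalization.flat _ Q.asIdeal.primeCompl
    obtain ⟨h', hh', e⟩ := gen_of_isUnit b (Localization.Away b) hgen' L (hu b hb)
    rw [Ideal.map_map, map_span_eq_map g hg hgen ((algebraMap B L).comp (algebraMap A B)) (hu _ hfQ)] at e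
    exact ⟨hfQ, KRRank.acyc_of_card_eq h' _ hh' e⟩
  -- lengths at points of the support
  have hlen : ∀ (Q : PrimeSpectrum B) (s : ℕ), algebraMap A B f ∉ Q.asIdeal →
      I.map (algebraMap A B) ≤ Q.asIdeal → GenLoc s (I.map (algebraMap A B)) Q.asIdeal →
      s ≤ r ∧ (Q.asIdeal.comap (algebraMap A B) = P.asIdeal → r ≤ s) ∧
        (Acyc (algebraMap B (Localization.AtPrime Q.asIdeal) ∘ G) → r ≤ s) := by
    intro Q s hfQ hIQ ⟨b, hb, hgen'⟩
    let L := Localization.AtPrime Q.asIdeal
    have hu : ∀ x : B, x ∉ Q.asIdeal → IsUnit (algebraMap B L x) := fun x hx =>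
      IsLocalization.map_units L (⟨x, hx⟩ : Q.asIdeal.primeCompl)
    haveI : Module.Flat B L := IsLocalization.flat _ Q.asIdeal.primeCompl
    obtain ⟨h', hh', e⟩ := gen_of_isUnit b (Localization.Away b) hgen' L (hu b hb)
    have hne : (I.map (algebraMap A B)).map (algebraMap B L) ≠ ⊤ := fun ht =>
      (IsLocalRing.maximalIdeal.isMaximal L).ne_top (top_le_iff.1 (ht ▸ (Ideal.map_mono hIQ).trans
        (le_of_eq Localization.AtPrime.map_eq_maximalIdeal)))
    have eg : (I.map (algebraMap A B)).map (algebraMap B L) = Ideal.span (Set.range (algebraMap B L ∘ G)) := by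
      rw [Ideal.map_map, map_span_eq_map g hg hgen ((algebraMap B L).comp (algebraMap A B)) (hu _ hfQ)]
      rfl
    refine ⟨?_, fun hQP => ?_, fun hG => ?_⟩
    · simpa using KRRank.le_length h' hne hh' e.symm (List.ofFn (algebraMap B L ∘ G))
        (by rw [← span_range_eq_ofList, eg])
    · haveI : Module.Flat A L := Module.Flat.trans A B L
      refine le_card (algebraMap B L ∘ G) h' (eg.symm.trans e) fun c hc i => ?_
      obtain ⟨k, a, y, hy, ha⟩ := Module.Flat.isTrivialRelation_of_sum_smul_eq_zero (R := A) (M := L)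
        (f := g) (x := c) (by
          rw [← hc]
          refine Finset.sum_congr rfl fun i _ => ?_
          rw [Algebra.smul_def, mul_comm]
          rfl)
      rw [hy i]
      refine Submodule.sum_mem _ fun j _ => ?_
      rw [Algebra.smul_def, IsScalarTower.algebraMap_apply A B L]
      refine Ideal.mul_mem_right _ _ ?_
      have := hrel (fun i => a i j) (by rw [← ha j]; exact Finset.sum_congr rfl fun i _ => mul_comm _ _) i
      rw [← hQP] at this
      exact (IsLocalization.AtPrime.to_map_mem_maximal_iff L Q.asIdeal _).2 this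
    · simpa using KRRank.le_length (algebraMap B L ∘ G) hne hG eg.symm (List.ofFn h')
        (by rw [← span_range_eq_ofList, e])
  have hopen : IsOpen W := by
    refine isOpen_iff_forall_mem_open.2 fun Q ⟨hfQ, hQ⟩ => ?_
    by_cases hIQ : I.map (algebraMap A B) ≤ Q.asIdeal
    · obtain ⟨s, hs⟩ := h Q hIQ
      obtain ⟨h1, -, h3⟩ := hlen Q s hfQ hIQ hs
      obtain rfl := le_antisymm h1 (h3 hQ)
      obtain ⟨b, hb, hgen'⟩ := hs
      refine ⟨PrimeSpectrum.basicOpen (b * algebraMap A B f), fun Q' hQ' => ?_, (PrimeSpectrum.basicOpen _).2, ?_⟩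
      · exact hchart Q' b (fun h' => hQ' (Ideal.mul_mem_right _ _ h'))
          (fun h' => hQ' (Ideal.mul_mem_left _ _ h')) hgen'
      · exact fun h' => (Q.isPrime.mem_or_mem h').elim hb hfQ
    · obtain ⟨x, hxI, hx⟩ := SetLike.not_le_iff_exists.1 hIQ
      refine ⟨PrimeSpectrum.basicOpen (x * algebraMap A B f), fun Q' hQ' => ?_, (PrimeSpectrum.basicOpen _).2, ?_⟩
      · have hfQ' : algebraMap A B f ∉ Q'.asIdeal := fun h' => hQ' (Ideal.mul_mem_left _ _ h')
        refine ⟨hfQ', acyc_of_span_eq_top _ ?_⟩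
        let L := Localization.AtPrime Q'.asIdeal
        have hu : ∀ x : B, x ∉ Q'.asIdeal → IsUnit (algebraMap B L x) := fun x hx =>
          IsLocalization.map_units L (⟨x, hx⟩ : Q'.asIdeal.primeCompl)
        have e := map_span_eq_map g hg hgen ((algebraMap B L).comp (algebraMap A B)) (hu _ hfQ')
        rw [← Ideal.map_map] at e
        exact e.symm.trans (Ideal.eq_top_of_isUnit_mem _ (Ideal.mem_map_of_mem _ hxI)
          (hu x fun h' => hQ' (Ideal.mul_mem_right _ _ h')))
      · exact fun h' => (Q.isPrime.mem_or_mem h').elim hx hfQ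
  have hW₀ : IsOpen W₀ := by
    rw [hWW] at hopen
    exact ((PrimeSpectrum.isQuotientMap_of_generalizingMap (PrimeSpectrum.comap_surjective_of_faithfullyFlat)
      (RingHom.Flat.generalizingMap_comap (RingHom.flat_algebraMap_iff.2 inferInstance))).isOpen_preimage).1 hopen
  have hPW : P ∈ W₀ := by
    obtain ⟨Q, hQ⟩ := PrimeSpectrum.comap_surjective_of_faithfullyFlat (B := B) P
    have hQP : Q.asIdeal.comap (algebraMap A B) = P.asIdeal := congrArg PrimeSpectrum.asIdeal hQ
    have hfQ : algebraMap A B f ∉ Q.asIdeal := fun h' => hf (hQP ▸ h')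
    have hIQ : I.map (algebraMap A B) ≤ Q.asIdeal := Ideal.map_le_iff_le_comap.2 (hQP ▸ hIP)
    obtain ⟨s, hs⟩ := h Q hIQ
    obtain ⟨h1, h2, -⟩ := hlen Q s hfQ hIQ hs
    obtain rfl := le_antisymm h1 (h2 hQP)
    obtain ⟨b, hb, hgen'⟩ := hs
    have : Q ∈ W := hchart Q b hb hfQ hgen'
    rw [hWW] at this
    exact hQ ▸ this
  obtain ⟨_, ⟨c, rfl⟩, hcP, hcW⟩ := PrimeSpectrum.isTopologicalBasis_basic_opens.exists_subset_of_mem_open hPW hW₀
  have hcP' : c ∉ P.asIdeal := hcP
  let S := Localization.Away (f * c)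
  haveI : Module.Flat A S := IsLocalization.flat _ (Submonoid.powers (f * c))
  refine ⟨r, f * c, fun h' => (P.isPrime.mem_or_mem h').elim hf hcP', algebraMap A S ∘ g, ?_, ?_⟩
  · refine acyc_of_local _ fun p hp => ?_
    refine (acyc_localization_iff g p).2 (hcW (?_ : (⟨p.comap (algebraMap A S), inferInstance⟩ : PrimeSpectrum A) ∈ _)).2
    intro h'
    exact hp.ne_top (Ideal.eq_top_of_isUnit_mem _ h' (isUnit_of_mul_isUnit_right (x := algebraMap A S f)
      (by rw [← map_mul]; exact IsLocalization.Away.algebraMap_isUnit _)))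
  · exact map_span_eq_map g hg hgen _ (isUnit_of_mul_isUnit_left (y := algebraMap A S c)
      (by rw [← map_mul]; exact IsLocalization.Away.algebraMap_isUnit _))

/-- Koszul-regular ideals descend along faithfully flat maps. -/
theorem isKoszulRegularIdeal_of_faithfullyFlat
    (h : LCI.IsKoszulRegularIdeal (I.map (algebraMap A B))) : LCI.IsKoszulRegularIdeal I := by
  rw [KRIdeal.isKoszulRegularIdeal_iff] at h ⊢
  exact exists_genLoc h

end Groth.Agent.Lib.Synt92.KRDescent
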