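import Groth.Agent.Lib.Synt92.MorAlg
import Groth.Agent.H46.FiberStalk
import Groth.Agent.Lib.JacCrit.FlatRegular
import Groth.Agent.Lib.Flat55.FibrewiseScheme
import Groth.Prelude.Def_CInt
import Mathlib.AlgebraicGeometry.Morphisms.FinitePresentation

/-!
# Local rings of fibres on affine charts
-/

universe u

open CategoryTheory AlgebraicGeometry IsLocalRing

namespace Groth.Agent.Lib.Synt92.MorStalk

theorem essFiniteType_fiber {R A : Type u} [CommRing R] [CommRing A] [Algebra R A]
    [Algebra.FiniteType R A] (p : Ideal R) [p.IsPrime] (Q : Ideal (p.Fiber A)) [Q.IsPrime] :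
    Algebra.EssFiniteType p.ResidueField (Localization.AtPrime Q) := by
  haveI : Algebra.EssFiniteType (p.Fiber A) (Localization.AtPrime Q) :=
    Algebra.EssFiniteType.of_isLocalization _ Q.primeCompl
  exact Algebra.EssFiniteType.comp p.ResidueField (p.Fiber A) _

/-- The quotient of any localisation at a prime by the extension of an ideal of the base. -/
theorem nonempty_quotient {R A L : Type u} [CommRing R] [CommRing A] [Algebra R A] [CommRing L]
    [Algebra A L] [Algebra R L] [IsScalarTower R A L] (p : Ideal R) (P : Ideal A) [P.IsPrime]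
    [IsLocalization.AtPrime L P] :
    Nonempty ((L ⧸ p.map (algebraMap R L)) ≃+*
      (Localization.AtPrime P ⧸ p.map (algebraMap R (Localization.AtPrime P)))) := by
  let e := IsLocalization.algEquiv P.primeCompl L (Localization.AtPrime P)
  refine ⟨Ideal.quotientEquiv _ _ e.toRingEquiv ?_⟩
  rw [Ideal.map_map]
  congr 1
  refine RingHom.ext fun r => ?_
  show algebraMap R (Localization.AtPrime P) r = e (algebraMap R L r)
  rw [IsScalarTower.algebraMap_apply R A L, IsScalarTower.algebraMap_apply R A (Localization.AtPrime P),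
    e.commutes]

variable {X S : Scheme.{u}} (f : X ⟶ S)

/-- The local ring of a fibre through a point of an affine chart, as a local ring of a fibre ring. -/
theorem nonempty_fiberStalk_equiv {V : S.Opens} (hV : IsAffineOpen V) {U : X.Opens}
    (hU : IsAffineOpen U) (hUV : U ≤ f ⁻¹ᵁ V) {x : X} (hx : x ∈ U) :
    letI := (f.appLE V U hUV).hom.toAlgebra
    ∀ (p : PrimeSpectrum Γ(S, V)) (Q : PrimeSpectrum (p.asIdeal.Fiber Γ(X, U))),
      Q.asIdeal.comap (Algebra.TensorProduct.includeRight (R := Γ(S, V)) (A := p.asIdeal.ResidueField)) =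
        (hU.primeIdealOf ⟨x, hx⟩).asIdeal →
      Nonempty (CInt.fiberStalk f x ≃+* Localization.AtPrime Q.asIdeal) := by
  letI := (f.appLE V U hUV).hom.toAlgebra
  intro p Q hQ
  let φ : Γ(S, V) →+* Γ(X, U) := (f.appLE V U hUV).hom
  let := TopCat.Presheaf.algebra_section_stalk S.presheaf (⟨f x, hUV hx⟩ : V)
  let := TopCat.Presheaf.algebra_section_stalk X.presheaf (⟨x, hx⟩ : U)
  have := hV.isLocalization_stalk ⟨f x, hUV hx⟩
  have := hU.isLocalization_stalk ⟨x, hx⟩
  let P := (hU.primeIdealOf ⟨x, hx⟩).asIdeal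
  let pp := (hV.primeIdealOf ⟨f x, hUV hx⟩).asIdeal
  let Aloc : Algebra Γ(S, V) (X.presheaf.stalk x) :=
    ((algebraMap Γ(X, U) (X.presheaf.stalk x)).comp φ).toAlgebra
  have : IsScalarTower Γ(S, V) Γ(X, U) (X.presheaf.stalk x) := .of_algebraMap_eq fun _ => rfl
  have hcomm : ∀ r, (f.stalkMap x).hom (algebraMap Γ(S, V) (S.presheaf.stalk (f x)) r) =
      algebraMap Γ(S, V) (X.presheaf.stalk x) r :=
    fun r => Flat55.FibrewiseScheme.germ_appLE f hUV hx r
  have hmax : (maximalIdeal (S.presheaf.stalk (f x))).map (f.stalkMap x).hom =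
      pp.map (algebraMap Γ(S, V) (X.presheaf.stalk x)) := by
    rw [← IsLocalization.AtPrime.map_eq_maximalIdeal pp (S.presheaf.stalk (f x)), Ideal.map_map]
    congr 1
    exact RingHom.ext hcomm
  have hp : P.comap (algebraMap Γ(S, V) Γ(X, U)) = pp := by
    ext r
    rw [Ideal.mem_comap, ← IsLocalization.AtPrime.to_map_mem_maximal_iff (X.presheaf.stalk x) P,
      ← IsLocalization.AtPrime.to_map_mem_maximal_iff (S.presheaf.stalk (f x)) pp,
      ← IsScalarTower.algebraMap_apply, ← hcomm]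
    rw [mem_maximalIdeal, mem_maximalIdeal, mem_nonunits_iff, mem_nonunits_iff,
      isUnit_map_iff (f.stalkMap x).hom]
  have hpp : p.asIdeal = pp := by
    rw [← hp]
    have h1 : Q.asIdeal.comap (algebraMap Γ(S, V) (p.asIdeal.Fiber Γ(X, U))) = p.asIdeal :=
      ((inferInstance : Q.asIdeal.LiesOver p.asIdeal).over).symm
    conv_lhs => rw [← h1]
    change _ = P.comap _
    rw [show P = _ from hQ.symm]
    ext r
    simp only [Ideal.mem_comap]
    rw [AlgHom.commutes]
  obtain ⟨e1⟩ := nonempty_quotient (L := X.presheaf.stalk x) p.asIdeal P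
  obtain ⟨e2⟩ := JacCrit.FlatRegular.nonempty_ringEquiv p.asIdeal P Q.asIdeal hQ
  exact ⟨((H46.FiberStalk.quotientEquiv f x).symm.trans
    (Ideal.quotEquivOfEq (hmax.trans (by rw [hpp])))).trans (e1.trans e2.symm)⟩

/-- Complete intersection local rings of fibres, on an affine chart. -/
theorem isCompleteIntersection_fiberStalk_iff [LocallyOfFinitePresentation f] {V : S.Opens}
    (hV : IsAffineOpen V) {U : X.Opens} (hU : IsAffineOpen U) (hUV : U ≤ f ⁻¹ᵁ V) {x : X}
    (hx : x ∈ U) :
    letI := (f.appLE V U hUV).hom.toAlgebra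
    ∀ (p : PrimeSpectrum Γ(S, V)) (Q : PrimeSpectrum (p.asIdeal.Fiber Γ(X, U))),
      Q.asIdeal.comap (Algebra.TensorProduct.includeRight (R := Γ(S, V)) (A := p.asIdeal.ResidueField)) =
        (hU.primeIdealOf ⟨x, hx⟩).asIdeal →
      (Pi1.IsCompleteIntersection (CInt.fiberStalk f x) ↔
        Synt.IsCIOver p.asIdeal.ResidueField (Localization.AtPrime Q.asIdeal)) := by
  letI := (f.appLE V U hUV).hom.toAlgebra
  intro p Q hQ
  haveI : Algebra.FinitePresentation Γ(S, V) Γ(X, U) :=
    HasRingHomProperty.appLE @LocallyOfFinitePresentation f inferInstance ⟨V, hV⟩ ⟨U, hU⟩ hUV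
  haveI := essFiniteType_fiber p.asIdeal Q.asIdeal
  obtain ⟨e⟩ := nonempty_fiberStalk_equiv f hV hU hUV hx p Q hQ
  exact MorAlg.isCompleteIntersection_iff_of_equiv _ e

/-- Every point of a chart gives a point of a fibre ring. -/
theorem exists_fiber_point {V : S.Opens} {U : X.Opens} (hU : IsAffineOpen U) (hUV : U ≤ f ⁻¹ᵁ V)
    {x : X} (hx : x ∈ U) :
    letI := (f.appLE V U hUV).hom.toAlgebra
    ∃ (p : PrimeSpectrum Γ(S, V)) (Q : PrimeSpectrum (p.asIdeal.Fiber Γ(X, U))),
      Q.asIdeal.comap (Algebra.TensorProduct.includeRight (R := Γ(S, V)) (A := p.asIdeal.ResidueField)) =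
        (hU.primeIdealOf ⟨x, hx⟩).asIdeal := by
  letI := (f.appLE V U hUV).hom.toAlgebra
  let P := hU.primeIdealOf ⟨x, hx⟩
  let p : PrimeSpectrum Γ(S, V) := PrimeSpectrum.comap (algebraMap Γ(S, V) Γ(X, U)) P
  refine ⟨p, PrimeSpectrum.preimageEquivFiber Γ(S, V) Γ(X, U) p ⟨P, rfl⟩, ?_⟩
  have h := (PrimeSpectrum.preimageEquivFiber Γ(S, V) Γ(X, U) p).symm_apply_apply ⟨P, rfl⟩
  exact congrArg (fun z => z.1.asIdeal) h

/-- Every point of a fibre ring is a point of the chart. -/
theorem exists_point {V : S.Opens} {U : X.Opens} (hU : IsAffineOpen U) (hUV : U ≤ f ⁻¹ᵁ V) :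
    letI := (f.appLE V U hUV).hom.toAlgebra
    ∀ (p : PrimeSpectrum Γ(S, V)) (Q : PrimeSpectrum (p.asIdeal.Fiber Γ(X, U))),
      ∃ (x : X) (hx : x ∈ U),
      Q.asIdeal.comap (Algebra.TensorProduct.includeRight (R := Γ(S, V)) (A := p.asIdeal.ResidueField)) =
        (hU.primeIdealOf ⟨x, hx⟩).asIdeal := by
  letI := (f.appLE V U hUV).hom.toAlgebra
  intro p Q
  let P : PrimeSpectrum Γ(X, U) := PrimeSpectrum.comap
    (Algebra.TensorProduct.includeRight (R := Γ(S, V)) (A := p.asIdeal.ResidueField)).toRingHom Q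
  have hm : hU.fromSpec P ∈ U := by
    have h2 : hU.fromSpec P ∈ Set.range hU.fromSpec := ⟨P, rfl⟩
    rw [hU.range_fromSpec] at h2
    exact h2
  refine ⟨hU.fromSpec P, hm, ?_⟩
  have h : hU.primeIdealOf ⟨hU.fromSpec P, hm⟩ = P :=
    hU.fromSpec.isOpenEmbedding.injective (hU.fromSpec_primeIdealOf _)
  rw [h]
  rfl

end Groth.Agent.Lib.Synt92.MorStalk
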