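import Groth.Prelude.Def_RegImm
import Groth.Agent.Lib.Kaehler.SmoothDim
import Mathlib.RingTheory.RingHom.Smooth

/-!
# Smooth algebras over a field are local complete intersections
-/

universe u

open MvPolynomial

namespace Groth.Agent.Lib.Synt92

/-- A standard smooth algebra over a field is a global complete intersection. -/
theorem isGlobalCI_of_standardSmooth (k : Type u) [Field k] (A : Type u) [CommRing A] [Algebra k A]
    [h : Algebra.IsStandardSmooth k A] : Synt.IsGlobalCI k A := by
  rcases subsingleton_or_nontrivial A with hA | hA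
  · exact Or.inl hA
  obtain ⟨ι, σ, h1, h2, ⟨P⟩⟩ := h.out
  haveI : Finite ι := by assumption
  haveI : Finite σ := by assumption
  haveI : Algebra.FinitePresentation k A := P.toPresentation.finitePresentation_of_isFinite
  haveI : Algebra.IsStandardSmoothOfRelativeDimension P.dimension k A :=
    ⟨ι, σ, inferInstance, inferInstance, P, rfl⟩
  let eι : Fin (Nat.card ι) ≃ ι := (Finite.equivFin ι).symm
  let eσ : Fin (Nat.card σ) ≃ σ := (Finite.equivFin σ).symm
  let E : MvPolynomial (Fin (Nat.card ι)) k ≃ₐ[k] P.Ring := renameEquiv k eι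
  refine Or.inr ⟨Nat.card ι, Nat.card σ, Nat.card_le_card_of_injective P.map P.map_inj,
    (aeval (R := k) P.val).comp E.toAlgHom, fun j => E.symm (P.relation (eσ j)), ?_, ?_, ?_⟩
  · refine fun a => ⟨E.symm (P.σ a), ?_⟩
    simp [P.aeval_val_σ]
  · have hker : RingHom.ker ((aeval (R := k) P.val).comp E.toAlgHom).toRingHom =
        P.ker.comap E.toAlgHom.toRingHom := by
      rw [Algebra.Generators.ker_eq_ker_aeval_val]
      rfl
    rw [hker, ← P.toPresentation.span_range_relation_eq_ker,
      show Ideal.comap E.toAlgHom.toRingHom = Ideal.comap E.toRingEquiv from rfl]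
    rw [← Ideal.map_symm, Ideal.map_span, ← Set.range_comp]
    rw [← eσ.surjective.range_comp]
    rfl
  · change ringKrullDim A = (P.dimension : WithBot ℕ∞)
    refine le_antisymm ((Groth.Agent.Lib.Dim.Local.ringKrullDim_le_iff k _).2 fun q hq =>
      (Kaehler.SmoothDim.dimQ_of_minimal (n := P.dimension) k hq).le) ?_
    obtain ⟨q, hq, hdim, -⟩ := Groth.Agent.Lib.Dim.Local.exists_ringKrullDim_eq_dimQ k (A := A)
    rw [hdim, Kaehler.SmoothDim.dimQ_of_minimal (n := P.dimension) k hq]

/-- A smooth algebra over a field is a local complete intersection. -/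
theorem isLCIOver_of_smooth (k : Type u) [Field k] (A : Type u) [CommRing A] [Algebra k A]
    [Algebra.Smooth k A] : Synt.IsLCIOver k A := by
  refine ⟨inferInstance, fun p => ?_⟩
  obtain ⟨g, hg, hs⟩ := Algebra.IsSmoothAt.exists_notMem_isStandardSmooth k p.asIdeal
  exact ⟨g, hg, isGlobalCI_of_standardSmooth k (Localization.Away g)⟩

/-- A smooth ring map is syntomic. -/
theorem isSyntomic_of_smooth (R : Type u) [CommRing R] (A : Type u) [CommRing A] [Algebra R A]
    [Algebra.Smooth R A] : Synt.IsSyntomic R A :=
  ⟨Algebra.Smooth.flat R A, inferInstance, fun p => isLCIOver_of_smooth _ _⟩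

end Groth.Agent.Lib.Synt92
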