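import Groth.Agent.Lib.Dim.Local
import Groth.Agent.H20.FibreDimBC
import Mathlib.RingTheory.Ideal.KrullsHeightTheorem

/-!
# Pure dimension of a global complete intersection over a field
-/

universe u

open MvPolynomial

namespace Groth.Agent.Lib.Synt92.FieldDim

variable {k : Type u} [Field k]

theorem dimQ_comap {A B : Type u} [CommRing A] [CommRing B] [Algebra k A] [Algebra k B]
    [Algebra.FiniteType k A] [Algebra.FiniteType k B] (f : A →ₐ[k] B) (hf : Function.Surjective f)
    (Q : Ideal B) [Q.IsPrime] : Dim.Basic.dimQ k (Q.comap f.toRingHom) = Dim.Basic.dimQ k Q := by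
  haveI : (Q.comap f.toRingHom).IsPrime := Ideal.IsPrime.comap _
  have h : ringKrullDim (A ⧸ Q.comap f.toRingHom) = ringKrullDim (B ⧸ Q) :=
    ringKrullDim_eq_of_ringEquiv ((Ideal.quotEquivOfEq (by
      ext x; simp [RingHom.mem_ker, Ideal.Quotient.eq_zero_iff_mem])).trans
      (RingHom.quotientKerEquivOfSurjective (f := (Ideal.Quotient.mk Q).comp f.toRingHom)
        (Ideal.Quotient.mk_surjective.comp hf)))
  rw [Dim.Basic.ringKrullDim_quotient_prime k, Dim.Basic.ringKrullDim_quotient_prime k] at h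
  exact_mod_cast h

/-- A complete intersection in affine space has dimension `n - c` at every point. -/
theorem dimAt_eq {n c : ℕ} (hc : c ≤ n) (J : Ideal (MvPolynomial (Fin n) k))
    (r : Fin c → MvPolynomial (Fin n) k) (hJ : J = Ideal.span (Set.range r))
    (hdim : ringKrullDim (MvPolynomial (Fin n) k ⧸ J) ≤ ((n - c : ℕ) : WithBot ℕ∞))
    (Q : Ideal (MvPolynomial (Fin n) k ⧸ J)) [Q.IsPrime] :
    Dim.Local.dimAt k Q = n - c := by
  refine le_antisymm ((Dim.Local.dimAt_le_iff k Q _).2 fun q hq _ =>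
    (Dim.Local.ringKrullDim_le_iff k (n - c)).1 hdim q hq) ?_
  obtain ⟨q', hq', hle⟩ := Ideal.exists_minimalPrimes_le
    (show J ≤ Q.comap (Ideal.Quotient.mk J) from fun x hx => by
      change Ideal.Quotient.mk J x ∈ Q
      rw [Ideal.Quotient.eq_zero_iff_mem.2 hx]
      exact Q.zero_mem)
  haveI : q'.IsPrime := hq'.1.1
  haveI hp : (q'.map (Ideal.Quotient.mk J)).IsPrime :=
    Ideal.map_isPrime_of_surjective Ideal.Quotient.mk_surjective (by rw [Ideal.mk_ker]; exact hq'.1.2)
  have e : (q'.map (Ideal.Quotient.mk J)).comap (Ideal.Quotient.mkₐ k J).toRingHom = q' := by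
    change (q'.map (Ideal.Quotient.mk J)).comap (Ideal.Quotient.mk J) = q'
    rw [Ideal.comap_map_of_surjective _ Ideal.Quotient.mk_surjective]
    exact sup_eq_left.2 (Ideal.mk_ker.le.trans hq'.1.2)
  refine le_trans ?_ (Dim.Local.dimQ_le_dimAt_of_le k
    (Ideal.map_le_iff_le_comap.2 hle : q'.map (Ideal.Quotient.mk J) ≤ Q))
  rw [← dimQ_comap (Ideal.Quotient.mkₐ k J) (Ideal.Quotient.mkₐ_surjective k J), ]
  have h1 := Dim.Basic.height_add_dimQ k q'
  have h3 : Dim.Basic.trdegNat k (MvPolynomial (Fin n) k) = n := by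
    have := (Dim.Basic.ringKrullDim_eq_trdegNat k (MvPolynomial (Fin n) k)).symm.trans
      (Dim.Basic.ringKrullDim_mvPolynomial k (Fin n))
    simpa using this
  rw [h3, ← Dim.Local.coe_height_toNat k q'] at h1
  norm_cast at h1
  have hht : q'.height.toNat ≤ c := by
    have h2 := Ideal.height_le_spanRank_toENat_of_mem_minimalPrimes _ _ hq'
    rw [← Dim.Local.coe_height_toNat k q'] at h2
    have h4 : J.spanRank.toENat ≤ (c : ℕ∞) := by
      rw [hJ]
      have h5 : Cardinal.mk (Set.range r) ≤ (c : Cardinal) := by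
        simpa using Cardinal.mk_range_le_lift (f := r)
      calc _ ≤ Cardinal.toENat (c : Cardinal) :=
            Cardinal.toENat.monotone' ((Submodule.spanRank_span_le_card _).trans h5)
        _ = _ := by simp
    exact_mod_cast h2.trans h4
  simp only [e]
  omega

/-- The same for an algebra presented as a complete intersection. -/
theorem dimAt_eq' {n c : ℕ} (hc : c ≤ n) {A : Type u} [CommRing A] [Algebra k A]
    (φ : MvPolynomial (Fin n) k →ₐ[k] A) (hφ : Function.Surjective φ)
    (r : Fin c → MvPolynomial (Fin n) k) (hker : RingHom.ker φ.toRingHom = Ideal.span (Set.range r))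
    (hdim : ringKrullDim A ≤ ((n - c : ℕ) : WithBot ℕ∞)) (Q : Ideal A) [Q.IsPrime] :
    Dim.Local.dimAt k Q = n - c := by
  let e : (MvPolynomial (Fin n) k ⧸ RingHom.ker φ.toRingHom) ≃ₐ[k] A :=
    Ideal.quotientKerAlgEquivOfSurjective hφ
  haveI : Algebra.FiniteType k A := Algebra.FiniteType.of_surjective φ hφ
  exact (Groth.Agent.H20.FibreDimBC.dimAt_comap e Q).symm.trans
    (dimAt_eq hc _ r hker ((ringKrullDim_eq_of_ringEquiv e.toRingEquiv).le.trans hdim) _)

end Groth.Agent.Lib.Synt92.FieldDim
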