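import Groth.Agent.Lib.Synt92.SpreadReg
import Groth.Agent.Lib.Synt92.KoszulFlat
import Groth.Agent.Lib.Synt92.SmoothCI
import Groth.Agent.Lib.Synt92.MorAlg
import Groth.Agent.H26.FibreRegStalk
import Groth.Agent.S9367
import Groth.Agent.Lib.Synt92.MorStalk
import Groth.Agent.Lib.Synt92.CritLocal
import Groth.Agent.H26.CISpread

/-!
# Syntomic closed subschemes of smooth schemes are cut out by regular sequences
-/

universe u

open IsLocalRing RingTheory.Sequence CategoryTheory AlgebraicGeometry
open Groth.Agent.H20.FibreDimBC (fdim fibrePoint comap_fibrePoint)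

namespace Groth.Agent.Lib.Synt92.SmoothAmbient

/-- A smooth morphism is syntomic. -/
theorem isSyntomicMor_of_smooth {X S : Scheme.{u}} (f : X ⟶ S) [Smooth f] : Synt.IsSyntomicMor f := by
  intro x
  obtain ⟨V, hV, hxV, -⟩ := exists_isAffineOpen_mem_and_subset (X := S) (x := f x) (U := ⊤) trivial
  obtain ⟨⟨U, hU⟩, hxU, hUV⟩ := MorCrit.exists_chart f x hxV
  refine ⟨⟨U, hU⟩, ⟨V, hV⟩, hUV, hxU, ?_⟩
  letI := (f.appLE V U hUV).hom.toAlgebra
  haveI : Algebra.Smooth Γ(S, V) Γ(X, U) := RingHom.smooth_algebraMap.1 (f.smooth_appLE hV hU hUV)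
  exact isSyntomic_of_smooth _ _

/-- The fibre dimension of a smooth algebra is locally constant. -/
theorem isLocallyConstant_fdim {R B : Type u} [CommRing R] [CommRing B] [Algebra R B]
    [Algebra.Smooth R B] : IsLocallyConstant fun q : PrimeSpectrum B => fdim R B q.asIdeal := by
  haveI : Smooth (Spec.map (CommRingCat.ofHom (algebraMap R B))) := by
    rw [HasRingHomProperty.Spec_iff (P := @Smooth)]
    exact RingHom.smooth_algebraMap.2 ‹_›
  have h := Groth.Agent.S9367.result _ (isSyntomicMor_of_smooth (Spec.map (CommRingCat.ofHom (algebraMap R B))))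
  intro s
  have e : (fun q : PrimeSpectrum B => fdim R B q.asIdeal) ⁻¹' s =
      (fun q => FlatMor.fibreDimAt (Spec.map (CommRingCat.ofHom (algebraMap R B))) q) ⁻¹'
        ((fun n : ℕ => (n : WithBot ℕ∞)) '' s) := by
    ext q
    simp only [Set.mem_preimage, H20.FibreDimSet.fibreDimAt_specMap]
    refine ⟨fun hq => ⟨_, hq, rfl⟩, ?_⟩
    rintro ⟨n, hn, e⟩
    simp only at e
    have : n = fdim R B q.asIdeal := by exact_mod_cast e
    exact this ▸ hn
  rw [e]
  exact h _

/-- A weakly regular sequence on a basic open, from the local rings. -/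
theorem isWeaklyRegular_away {P : Type u} [CommRing P] (g : P) (fs : List P)
    (h : ∀ (q : Ideal P) [q.IsPrime], g ∉ q →
      IsWeaklyRegular (Localization.AtPrime q) (fs.map (algebraMap P (Localization.AtPrime q)))) :
    IsWeaklyRegular (Localization.Away g) (fs.map (algebraMap P (Localization.Away g))) := by
  refine ⟨fun i hi => ?_⟩
  rw [Groth.Agent.H26.CISpread.isSMulRegular_quotient_iff]
  intro z hz
  refine Ideal.mem_of_localization_maximal fun m hm => ?_
  haveI := hm.isPrime
  let q := m.comap (algebraMap P (Localization.Away g))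
  haveI : q.IsPrime := Ideal.IsPrime.comap _
  have hgq : g ∉ q := fun hg => Ideal.IsPrime.ne_top ‹m.IsPrime›
    (Ideal.eq_top_of_isUnit_mem _ hg (IsLocalization.Away.algebraMap_isUnit g))
  haveI : IsLocalization.AtPrime (Localization.AtPrime m) q := by
    simpa only [IsLocalization.AtPrime, Ideal.under] using
      IsLocalization.isLocalization_isLocalization_atPrime_isLocalization
        (Submonoid.powers g) (Localization.AtPrime m) m
  let e := IsLocalization.algEquiv q.primeCompl (Localization.AtPrime q) (Localization.AtPrime m)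
  have hm' : IsWeaklyRegular (Localization.AtPrime m)
      ((fs.map (algebraMap P (Localization.Away g))).map (algebraMap _ (Localization.AtPrime m))) := by
    refine (e.toRingEquiv.toAddEquiv.isWeaklyRegular_congr ?_).1 (h q hgq)
    rw [List.map_map, List.forall₂_map_left_iff, List.forall₂_map_right_iff, List.forall₂_same]
    intro r _ x
    change e (algebraMap P _ r * x) = algebraMap _ (Localization.AtPrime m) (algebraMap P (Localization.Away g) r) * e x
    rw [map_mul, e.commutes, ← IsScalarTower.algebraMap_apply]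
  have h2 := (Groth.Agent.H26.CISpread.isSMulRegular_quotient_iff _ _).1
    (hm'.regular_mod_prev i (by simpa using hi)) (algebraMap _ _ z)
  rw [← List.map_take, ← Ideal.map_ofList, List.getElem_map, ← map_mul] at h2
  exact h2 (Ideal.mem_map_of_mem _ hz)

/-- A syntomic quotient of a smooth algebra is locally cut out by a regular sequence. -/
theorem exists_chart' {R B : Type u} [CommRing R] [CommRing B] [Algebra R B] [Algebra.Smooth R B]
    (I : Ideal B) (h : Synt.IsSyntomic R (B ⧸ I)) (P : Ideal B) [P.IsPrime] (hIP : I ≤ P) :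
    ∃ g : B, g ∉ P ∧ ∃ l : List B, (∀ f ∈ l, f ∈ I) ∧
      IsWeaklyRegular (Localization.AtPrime P ⧸ (P.under R).map (algebraMap R (Localization.AtPrime P)))
        (l.map (algebraMap B (Localization.AtPrime P ⧸ (P.under R).map (algebraMap R (Localization.AtPrime P))))) ∧
      IsWeaklyRegular (Localization.Away g) (l.map (algebraMap B (Localization.Away g))) ∧
      ∀ y ∈ I, g * y ∈ Ideal.ofList l := by
  classical
  obtain ⟨hflat, hfp, hci⟩ := MorAlg.isSyntomic_iff.1 h
  haveI := hflat
  haveI : Algebra.FiniteType R B := inferInstance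
  have hI : I.FG := by
    have h1 := Algebra.FinitePresentation.ker_fG_of_surjective (Ideal.Quotient.mkₐ R I) (Ideal.Quotient.mkₐ_surjective R I)
    rwa [show RingHom.ker (Ideal.Quotient.mkₐ R I).toRingHom = I from Ideal.Quotient.mkₐ_ker R I] at h1
  haveI : (P.map (Ideal.Quotient.mk I)).IsPrime :=
    Ideal.map_isPrime_of_surjective Ideal.Quotient.mk_surjective (by rwa [Ideal.mk_ker])
  set z := P.map (Ideal.Quotient.mk I) with hz
  have hzP : z.comap (Ideal.Quotient.mk I) = P := by
    rw [hz, Ideal.comap_map_of_surjective _ Ideal.Quotient.mk_surjective]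
    exact sup_eq_left.2 (Ideal.mk_ker.le.trans hIP)
  suffices main : ∀ (P : Ideal B) [P.IsPrime], z.comap (Ideal.Quotient.mk I) = P →
      ∃ g : B, g ∉ P ∧ ∃ l : List B, (∀ f ∈ l, f ∈ I) ∧
        IsWeaklyRegular (Localization.AtPrime P ⧸ (P.under R).map (algebraMap R (Localization.AtPrime P)))
          (l.map (algebraMap B (Localization.AtPrime P ⧸ (P.under R).map (algebraMap R (Localization.AtPrime P))))) ∧
        IsWeaklyRegular (Localization.Away g) (l.map (algebraMap B (Localization.Away g))) ∧
        ∀ y ∈ I, g * y ∈ Ideal.ofList l from main P hzP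
  intro P _ e
  subst e
  set q := z.comap (Ideal.Quotient.mk I)
  set p := q.under R with hp
  haveI : z.LiesOver p := ⟨by ext r; rfl⟩
  let Q' : PrimeSpectrum (p.Fiber (B ⧸ I)) :=
    PrimeSpectrum.primesOverOrderIsoFiber R (B ⧸ I) p ⟨z, inferInstance, inferInstance⟩
  have hQ' : Q'.asIdeal.comap (Algebra.TensorProduct.includeRight (R := R) (A := p.ResidueField)
      (B := B ⧸ I)).toRingHom = z :=
    congrArg Subtype.val
      ((PrimeSpectrum.primesOverOrderIsoFiber R (B ⧸ I) p).symm_apply_apply ⟨z, inferInstance, inferInstance⟩)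
  haveI : Algebra.FiniteType R (B ⧸ I) := inferInstance
  haveI := MorStalk.essFiniteType_fiber p Q'.asIdeal
  have hCI : Pi1.IsCompleteIntersection (Localization.AtPrime Q'.asIdeal) :=
    (MorAlg.isCompleteIntersection_iff_of_equiv p.ResidueField (RingEquiv.refl _)).2 (hci ⟨p, inferInstance⟩ Q')
  let L := Localization.AtPrime q ⧸ p.map (algebraMap R (Localization.AtPrime q))
  obtain ⟨eB⟩ := JacCrit.FlatRegular.nonempty_ringEquiv p q (fibrePoint R B q).asIdeal (comap_fibrePoint q)
  haveI := KoszulFlat.isRegularLocalRing_of_smooth p.ResidueField (p.Fiber B) (fibrePoint R B q).asIdeal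
  haveI : IsRegularLocalRing L :=
    IsRegularLocalRing.of_ringEquiv (R := Localization.AtPrime (fibrePoint R B q).asIdeal) eB
  obtain ⟨ε⟩ := SpreadReg.nonempty_fibre_quotient (R := R) I p z
  obtain ⟨eA⟩ := JacCrit.FlatRegular.nonempty_ringEquiv p z Q'.asIdeal hQ'
  let IL : Ideal L := I.map ((Ideal.Quotient.mk (p.map (algebraMap R (Localization.AtPrime q)))).comp
    (algebraMap B (Localization.AtPrime q)))
  let E : (L ⧸ IL) ≃+* Localization.AtPrime Q'.asIdeal := ε.trans eA.symm
  letI := (E.toRingHom.comp (Ideal.Quotient.mk IL)).toAlgebra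
  have hs : Function.Surjective (algebraMap L (Localization.AtPrime Q'.asIdeal)) :=
    E.surjective.comp Ideal.Quotient.mk_surjective
  obtain ⟨rs, hrs, hker⟩ := (H26.CIQuotient.isCompleteIntersection_iff_of_surjective (R := L) hs).1.1 hCI
  have hkIL : Ideal.ofList rs = IL := by
    rw [hker]
    change RingHom.ker (E.toRingHom.comp (Ideal.Quotient.mk IL)) = IL
    rw [RingHom.ker_comp_of_injective (f := E.toRingHom) _ E.injective, Ideal.mk_ker]
  -- lifts in the ideal
  have hex : ∀ r ∈ rs, ∃ a ∈ I, ∃ v : L, IsUnit v ∧ algebraMap B L a = v * r := by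
    intro r hr
    have h1 : r ∈ (I.map (algebraMap B (Localization.AtPrime q))).map
        (Ideal.Quotient.mk (p.map (algebraMap R (Localization.AtPrime q)))) := by
      rw [Ideal.map_map]
      exact hkIL.le (Ideal.subset_span hr)
    obtain ⟨y, hy, rfl⟩ := (Ideal.mem_map_iff_of_surjective _ Ideal.Quotient.mk_surjective).1 h1
    obtain ⟨⟨a, s⟩, e⟩ := (IsLocalization.mem_map_algebraMap_iff q.primeCompl (Localization.AtPrime q)).1 hy
    refine ⟨a.1, a.2, Ideal.Quotient.mk _ (algebraMap B (Localization.AtPrime q) s.1),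
      (IsLocalization.map_units _ s).map _, ?_⟩
    rw [mul_comm, ← map_mul, e]
    rfl
  choose! a ha v hv hav using hex
  let l : List B := rs.map a
  have hlI : ∀ f ∈ l, f ∈ I := fun f hf => by
    obtain ⟨r, hr, rfl⟩ := List.mem_map.1 hf
    exact ha r hr
  have hlmap : l.map (algebraMap B L) = rs.map fun r => (if r ∈ rs then v r else 1) * r := by
    rw [List.map_map]
    exact List.map_congr_left fun r hr => by rw [if_pos hr]; exact hav r hr
  have hwL : IsWeaklyRegular L (l.map (algebraMap B L)) := by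
    rw [hlmap]
    refine (H26.FibreRegStalk.weaklyRegular_of_unit_mul L rs _ fun r => ?_).2 hrs.toIsWeaklyRegular
    by_cases hr : r ∈ rs
    · rw [if_pos hr]; exact hv r hr
    · rw [if_neg hr]; exact isUnit_one
  have hlq : ∀ f ∈ l, f ∈ q := fun f hf => by
    change Ideal.Quotient.mk I f ∈ z
    rw [Ideal.Quotient.eq_zero_iff_mem.2 (hlI f hf)]
    exact zero_mem _
  obtain ⟨g₁, hg₁, hnhd⟩ := SpreadReg.exists_weaklyRegular_nhd
    (fun p' Q => KoszulFlat.isRegularLocalRing_of_smooth p'.asIdeal.ResidueField (p'.asIdeal.Fiber B) Q.asIdeal)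
    isLocallyConstant_fdim q l hlq hwL
  -- the sequence generates the ideal at the point
  let K : Ideal (Localization.AtPrime q) := I.map (algebraMap B (Localization.AtPrime q))
  obtain ⟨π₀, hπ₀, hker₀⟩ : ∃ π : Localization.AtPrime q →ₐ[R] Localization.AtPrime z,
      Function.Surjective π ∧ RingHom.ker π.toRingHom = K := by
    obtain ⟨π, hπ, hker, -⟩ := LocalQuot.exists_hom (Ideal.Quotient.mkₐ R I)
      (Ideal.Quotient.mkₐ_surjective R I) z (Localization.AtPrime z)
    rw [show RingHom.ker (Ideal.Quotient.mkₐ R I).toRingHom = I from Ideal.Quotient.mkₐ_ker R I] at hker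
    exact ⟨π, hπ, hker⟩
  haveI : Module.Flat R (Localization.AtPrime z) := Module.Flat.trans R (B ⧸ I) _
  haveI : Module.Flat R (Localization.AtPrime q ⧸ K) :=
    Module.Flat.of_linearEquiv ((Ideal.quotientEquivAlgOfEq R hker₀.symm).trans
      (Ideal.quotientKerAlgEquivOfSurjective hπ₀)).toLinearEquiv
  have hpm : p.map (algebraMap R (Localization.AtPrime q)) ≤ maximalIdeal (Localization.AtPrime q) := by
    rw [← Localization.AtPrime.map_eq_maximalIdeal, Ideal.map_le_iff_le_comap]
    intro r hr
    rw [Ideal.mem_comap, IsScalarTower.algebraMap_apply R B (Localization.AtPrime q)]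
    exact Ideal.mem_map_of_mem _ hr
  have hKJ : K ≤ (Ideal.ofList l).map (algebraMap B (Localization.AtPrime q)) := by
    refine Submodule.le_of_le_smul_of_le_jacobson_bot (I := maximalIdeal (Localization.AtPrime q))
      (hI.map _) (IsLocalRing.maximalIdeal_le_jacobson _) fun y hy => ?_
    have h1 : Ideal.Quotient.mk (p.map (algebraMap R (Localization.AtPrime q))) y ∈
        ((Ideal.ofList l).map (algebraMap B (Localization.AtPrime q))).map
          (Ideal.Quotient.mk (p.map (algebraMap R (Localization.AtPrime q)))) := by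
      rw [Ideal.map_map, Ideal.map_ofList]
      have h2 : Ideal.Quotient.mk (p.map (algebraMap R (Localization.AtPrime q))) y ∈ IL := by
        change _ ∈ I.map _
        rw [← Ideal.map_map]
        exact Ideal.mem_map_of_mem _ hy
      rw [← hkIL] at h2
      refine (Ideal.span_le.2 ?_) h2
      intro r hr
      change r ∈ Ideal.ofList (l.map (algebraMap B L))
      refine (Ideal.unit_mul_mem_iff_mem _ (hv r hr)).1 ?_
      rw [← hav r hr]
      exact Ideal.subset_span (List.mem_map_of_mem (List.mem_map_of_mem hr))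
    obtain ⟨j, hj, hjy⟩ := (Ideal.mem_map_iff_of_surjective _ Ideal.Quotient.mk_surjective).1 h1
    have h2 : y - j ∈ p.map (algebraMap R (Localization.AtPrime q)) := Ideal.Quotient.eq.1 hjy.symm
    have h3 : y - j ∈ K := sub_mem hy (Ideal.map_mono (Ideal.span_le.2 hlI) hj)
    have h4 := Ideal.mul_mono_left hpm (CritLocal.mem_mul_of_flat K p h3 h2)
    rw [show y = j + (y - j) by ring]
    exact Submodule.add_mem_sup hj h4
  obtain ⟨s, hs⟩ := hI
  have hex2 : ∀ x ∈ s, ∃ h, h ∉ q ∧ h * x ∈ Ideal.ofList l := fun x hx => by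
    have hx' := hKJ (Ideal.mem_map_of_mem _ (hs ▸ Ideal.subset_span hx : x ∈ I))
    obtain ⟨⟨⟨y, hy⟩, ⟨t, ht⟩⟩, e⟩ := (IsLocalization.mem_map_algebraMap_iff q.primeCompl _).1 hx'
    simp only [← map_mul] at e
    obtain ⟨⟨w, hw⟩, he⟩ := IsLocalization.exists_of_eq (M := q.primeCompl) e
    refine ⟨w * t, q.primeCompl.mul_mem hw ht, ?_⟩
    rw [show w * t * x = w * (x * t) by ring]
    exact he ▸ Ideal.mul_mem_left _ w hy
  choose! hfun hfq hfJ using hex2
  refine ⟨g₁ * ∏ x ∈ s, hfun x, fun hm => ?_, l, hlI, hwL, ?_, ?_⟩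
  · rcases Ideal.IsPrime.mem_or_mem (inferInstance : q.IsPrime) hm with h | h
    · exact hg₁ h
    · obtain ⟨x, hx, hxq⟩ := (Ideal.IsPrime.prod_mem_iff).1 h
      exact hfq x hx hxq
  · exact isWeaklyRegular_away _ l fun q' _ hq' => (hnhd q' fun h' => hq' (q'.mul_mem_right _ h')).1
  · intro y hy
    rw [← hs] at hy
    induction hy using Submodule.span_induction with
    | mem x hx =>
      refine Ideal.mem_of_dvd _ ?_ (hfJ x hx)
      exact mul_dvd_mul_right ((Finset.dvd_prod_of_mem hfun hx).mul_left g₁) x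
    | zero => rw [mul_zero]; exact zero_mem _
    | add a b _ _ ha hb => rw [mul_add]; exact add_mem ha hb
    | smul c b _ hb => rw [smul_eq_mul, mul_left_comm]; exact Ideal.mul_mem_left _ c hb

/-- A syntomic quotient of a smooth algebra is locally cut out by a regular sequence. -/
theorem exists_chart {R B : Type u} [CommRing R] [CommRing B] [Algebra R B] [Algebra.Smooth R B]
    (I : Ideal B) (h : Synt.IsSyntomic R (B ⧸ I)) (P : Ideal B) [P.IsPrime] (hIP : I ≤ P) :
    ∃ g : B, g ∉ P ∧ ∃ l : List B, (∀ f ∈ l, f ∈ I) ∧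
      IsWeaklyRegular (Localization.Away g) (l.map (algebraMap B (Localization.Away g))) ∧
      ∀ y ∈ I, g * y ∈ Ideal.ofList l := by
  obtain ⟨g, hg, l, h1, -, h2, h3⟩ := exists_chart' I h P hIP
  exact ⟨g, hg, l, h1, h2, h3⟩

end Groth.Agent.Lib.Synt92.SmoothAmbient
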