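import Groth.Agent.Lib.Synt92.LciScheme
import Groth.Agent.Lib.AlgSpFpqc.LocP
import Groth.Agent.Lib.AlgSpMor.Cancel

/-! Koszul morphisms of algebraic spaces. -/

set_option autoImplicit false
set_option backward.isDefEq.respectTransparency false

universe u

open CategoryTheory CategoryTheory.Limits AlgebraicGeometry

namespace Groth.Agent.Lib.Synt92.LciSpace

open AlgSp (Sp yon Representable RepWith IsAlgSpace LocP)
open Groth.Agent.Lib.AlgSpace Groth.Agent.Lib.AlgSpMor.LocP

variable {S : Scheme.{u}}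

/-- One chart diagram with surjective source chart suffices. -/
theorem locP_lci_of_chart {X Y : Sp S}
    (hX : Representable (Limits.diag X)) (hY : Representable (Limits.diag Y)) {f : X ⟶ Y}
    {U V : Over S} {a : (yon S).obj U ⟶ X} {b : (yon S).obj V ⟶ Y} {h : U ⟶ V}
    (ha : RepWith @Etale a) (has : RepWith @Surjective a) (hb : RepWith @Etale b)
    (comm : a ≫ f = (yon S).map h ≫ b) (hh : AlgSp.lci h.left) : LocP AlgSp.lci f := by
  intro U' V' a' b' h' ha' hb' comm'
  obtain ⟨U'', p, q, sq⟩ := exists_isPullback_yon hX a a'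
  obtain ⟨W, r, r', sqW⟩ := exists_isPullback_yon hY b b'
  have : Etale p.left := repWith_property ha' sq.flip
  have : Etale q.left := repWith_property ha sq
  have : Surjective q.left := repWith_property has sq
  have : Etale r.left := repWith_property hb' sqW.flip
  have : Etale r'.left := repWith_property hb sqW
  obtain ⟨k, hk⟩ := (yon S).map_surjective (sqW.lift ((yon S).map (p ≫ h)) ((yon S).map (q ≫ h'))
    (by rw [Functor.map_comp, Functor.map_comp, Category.assoc, Category.assoc, ← comm, ← comm',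
      reassoc_of% sq.w]))
  have k1 : k ≫ r = p ≫ h := by
    apply (yon S).map_injective
    rw [Functor.map_comp, hk, sqW.lift_fst]
  have k2 : k ≫ r' = q ≫ h' := by
    apply (yon S).map_injective
    rw [Functor.map_comp, hk, sqW.lift_snd]
  have hPk : AlgSp.lci k.left := by
    refine LciScheme.lci_cancel k.left r.left ?_
    rw [← Over.comp_left, k1, Over.comp_left]
    exact LciScheme.lci_comp _ _ (LciScheme.lci_of_smooth p.left) hh
  refine LciScheme.lci_descends_etale q.left h'.left ?_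
  rw [← Over.comp_left, ← k2, Over.comp_left]
  exact LciScheme.lci_comp _ _ hPk (LciScheme.lci_of_smooth r'.left)

theorem locP_lci_comp {X Y Z : Sp S} (hX : IsAlgSpace X) (hY : IsAlgSpace Y) (hZ : IsAlgSpace Z)
    {f : X ⟶ Y} {g : Y ⟶ Z} (hf : LocP AlgSp.lci f) (hg : LocP AlgSp.lci g) :
    LocP AlgSp.lci (f ≫ g) := by
  obtain ⟨W, V, b, c, h₂, hb, hbs, hc, -, w₂⟩ := exists_chart hY hZ g
  obtain ⟨U, a, h₁, ha, has, w₁⟩ := exists_chart_over hX hY f hb hbs
  refine locP_lci_of_chart hX.diag hZ.diag ha has hc (h := h₁ ≫ h₂)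
    (by rw [reassoc_of% w₁, w₂, Functor.map_comp, Category.assoc]) ?_
  rw [Over.comp_left]
  exact LciScheme.lci_comp _ _ (hf a b h₁ ha hb w₁) (hg b c h₂ hb hc w₂)

theorem locP_lci_of_comp {X Y Z : Sp S} (hX : IsAlgSpace X) (hY : IsAlgSpace Y) (hZ : IsAlgSpace Z)
    {f : X ⟶ Y} {g : Y ⟶ Z} (hfg : LocP AlgSp.lci (f ≫ g)) (hg : LocP @Smooth g) :
    LocP AlgSp.lci f := by
  obtain ⟨W, V, b, c, h₂, hb, hbs, hc', -, w₂⟩ := exists_chart hY hZ g
  obtain ⟨U, a, h₁, ha, has, w₁⟩ := exists_chart_over hX hY f hb hbs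
  haveI : Smooth h₂.left := hg b c h₂ hb hc' w₂
  refine locP_lci_of_chart hX.diag hY.diag ha has hb w₁ (LciScheme.lci_cancel h₁.left h₂.left ?_)
  exact hfg a c (h₁ ≫ h₂) ha hc' (by rw [reassoc_of% w₁, w₂, Functor.map_comp, Category.assoc])

/-- Flat base change. -/
theorem locP_lci_of_isPullback {X Y Y' X' : Sp S}
    (hX : IsAlgSpace X) (hY : IsAlgSpace Y) (hY' : IsAlgSpace Y') {f : X ⟶ Y} {g : Y' ⟶ Y}
    (hg : LocP @Flat g) {fst : X' ⟶ X} {f' : X' ⟶ Y'} (sq : IsPullback fst f' f g)
    (hf : LocP AlgSp.lci f) : LocP AlgSp.lci f' := by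
  obtain ⟨U, V, a, b, h, ha, has, hb, hbs, w⟩ := exists_chart hX hY f
  obtain ⟨W₀, c, hc, hcs⟩ := hY'.atlas
  have hX' : IsAlgSpace X' := isAlgSpace_of_isPullback sq hY.diag hX hY'
  obtain ⟨T, t₁, t₂, sqT⟩ := exists_isPullback_yon hY.diag b (c ≫ g)
  let Q := Limits.pullback h t₁
  have sqQ := IsPullback.of_hasPullback h t₁
  let u₁ : Q ⟶ U := pullback.fst h t₁
  let u₂ : Q ⟶ T := pullback.snd h t₁
  have wQ : ((yon S).map u₁ ≫ a) ≫ f = ((yon S).map (u₂ ≫ t₂) ≫ c) ≫ g := by
    simp only [Category.assoc, Functor.map_comp, w]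
    rw [← sqT.w, ← (yon S).map_comp_assoc, sqQ.w, (yon S).map_comp_assoc]
  have sqUW : IsPullback ((yon S).map u₁) ((yon S).map (u₂ ≫ t₂)) (a ≫ f) (c ≫ g) := by
    rw [w, Functor.map_comp]
    exact (isPullback_yon sqQ).paste_vert sqT
  let a' : (yon S).obj Q ⟶ X' := sq.lift _ _ wQ
  have key : IsPullback ((yon S).map (prod.lift u₁ (u₂ ≫ t₂))) a'
      ((yonProdIso U W₀).hom ≫ prod.map a c) (prod.lift fst f') := by
    refine isPullback_of_yon (prod.hom_ext ?_ ?_) (fun T x x' h1 _ ↦ sqUW.hom_ext ?_ ?_)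
      (fun T x y e ↦ ?_)
    · simp only [Category.assoc, prod.lift_fst, prod.map_fst, yonProdIso_hom_fst_assoc]
      rw [← (yon S).map_comp_assoc, prod.lift_fst]
      simp [a']
    · simp only [Category.assoc, prod.lift_snd, prod.map_snd, yonProdIso_hom_snd_assoc]
      rw [← (yon S).map_comp_assoc, prod.lift_snd]
      simp [a']
    · simpa only [Category.assoc, ← Functor.map_comp, prod.lift_fst] using
        congr($h1 ≫ (yon S).map prod.fst)
    · simpa only [Category.assoc, ← Functor.map_comp, prod.lift_snd] using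
        congr($h1 ≫ (yon S).map prod.snd)
    · have e1 : (x ≫ (yon S).map prod.fst) ≫ a = y ≫ fst := by
        simpa [yonProdIso_hom_fst_assoc, prod.lift_fst, prod.map_fst] using congr($e ≫ prod.fst)
      have e2 : (x ≫ (yon S).map prod.snd) ≫ c = y ≫ f' := by
        simpa [yonProdIso_hom_snd_assoc, prod.lift_snd, prod.map_snd] using congr($e ≫ prod.snd)
      refine ⟨sqUW.lift (x ≫ (yon S).map prod.fst) (x ≫ (yon S).map prod.snd)
        (by rw [← Category.assoc, e1, ← Category.assoc _ c g, e2, Category.assoc, Category.assoc, sq.w]), ?_, ?_⟩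
      · apply (cancel_mono (yonProdIso U W₀).hom).1
        refine prod.hom_ext ?_ ?_
        · simp only [Category.assoc, yonProdIso_hom_fst]
          rw [← Functor.map_comp, prod.lift_fst, sqUW.lift_fst]
        · simp only [Category.assoc, yonProdIso_hom_snd]
          rw [← Functor.map_comp, prod.lift_snd, sqUW.lift_snd]
      · refine sq.hom_ext ?_ ?_
        · simp [a', e1]
        · simp only [a', Category.assoc, sq.lift_snd, sqUW.lift_snd_assoc, e2]
  have : MorphismProperty.IsStableUnderComposition (@Etale : MorphismProperty Scheme.{u}) :=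
    ⟨fun f g (_ : Etale f) (_ : Etale g) ↦ inferInstanceAs (Etale (f ≫ g))⟩
  refine locP_lci_of_chart hX'.diag hY'.diag (a := a') (b := c) (h := u₂ ≫ t₂)
    (repWith_baseChange key ((repWith_iso_comp_iff _ _ _).2 (repWith_prodMap ha hc)))
    (repWith_baseChange key ((repWith_iso_comp_iff _ _ _).2 (repWith_prodMap has hcs))) hc
    (sq.lift_snd _ _ _) ?_
  have : Etale t₂.left := repWith_property hb sqT
  haveI : Flat t₁.left := hg ((yon S).map t₂ ≫ c) b t₁ (repWith_etale_comp t₂ hc) hb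
    (by rw [Category.assoc, sqT.w])
  rw [Over.comp_left]
  exact LciScheme.lci_comp _ _
    (LciScheme.lci_baseChange h.left t₁.left _ _ (sqQ.map (Over.forget S)) (hf a b h ha hb w))
    (LciScheme.lci_of_smooth t₂.left)

theorem exists_compactOpen_surj {W O : Scheme.{u}} (p : W ⟶ O) [Etale p] [Surjective p] [CompactSpace O] :
    ∃ K : W.Opens, IsCompact (K : Set W) ∧ ∀ z : O, ∃ w ∈ K, p w = z := by
  classical
  choose w hw using p.surjective
  choose A hA hwA using fun z => exists_isAffineOpen_mem_and_subset (X := W) (x := w z) (U := ⊤) trivial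
  obtain ⟨t, ht⟩ := isCompact_univ.elim_finite_subcover (fun z => p '' (A z : Set W))
    (fun z => p.isOpenMap _ (A z).2) (fun z _ => Set.mem_iUnion.2 ⟨z, w z, (hwA z).1, hw z⟩)
  refine ⟨⨆ z ∈ t, A z, ?_, fun z => ?_⟩
  · simp only [TopologicalSpace.Opens.coe_iSup]
    exact t.finite_toSet.isCompact_biUnion fun z _ => (hA z).isCompact
  · obtain ⟨i, hi, x, hx, rfl⟩ := Set.mem_iUnion₂.1 (ht (Set.mem_univ z))
    refine ⟨x, ?_, rfl⟩
    simp only [TopologicalSpace.Opens.mem_iSup]
    exact ⟨i, hi, hx⟩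

theorem exists_compactOpen_ge {A : Scheme.{u}} {C : Set A} (hC : IsCompact C) :
    ∃ K : A.Opens, IsCompact (K : Set A) ∧ C ⊆ K := by
  classical
  choose V hV hxV using fun x : A => exists_isAffineOpen_mem_and_subset (X := A) (x := x) (U := ⊤) trivial
  obtain ⟨t, ht⟩ := hC.elim_finite_subcover (fun x => (V x : Set A)) (fun x => (V x).2)
    (fun x _ => Set.mem_iUnion.2 ⟨x, (hxV x).1⟩)
  refine ⟨⨆ x ∈ t, V x, ?_, ht.trans ?_⟩
  · simp only [TopologicalSpace.Opens.coe_iSup]
    exact t.finite_toSet.isCompact_biUnion fun z _ => (hV z).isCompact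
  · simp only [TopologicalSpace.Opens.coe_iSup]
    rfl

/-- A test scheme which dominates a lift through a flat map. -/
theorem exists_test {Y Y₁ : Sp S} (hY : IsAlgSpace Y) (hY₁ : IsAlgSpace Y₁) {g : Y₁ ⟶ Y}
    (hg : LocP @Flat g) {O : Over S} (hO : IsAffine O.left) (e : (yon S).obj O ⟶ Y)
    (l : (yon S).obj O ⟶ Y₁) (hl : l ≫ g = e) (he : LocP @Flat e) :
    ∃ (T : Over S) (m : T ⟶ O) (k : (yon S).obj T ⟶ Y₁), Flat m.left ∧ Surjective m.left ∧
      QuasiCompact m.left ∧ LocP @Flat k ∧ k ≫ g = (yon S).map m ≫ e := by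
  have sqP := IsPullback.of_hasPullback g e
  have hP : IsAlgSpace (pullback g e) :=
    isAlgSpace_of_isPullback sqP hY.diag hY₁ (IsAlgSpace.yon_obj O)
  obtain ⟨A, α, hα, hαs⟩ := hP.atlas
  let σ : (yon S).obj O ⟶ pullback g e := pullback.lift l (𝟙 _) (by rw [hl, Category.id_comp])
  obtain ⟨W, p, q, sqW⟩ := exists_isPullback_yon hP.diag σ α
  haveI : Etale p.left := repWith_property hα sqW.flip
  haveI : Surjective p.left := repWith_property hαs sqW.flip
  obtain ⟨m, hm⟩ := (yon S).map_surjective (α ≫ pullback.snd g e)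
  have hqm : q ≫ m = p := by
    apply (yon S).map_injective
    rw [Functor.map_comp, hm, ← Category.assoc, ← sqW.w, Category.assoc, pullback.lift_snd, Category.comp_id]
  haveI : Flat m.left := locP_of_isPullback SourceDescent.Scheme.flat hY₁ hY (IsAlgSpace.yon_obj O) sqP hg α
    (𝟙 _) m hα (AlgSp.repWith_id _ _) (by rw [Category.comp_id, hm])
  haveI := hO
  obtain ⟨K, hK, hKs⟩ := exists_compactOpen_surj p.left
  obtain ⟨K', hK', hKK'⟩ := exists_compactOpen_ge (hK.image q.left.continuous)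
  let T : Over S := Over.mk (K'.ι ≫ A.hom)
  let j : T ⟶ A := Over.homMk K'.ι
  haveI : CompactSpace T.left := isCompact_iff_compactSpace.1 hK'
  have hjm : (j ≫ m).left = K'.ι ≫ m.left := rfl
  refine ⟨T, j ≫ m, ((yon S).map j ≫ α) ≫ pullback.fst g e, ?_, ⟨fun z => ?_⟩, ?_, ?_, ?_⟩
  · rw [hjm]
    infer_instance
  · obtain ⟨w, hw, rfl⟩ := hKs z
    refine ⟨⟨q.left w, hKK' ⟨w, hw, rfl⟩⟩, ?_⟩
    change m.left (q.left w) = _
    rw [← Scheme.Hom.comp_apply, ← Over.comp_left, hqm]
  · exact (quasiCompact_iff_compactSpace _).2 inferInstance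
  · have h1 : LocP @Flat (pullback.fst g e) :=
      locP_of_isPullback SourceDescent.Scheme.flat (IsAlgSpace.yon_obj O) hY hY₁ sqP.flip he
    refine locP_comp SourceDescent.Scheme.flat (IsAlgSpace.yon_obj T) hP hY₁ ?_ h1
    haveI : Etale j.left := inferInstanceAs (Etale K'.ι)
    exact locP_of_repWith SourceDescent.Scheme.flat (repWith_mono (repWith_etale_comp j hα)
      (fun _ _ f (_ : Etale f) => (inferInstance : Flat f)))
  · rw [Category.assoc, Category.assoc, pullback.condition, ← Category.assoc α, ← hm, ← Category.assoc,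
      ← Functor.map_comp]

theorem isLocalOnBase : AlgSp.IsLocalOnBase (AlgSp.IsFpqcCover (S := S)) AlgSp.IsLCIMor := by
  intro ι Y Yi g hY hYi hg X f hX Xi p q hXi sq
  refine ⟨fun hf i => locP_lci_of_isPullback hX hY (hYi i) (hg.1 i) (sq i) hf, fun hp => ?_⟩
  obtain ⟨V, b, hb, hbs⟩ := hY.atlas
  have sqV := IsPullback.of_hasPullback f b
  have hXV : IsAlgSpace (pullback f b) :=
    isAlgSpace_of_isPullback sqV hY.diag hX (IsAlgSpace.yon_obj V)
  obtain ⟨U, c, hc, hcs⟩ := hXV.atlas
  obtain ⟨m, hm⟩ := (yon S).map_surjective (c ≫ pullback.snd f b)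
  have : MorphismProperty.IsStableUnderComposition (@Etale : MorphismProperty Scheme.{u}) :=
    ⟨fun f g (_ : Etale f) (_ : Etale g) ↦ inferInstanceAs (Etale (f ≫ g))⟩
  refine locP_lci_of_chart hX.diag hY.diag (a := c ≫ pullback.fst f b) (b := b) (h := m)
    (repWith_comp hc (repWith_baseChange sqV.flip hb))
    (repWith_comp hcs (repWith_baseChange sqV.flip hbs)) hb
    (by rw [hm, Category.assoc, Category.assoc, sqV.w]) ?_
  refine LciScheme.lci_of_cover m.left (fun O : V.left.affineOpens => O.1.toScheme) (fun O => O.1.ι)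
    (fun O => inferInstance) (fun v => ?_) fun O => ?_
  · obtain ⟨A, hA, hvA, -⟩ := exists_isAffineOpen_mem_and_subset (X := V.left) (x := v) (U := ⊤) trivial
    exact ⟨⟨A, hA⟩, ⟨v, hvA⟩, rfl⟩
  let Z : Over S := Over.mk (O.1.ι ≫ V.hom)
  let s : Z ⟶ V := Over.homMk O.1.ι
  haveI hsE : Etale s.left := inferInstanceAs (Etale O.1.ι)
  refine ⟨_, _, _, IsPullback.of_hasPullback _ _, ?_⟩
  obtain ⟨W, w, κ, _, Oj, o, hW, hwf, hws, hOa, hoi, hsurj, hl⟩ :=
    AlgSpFpqc.Cover.exists_refinement hg O.2 ((yon S).map s ≫ b) (Z := Z)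
  haveI := hwf
  haveI := hws
  haveI : IsAffine Z.left := O.2
  haveI := hW
  intro x
  refine KRMorDescent.isKoszulAt_of_baseChange (pullback.snd m.left O.1.ι) w.left
    (pullback.snd (pullback.snd m.left O.1.ι) w.left) (pullback.fst _ _)
    (IsPullback.of_hasPullback _ _) ?_ x
  refine LciScheme.lci_of_cover _ (fun j => (Oj j).left) (fun j => (o j).left) hoi hsurj fun j => ?_
  haveI := hoi j
  refine ⟨_, _, _, IsPullback.of_hasPullback _ _, ?_⟩
  obtain ⟨i, l, hli⟩ := hl j
  haveI : Etale (o j).left := inferInstance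
  haveI : Flat (o j ≫ w).left := by rw [Over.comp_left]; infer_instance
  have he : LocP @Flat ((yon S).map (o j) ≫ (yon S).map w ≫ (yon S).map s ≫ b) := by
    rw [← Category.assoc, ← Category.assoc, ← Functor.map_comp, ← Functor.map_comp]
    haveI : Flat ((o j ≫ w) ≫ s).left := by rw [Over.comp_left]; infer_instance
    refine locP_comp SourceDescent.Scheme.flat (IsAlgSpace.yon_obj _) (IsAlgSpace.yon_obj V) hY
      (locP_of_repWith SourceDescent.Scheme.flat ((AlgSp.repWith_yon_map_iff _ _).2 ‹Flat ((o j ≫ w) ≫ s).left›))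
      (locP_of_repWith SourceDescent.Scheme.flat (repWith_mono hb (fun _ _ f (_ : Etale f) => (inferInstance : Flat f))))
  obtain ⟨T, t, k, htf, hts, htq, hk, hkt⟩ :=
    exists_test hY (hYi i) (hg.1 i) (hOa j) _ l hli he
  haveI := htf
  haveI := hts
  haveI := htq
  let sT : T ⟶ V := ((t ≫ o j) ≫ w) ≫ s
  have hkT : k ≫ g i = (yon S).map sT ≫ b := by
    rw [hkt]
    simp [sT]
  have sq1 := IsPullback.of_hasPullback (pullback.snd f b) ((yon S).map sT)
  have hG : IsAlgSpace (pullback (pullback.snd f b) ((yon S).map sT)) :=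
    isAlgSpace_of_isPullback sq1 (IsAlgSpace.yon_obj V).diag hXV (IsAlgSpace.yon_obj T)
  have sq2 := sq1.paste_horiz sqV
  rw [← hkT] at sq2
  have hT : LocP AlgSp.lci (pullback.snd (pullback.snd f b) ((yon S).map sT)) :=
    locP_lci_of_isPullback (hXi i) (hYi i) (IsAlgSpace.yon_obj T) hk (IsPullback.of_right' sq2 (sq i)) (hp i)
  have hTm := AlgSpFpqc.LocP.chart_baseChange (Q := AlgSp.lci) hc hm.symm sq1 hT
  intro y
  refine KRMorDescent.isKoszulAt_of_baseChange _ t.left
    (pullback.snd _ t.left) (pullback.fst _ _) (IsPullback.of_hasPullback _ _) ?_ y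
  have big := (((IsPullback.of_hasPullback
      (pullback.snd (pullback.snd (pullback.snd m.left O.1.ι) w.left) (o j).left) t.left).paste_horiz
    (IsPullback.of_hasPullback _ (o j).left)).paste_horiz (IsPullback.of_hasPullback _ w.left)).paste_horiz
    (IsPullback.of_hasPullback m.left O.1.ι)
  have small := (IsPullback.of_hasPullback m sT).map (Over.forget S)
  let σ := big.isoIsPullback _ _ small
  have : pullback.snd (pullback.snd (pullback.snd (pullback.snd m.left O.1.ι) w.left) (o j).left) t.left =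
      σ.hom ≫ (pullback.snd m sT).left := (IsPullback.isoIsPullback_hom_snd _ _ big small).symm
  rw [this]
  exact LciScheme.lci_comp _ _ (LciScheme.lci_of_smooth σ.hom) hTm

end Groth.Agent.Lib.Synt92.LciSpace
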