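import Groth.Agent.Lib.Synt92.KoszulH1
import Groth.Agent.Lib.Wiebe.Bridge

/-! Concatenation of acyclic sequences in the cube model. -/

set_option autoImplicit false

universe u

namespace Groth.Agent.Lib.Synt92.CubeComp

open Groth.Agent.Lib.TorObstruction.Cube Groth.Agent.Lib.Wiebe.Exterior Groth.Agent.Lib.Wiebe.Link

variable {Q : Type u} [CommRing Q] {n : ℕ}

/-- The sequence `g` followed by `f`. -/
def app : ∀ {m : ℕ}, (Fin m → Q) → (Fin n → Q) → (Fin (n + m) → Q)
  | 0, _, f => f
  | m + 1, g, f => (Fin.cons (g 0) (app (Fin.tail g) f) : Fin (n + m + 1) → Q)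

theorem ofFn_app : ∀ {m : ℕ} (g : Fin m → Q) (f : Fin n → Q),
    List.ofFn (app g f) = List.ofFn g ++ List.ofFn f
  | 0, _, _ => by simp [app]
  | m + 1, g, f => by
    change List.ofFn (Fin.cons (g 0) (app (Fin.tail g) f) : Fin (n + m + 1) → Q) = _
    rw [List.ofFn_succ, List.ofFn_succ]
    simp only [Fin.cons_zero, Fin.cons_succ, List.cons_append]
    rw [ofFn_app (Fin.tail g) f]
    rfl

theorem range_app : ∀ {m : ℕ} (g : Fin m → Q) (f : Fin n → Q),
    Set.range (app g f) = Set.range g ∪ Set.range f
  | m, g, f => by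
    ext x
    simp only [Set.mem_union, Set.mem_range]
    rw [← List.mem_ofFn, ← List.mem_ofFn, ← List.mem_ofFn, ofFn_app, List.mem_append]

theorem map_app {B : Type u} [CommRing B] (φ : Q → B) : ∀ {m : ℕ} (g : Fin m → Q) (f : Fin n → Q),
    φ ∘ app g f = app (φ ∘ g) (φ ∘ f)
  | m, g, f => List.ofFn_inj.1 (by rw [← List.map_ofFn, ofFn_app, ofFn_app, List.map_append, List.map_ofFn, List.map_ofFn])

variable (Q n) in
/-- Restriction to the coordinates of the first sequence. -/
def res : ∀ m : ℕ, V Q (n + m) →ₗ[Q] V Q m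
  | 0 => LinearMap.pi fun _ => LinearMap.proj (O n)
  | m + 1 => glue ((res m).comp (face false (m := n + m))) ((res m).comp (face true (m := n + m)))

theorem face_res_false (m : ℕ) (z : V Q (n + m + 1)) :
    face false (res Q n (m + 1) z) = res Q n m (face false z) := face_glue _ _ false z

theorem face_res_true (m : ℕ) (z : V Q (n + m + 1)) :
    face true (res Q n (m + 1) z) = res Q n m (face true z) := face_glue _ _ true z

theorem res_O : ∀ (m : ℕ) (z : V Q (n + m)), res Q n m z (O m) = z (O (n + m))
  | 0, _ => rfl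
  | m + 1, z => by
    rw [← cons_O m]
    change face false (res Q n (m + 1) z) (O m) = _
    rw [face_res_false, res_O m]
    exact congrArg z (cons_O (n + m))

theorem app_tail {m : ℕ} (g : Fin (m + 1) → Q) (f : Fin n → Q) :
    Fin.tail (app (m := m + 1) g f : Fin (n + m + 1) → Q) = app (Fin.tail g) f := Fin.tail_cons _ _

theorem app_zero {m : ℕ} (g : Fin (m + 1) → Q) (f : Fin n → Q) :
    (app (m := m + 1) g f : Fin (n + m + 1) → Q) 0 = g 0 := rfl

theorem face_opI_app_false {m : ℕ} (g : Fin (m + 1) → Q) (f : Fin n → Q) (z : V Q (n + m + 1)) :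
    face false (opI (app g f) z) = opI (app (Fin.tail g) f) (face false z) + g 0 • face true z := by
  rw [← app_tail g f]
  exact face_opI_false (app (m := m + 1) g f : Fin (n + m + 1) → Q) z

theorem face_opI_app_true {m : ℕ} (g : Fin (m + 1) → Q) (f : Fin n → Q) (z : V Q (n + m + 1)) :
    face true (opI (app g f) z) = -opI (app (Fin.tail g) f) (face true z) := by
  rw [← app_tail g f]
  exact face_opI_true (app (m := m + 1) g f : Fin (n + m + 1) → Q) z

/-- Gluing two vectors. -/
def pair {m : ℕ} (a b : V Q m) : V Q (m + 1) := fun t => if t 0 then b (Fin.tail t) else a (Fin.tail t)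

theorem face_pair_false {m : ℕ} (a b : V Q m) : face false (pair a b) = a := by
  funext t; simp [face, pair, LinearMap.funLeft_apply]

theorem face_pair_true {m : ℕ} (a b : V Q m) : face true (pair a b) = b := by
  funext t; simp [face, pair, LinearMap.funLeft_apply]

/-- Lifting a vector to the coordinates of the first sequence. -/
theorem exists_res_eq : ∀ (m : ℕ) (v : V Q m), ∃ z : V Q (n + m), res Q n m z = v
  | 0, v => ⟨fun _ => v (O 0), funext fun b => by rw [Subsingleton.elim b (O 0)]; rfl⟩
  | m + 1, v => by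
    obtain ⟨a, ha⟩ := exists_res_eq m (face false v)
    obtain ⟨b, hb⟩ := exists_res_eq m (face true v)
    refine ⟨pair (m := n + m) a b, ext_face ?_ ?_⟩
    · rw [face_res_false, face_pair_false, ha]
    · rw [face_res_true, face_pair_true, hb]

/-- The first component of the differential, modulo the second sequence. -/
theorem res_opI : ∀ {m : ℕ} (g : Fin m → Q) (f : Fin n → Q) (z : V Q (n + m)) (b : Fin m → Bool),
    res Q n m (opI (app g f) z) b - opI g (res Q n m z) b ∈ Ideal.span (Set.range f)
  | 0, g, f, z, b => by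
    have h : opI g (res Q n 0 z) b = 0 := by simp [opI]
    rw [h, sub_zero]
    exact opI_apply_O f z
  | m + 1, g, f, z, b => by
    rw [← Fin.cons_self_tail b]
    cases b 0
    · change face false (res Q n (m + 1) _) _ - face false (opI g _) _ ∈ _
      rw [face_res_false, face_opI_app_false, face_opI_false, face_res_false, face_res_true, map_add, map_smul]
      simpa using res_opI (Fin.tail g) f (face false z) (Fin.tail b)
    · change face true (res Q n (m + 1) _) _ - face true (opI g _) _ ∈ _
      rw [face_res_true, face_opI_app_true, face_opI_true, face_res_true, map_neg, Pi.neg_apply,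
        Pi.neg_apply, neg_sub_neg]
      rw [← neg_sub]
      exact neg_mem (res_opI (Fin.tail g) f (face true z) (Fin.tail b))

/-- Vectors with values in the second ideal are hit by vectors vanishing on the first coordinates. -/
theorem exists_res_opI_eq : ∀ {m : ℕ} (g : Fin m → Q) (f : Fin n → Q) (v : V Q m),
    (∀ b, v b ∈ Ideal.span (Set.range f)) →
    ∃ u : V Q (n + m), res Q n m u = 0 ∧ res Q n m (opI (app g f) u) = v
  | 0, g, f, v, hv => by
    obtain ⟨z, hz, hzO⟩ := exists_preimage_O f (hv (O 0))
    refine ⟨z, funext fun b => hzO, funext fun b => ?_⟩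
    rw [Subsingleton.elim b (O 0)]
    change opI f z (O n) = _
    rw [hz]
    simp [delta]
  | m + 1, g, f, v, hv => by
    obtain ⟨a, ha, ha'⟩ := exists_res_opI_eq (Fin.tail g) f (face false v) fun b => hv _
    obtain ⟨b, hb, hb'⟩ := exists_res_opI_eq (Fin.tail g) f (-face true v) fun b => neg_mem (hv _)
    refine ⟨pair (m := n + m) a b, ext_face ?_ ?_, ext_face ?_ ?_⟩
    · rw [face_res_false, face_pair_false, ha, map_zero]
    · rw [face_res_true, face_pair_true, hb, map_zero]
    · rw [face_res_false, face_opI_app_false, face_pair_false, face_pair_true, map_add, map_smul, ha', hb,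
        smul_zero, add_zero]
    · rw [face_res_true, face_opI_app_true, face_pair_true, map_neg, hb', neg_neg]

/-- Cycles vanishing on the first coordinates are boundaries of such vectors. -/
theorem exists_of_res_eq_zero : ∀ {m : ℕ} (g : Fin m → Q) (f : Fin n → Q), Acyc f →
    ∀ z : V Q (n + m), opI (app g f) z = 0 → res Q n m z = 0 →
      ∃ w, res Q n m w = 0 ∧ opI (app g f) w = z
  | 0, g, f, hf, z, hz, hr => by
    obtain ⟨w, hw⟩ := hf z hz (congrFun hr (O 0))
    refine ⟨w - w (O n) • delta Q n, funext fun b => ?_, ?_⟩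
    · change w (O n) - w (O n) * delta Q n (O n) = 0
      simp [delta]
    · change opI f (w - w (O n) • delta Q n) = z
      rw [map_sub, map_smul, opI_delta, smul_zero, sub_zero, hw]
  | m + 1, g, f, hf, z, hz, hr => by
    have h0 := congrArg (face false (m := n + m)) hz
    have h1 := congrArg (face true (m := n + m)) hz
    rw [face_opI_app_false, map_zero] at h0
    rw [face_opI_app_true, map_zero, neg_eq_zero] at h1
    have r0 := congrArg (face false) hr
    have r1 := congrArg (face true) hr
    rw [face_res_false, map_zero] at r0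
    rw [face_res_true, map_zero] at r1
    obtain ⟨b, hb, hb'⟩ := exists_of_res_eq_zero (Fin.tail g) f hf (face true z) h1 r1
    obtain ⟨a, ha, ha'⟩ := exists_of_res_eq_zero (Fin.tail g) f hf (face false z + g 0 • b)
      (by rw [map_add, map_smul, hb']; exact h0) (by rw [map_add, map_smul, hb, r0, smul_zero, add_zero])
    refine ⟨pair (m := n + m) a (-b), ext_face ?_ ?_, ext_face (m := n + m) ?_ ?_⟩
    · rw [face_res_false, face_pair_false, ha, map_zero]
    · rw [face_res_true, face_pair_true, map_neg, hb, neg_zero, map_zero]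
    · rw [face_opI_app_false, face_pair_false, face_pair_true, ha', smul_neg, add_neg_cancel_right]
    · rw [face_opI_app_true, face_pair_true, map_neg, hb', neg_neg]

theorem exists_lift_vec {B : Type u} [CommRing B] (φ : Q →+* B) (hφ : Function.Surjective φ) {m : ℕ}
    (v : V B m) : ∃ w : V Q m, φ ∘ w = v :=
  ⟨fun b => (hφ (v b)).choose, funext fun b => (hφ (v b)).choose_spec⟩

/-- An acyclic sequence, continued by a sequence acyclic modulo it. -/
theorem acyc_app {B : Type u} [CommRing B] (φ : Q →+* B) (hφ : Function.Surjective φ) {m : ℕ}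
    (g : Fin m → Q) (f : Fin n → Q) (hker : RingHom.ker φ = Ideal.span (Set.range f)) (hf : Acyc f)
    (hg : Acyc (φ ∘ g)) : Acyc (app g f) := by
  intro z hz hzO
  have h1 : opI (φ ∘ g) (φ ∘ res Q n m z) = 0 := by
    rw [Wiebe.Bridge.opI_map]
    funext b
    have h := res_opI g f z b
    rw [hz, map_zero, Pi.zero_apply, zero_sub, neg_mem_iff, ← hker] at h
    exact h
  obtain ⟨w', hw'⟩ := hg _ h1 (by rw [Function.comp_apply, res_O, hzO, map_zero])
  obtain ⟨w₀, rfl⟩ := exists_lift_vec φ hφ w'
  obtain ⟨w, rfl⟩ := exists_res_eq (n := n) m w₀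
  have h2 : ∀ b, res Q n m (z - opI (app g f) w) b ∈ Ideal.span (Set.range f) := fun b => by
    rw [map_sub, Pi.sub_apply]
    have h := res_opI g f w b
    have h' : opI g (res Q n m w) b - res Q n m z b ∈ Ideal.span (Set.range f) := by
      rw [← hker, RingHom.mem_ker, map_sub, sub_eq_zero]
      rw [Wiebe.Bridge.opI_map] at hw'
      exact congrFun hw' b
    rw [show res Q n m z b - res Q n m (opI (app g f) w) b =
      -((res Q n m (opI (app g f) w) b - opI g (res Q n m w) b) + (opI g (res Q n m w) b - res Q n m z b)) by ring]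
    exact neg_mem (add_mem h h')
  obtain ⟨u, hu, hu'⟩ := exists_res_opI_eq g f _ h2
  obtain ⟨v, -, hv⟩ := exists_of_res_eq_zero g f hf (z - opI (app g f) w - opI (app g f) u)
    (by simp [map_sub, hz, opI_opI]) (by rw [map_sub, hu', sub_self])
  exact ⟨w + u + v, by rw [map_add, map_add, hv]; abel⟩

/-- If a sequence and its tail are acyclic, the head is acyclic modulo the tail. -/
theorem acyc_of_app {B : Type u} [CommRing B] (φ : Q →+* B) (hφ : Function.Surjective φ) {m : ℕ}
    (g : Fin m → Q) (f : Fin n → Q) (hker : RingHom.ker φ = Ideal.span (Set.range f)) (hf : Acyc f)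
    (hgf : Acyc (app g f)) : Acyc (φ ∘ g) := by
  intro y hy hyO
  obtain ⟨y₀, rfl⟩ := exists_lift_vec φ hφ y
  obtain ⟨z, rfl⟩ := exists_res_eq (n := n) m y₀
  have hres : ∀ b, res Q n m (opI (app g f) z) b ∈ Ideal.span (Set.range f) := fun b => by
    have h := res_opI g f z b
    have h' : opI g (res Q n m z) b ∈ Ideal.span (Set.range f) := by
      rw [← hker, RingHom.mem_ker]
      rw [Wiebe.Bridge.opI_map] at hy
      exact congrFun hy b
    simpa using add_mem h h'
  obtain ⟨u, hu, hu'⟩ := exists_res_opI_eq g f _ hres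
  obtain ⟨v, hv, hv'⟩ := exists_of_res_eq_zero g f hf (opI (app g f) (z - u)) (opI_opI _ _)
    (by rw [map_sub, map_sub, hu', sub_self])
  -- correct the value at the origin
  have hO : (z - u - v) (O (n + m)) ∈ Ideal.span (Set.range f) := by
    rw [← res_O m (z - u - v), map_sub, map_sub, hu, hv, sub_zero, sub_zero, ← hker]
    exact hyO
  obtain ⟨t, ht, htr⟩ : ∃ t, opI (app g f) t = (z - u - v) (O (n + m)) • delta Q (n + m) ∧
      ∀ b, res Q n m (opI (app g f) t) b ∈ Ideal.span (Set.range f) := by
    obtain ⟨t, ht, -⟩ := exists_preimage_O (app g f) (a := (z - u - v) (O (n + m)))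
      (Ideal.span_mono (by rw [range_app]; exact Set.subset_union_right) hO)
    refine ⟨t, ht, fun b => ?_⟩
    rw [ht, map_smul, Pi.smul_apply, smul_eq_mul]
    exact Ideal.mul_mem_right _ _ hO
  obtain ⟨w, hw⟩ := hgf (z - u - v - opI (app g f) t)
    (by
      have : opI (app g f) (z - u - v) = 0 := by rw [map_sub, hv', sub_self]
      rw [map_sub, this, opI_opI, sub_zero])
    (by rw [Pi.sub_apply, ht]; simp [delta])
  refine ⟨φ ∘ res Q n m w, ?_⟩
  rw [Wiebe.Bridge.opI_map]
  funext b
  change φ (opI g (res Q n m w) b) = φ (res Q n m z b)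
  rw [← sub_eq_zero, ← map_sub, ← RingHom.mem_ker, hker]
  have h := res_opI g f w b
  rw [hw] at h
  simp only [map_sub, hu, hv, Pi.sub_apply, sub_zero] at h
  have := sub_mem (neg_mem h) (htr b)
  convert this using 1
  ring

end Groth.Agent.Lib.Synt92.CubeComp
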