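import Groth.Agent.Lib.Synt92.KRGens
import Groth.Agent.Lib.Synt92.SmoothAmbient
import Groth.Agent.Lib.Synt92.MorStd
import Groth.Agent.Lib.Regular.Quotient
import Mathlib.RingTheory.Spectrum.Prime.Chevalley
import Mathlib.RingTheory.Ideal.GoingDown
import Mathlib.RingTheory.Flat.FaithfullyFlat.Algebra

/-! Koszul-regular ideals along smooth maps with a surjection. -/

set_option autoImplicit false

universe u

open IsLocalRing RingTheory.Sequence TensorProduct

namespace Groth.Agent.Lib.Synt92.KRSmooth

open Groth.Agent.Lib.Wiebe.Link KRLoc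

/-- The kernel of the base change to a quotient. -/
theorem ker_includeRight {A B C : Type u} [CommRing A] [CommRing B] [CommRing C] [Algebra A B] [Algebra A C]
    (hAC : Function.Surjective (algebraMap A C)) :
    RingHom.ker (Algebra.TensorProduct.includeRight : B →ₐ[A] C ⊗[A] B).toRingHom =
      (RingHom.ker (algebraMap A C)).map (algebraMap A B) := by
  let inc : B →ₐ[A] C ⊗[A] B := Algebra.TensorProduct.includeRight
  change RingHom.ker inc.toRingHom = _
  let IB := (RingHom.ker (algebraMap A C)).map (algebraMap A B)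
  have hle : RingHom.ker (algebraMap A C) ≤ RingHom.ker ((Ideal.Quotient.mk IB).comp (algebraMap A B)) :=
    fun a ha => Ideal.Quotient.eq_zero_iff_mem.2 (Ideal.mem_map_of_mem _ ha)
  let θ : C →+* B ⧸ IB := RingHom.liftOfSurjective (algebraMap A C) hAC ⟨_, hle⟩
  let θA : C →ₐ[A] B ⧸ IB := { θ with commutes' := fun a =>
    RingHom.liftOfRightInverse_comp_apply _ _ (Function.rightInverse_surjInv hAC) ⟨_, hle⟩ a }
  refine le_antisymm (fun b hb => ?_) (Ideal.map_le_iff_le_comap.2 fun a ha => ?_)
  · have h0 := congrArg (Algebra.TensorProduct.lift θA (Ideal.Quotient.mkₐ A IB) fun _ _ => mul_comm _ _)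
      (show inc b = 0 from hb)
    rw [map_zero] at h0
    simp [inc] at h0
    exact Ideal.Quotient.eq_zero_iff_mem.1 h0
  · change inc (algebraMap A B a) = 0
    rw [inc.commutes, Algebra.TensorProduct.algebraMap_apply, show algebraMap A C a = 0 from ha, TensorProduct.zero_tmul]

/-- A Koszul-regular kernel below gives one upstairs. -/
theorem genLoc_up {A B C : Type u} [CommRing A] [CommRing B] [CommRing C] [Algebra A B] [Algebra A C]
    [Algebra.Smooth A B] (hAC : Function.Surjective (algebraMap A C)) (ψ : B →ₐ[A] C)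
    (Q : Ideal B) [Q.IsPrime] (hQ : RingHom.ker ψ.toRingHom ≤ Q) {n : ℕ}
    (h : GenLoc n (RingHom.ker (algebraMap A C)) (Q.under A)) :
    ∃ m, GenLoc (n + m) (RingHom.ker ψ.toRingHom) Q := by
  let inc : B →ₐ[A] C ⊗[A] B := Algebra.TensorProduct.includeRight
  have hinc : Function.Surjective inc := Algebra.TensorProduct.includeRight_surjective B hAC
  have hk : RingHom.ker inc.toRingHom = (RingHom.ker (algebraMap A C)).map (algebraMap A B) :=
    ker_includeRight hAC
  let ψC : C ⊗[A] B →ₐ[C] C :=
    Algebra.TensorProduct.lift (AlgHom.id C C) ψ fun _ _ => mul_comm _ _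
  have hψC : ∀ b, ψC (inc b) = ψ b := fun b => by simp [ψC, inc]
  have hψCs : Function.Surjective ψC := fun c => ⟨c ⊗ₜ 1, by simp [ψC]⟩
  let Q' := Q.map inc.toRingHom
  have hkQ : RingHom.ker inc.toRingHom ≤ Q := fun b hb => hQ (by
    change ψ b = 0
    rw [← hψC, show inc b = 0 from hb, map_zero])
  haveI : Q'.IsPrime := Ideal.map_isPrime_of_surjective hinc hkQ
  have hQ' : Q'.comap inc.toRingHom = Q := by
    rw [Ideal.comap_map_of_surjective inc.toRingHom hinc, ← RingHom.ker_eq_comap_bot]
    exact sup_eq_left.2 hkQ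
  -- syntomicity of the section
  have hsyn : Synt.IsSyntomic C ((C ⊗[A] B) ⧸ RingHom.ker ψC.toRingHom) :=
    MorStd.isSyntomic_of_arrow (RingEquiv.refl C) (RingHom.quotientKerEquivOfSurjective hψCs)
      (fun c => ψC.commutes c) (isSyntomic_of_smooth C C)
  obtain ⟨g, hg, l, hl, hreg, hgl⟩ := SmoothAmbient.exists_chart (RingHom.ker ψC.toRingHom) hsyn Q'
    fun x hx => by
      obtain ⟨b, rfl⟩ := hinc x
      exact Ideal.mem_map_of_mem _ (hQ ((hψC b).symm.trans hx))
  refine ⟨l.length, ?_⟩
  have hup : GenLoc l.length (RingHom.ker ψC.toRingHom) Q' := by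
    refine ⟨g, hg, ?_⟩
    let lg := l.map (algebraMap _ (Localization.Away g))
    have hw : Acyc (fun i : Fin l.length => algebraMap _ (Localization.Away g) (l.get i)) :=
      CubeBase.acyc_of_isWeaklyRegular _ (by
        rw [show (fun i : Fin l.length => algebraMap _ (Localization.Away g) (l.get i)) =
          algebraMap _ (Localization.Away g) ∘ l.get from rfl, ← List.map_ofFn, List.ofFn_get]
        exact hreg)
    refine ⟨_, hw, ?_⟩
    rw [show (Set.range fun i : Fin l.length => algebraMap _ (Localization.Away g) (l.get i)) =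
      algebraMap _ (Localization.Away g) '' Set.range l.get from Set.range_comp _ _,
      ← Ideal.map_span, Set.range_list_get]
    refine le_antisymm (Ideal.map_le_iff_le_comap.2 fun y hy => ?_) (Ideal.map_mono (Ideal.span_le.2 hl))
    have h1 := Ideal.mem_map_of_mem (algebraMap _ (Localization.Away g)) (hgl y hy)
    rw [map_mul] at h1
    have hu : IsUnit (algebraMap _ (Localization.Away g) g) := IsLocalization.Away.algebraMap_isUnit g
    exact (Ideal.unit_mul_mem_iff_mem _ hu).1 h1
  have hdown : GenLoc n (RingHom.ker inc.toRingHom) (Q'.comap inc.toRingHom) := by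
    rw [hQ', hk]
    obtain ⟨a, ha, hgen⟩ := h
    let S := Localization.Away (algebraMap A B a)
    haveI : Module.Flat B S := IsLocalization.flat _ (Submonoid.powers (algebraMap A B a))
    haveI : Module.Flat A S := Module.Flat.trans A B S
    refine ⟨algebraMap A B a, ha, ?_⟩
    rw [Ideal.map_map, ← IsScalarTower.algebraMap_eq]
    refine gen_of_isUnit a (Localization.Away a) hgen S ?_
    rw [IsScalarTower.algebraMap_apply A B S]
    exact IsLocalization.Away.algebraMap_isUnit _
  have := genLoc_comp inc.toRingHom hinc Q' hdown hup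
  rw [hQ'] at this
  convert this using 1
  rw [RingHom.comap_ker]
  exact congrArg RingHom.ker (RingHom.ext fun b => (hψC b).symm)


/-- An equation between generators in a local ring holds on a basic open. -/
theorem exists_spread {B : Type u} [CommRing B] (Q : Ideal B) [Q.IsPrime] {n : ℕ} (g₀ : B) (hg₀ : g₀ ∉ Q)
    (f F : Fin n → B) (hf : Acyc (algebraMap B (Localization.Away g₀) ∘ f))
    (Cm : Matrix (Fin n) (Fin n) (Localization.AtPrime Q)) (hC : IsUnit Cm.det)
    (hF : algebraMap B (Localization.AtPrime Q) ∘ F = Cm.mulVec (algebraMap B (Localization.AtPrime Q) ∘ f)) :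
    ∃ h, h ∉ Q ∧ IsUnit (algebraMap B (Localization.Away h) g₀) ∧
      Acyc (algebraMap B (Localization.Away h) ∘ F) ∧
      Ideal.span (Set.range (algebraMap B (Localization.Away h) ∘ F)) =
        Ideal.span (Set.range (algebraMap B (Localization.Away h) ∘ f)) := by
  classical
  let ι := algebraMap B (Localization.AtPrime Q)
  obtain ⟨s, hs⟩ := IsLocalization.exist_integer_multiples_of_finite Q.primeCompl
    (fun x : Fin n × Fin n => Cm x.1 x.2)
  choose D' hD' using hs
  let D : Matrix (Fin n) (Fin n) B := fun i j => D' (i, j)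
  have hD : ∀ i j, ι (D i j) = ι s.1 * Cm i j := fun i j => (hD' (i, j)).trans (Algebra.smul_def _ _)
  have he : ∀ i, ι (s.1 * F i) = ι (∑ j, D i j * f j) := fun i => by
    rw [map_mul, map_sum]
    simp only [map_mul, hD, mul_assoc]
    rw [← Finset.mul_sum]
    exact congrArg _ (congrFun hF i)
  choose t ht using fun i => IsLocalization.exists_of_eq (M := Q.primeCompl) (he i)
  have hdet : D.det ∉ Q := by
    refine (IsLocalization.AtPrime.isUnit_to_map_iff (Localization.AtPrime Q) Q D.det).1 ?_
    change IsUnit (ι D.det)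
    rw [RingHom.map_det, show ι.mapMatrix D = ι s.1 • Cm from Matrix.ext hD, Matrix.det_smul]
    exact ((IsLocalization.map_units _ s).pow _).mul hC
  refine ⟨g₀ * s.1 * (∏ i, (t i).1) * D.det, ?_, ?_⟩
  · exact Q.primeCompl.mul_mem (Q.primeCompl.mul_mem (Q.primeCompl.mul_mem hg₀ s.2)
      (Submonoid.prod_mem _ fun i _ => (t i).2)) hdet
  set h := g₀ * s.1 * (∏ i, (t i).1) * D.det
  let σ := algebraMap B (Localization.Away h)
  have hu : ∀ x, x ∣ h → IsUnit (σ x) := fun x hx =>
    isUnit_of_dvd_unit (map_dvd σ hx) (IsLocalization.Away.algebraMap_isUnit h)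
  have hug : IsUnit (σ g₀) := hu _ ((dvd_mul_right g₀ s.1).mul_right _ |>.mul_right _)
  have hus : IsUnit (σ s.1) := hu _ ((dvd_mul_left s.1 g₀).mul_right _ |>.mul_right _)
  refine ⟨hug, ?_⟩
  let φ : Localization.Away g₀ →+* Localization.Away h := IsLocalization.Away.lift g₀ hug
  have hφ : φ.comp (algebraMap B _) = σ := IsLocalization.Away.lift_comp _ _
  have hφf : φ.Flat := by
    letI := φ.toAlgebra
    haveI : IsScalarTower B (Localization.Away g₀) (Localization.Away h) :=
      IsScalarTower.of_algebraMap_eq' hφ.symm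
    exact (Module.flat_iff_of_isLocalization (Localization.Away g₀) (Submonoid.powers g₀)
      (M := Localization.Away h)).2 (IsLocalization.flat _ (Submonoid.powers h))
  have hfS : Acyc (σ ∘ f) := by
    have := CubeBase.acyc_flat_ringHom φ hφf _ hf
    rwa [← Function.comp_assoc, ← RingHom.coe_comp, hφ] at this
  refine KRGens.acyc_and_span_of_mulVec ((↑(hus.unit⁻¹) : Localization.Away h) • σ.mapMatrix D) ?_ _ _
    (funext fun i => ?_) hfS
  · rw [Matrix.det_smul, ← RingHom.map_det]
    exact (Units.isUnit _).pow _ |>.mul (hu _ (dvd_mul_left _ _))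
  · have h1 := congrArg σ (ht i)
    simp only [map_mul, map_sum] at h1
    have h2 := (hu _ ((Finset.dvd_prod_of_mem (fun i => (t i).1) (Finset.mem_univ i)).mul_left _ |>.mul_right _)).mul_left_cancel h1
    rw [Matrix.smul_mulVec, Pi.smul_apply, smul_eq_mul]
    change σ (F i) = _ * ∑ j, σ (D i j) * σ (f j)
    rw [← h2, ← mul_assoc, IsUnit.val_inv_mul, one_mul]

section Down

open Groth.Agent.H20.FibreDimBC (fdim fibrePoint comap_fibrePoint)
open CubeComp

variable {A B C : Type u} [CommRing A] [CommRing B] [CommRing C] [Algebra A B] [Algebra A C]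
  (hAC : Function.Surjective (algebraMap A C)) (ψ : B →ₐ[A] C)

/-- The quotient of a localisation by a sequence with flat local quotients is flat. -/
theorem flat_quotient {h : B} {d : ℕ} (b : Fin d → B)
    (H : ∀ (q : Ideal B) [q.IsPrime], h ∉ q → (∀ f ∈ List.ofFn b, f ∈ q) →
      Module.Flat A (Localization.AtPrime q ⧸ Ideal.ofList ((List.ofFn b).map (algebraMap B (Localization.AtPrime q))))) :
    Module.Flat A (Localization.Away h ⧸ Ideal.span (Set.range (algebraMap B (Localization.Away h) ∘ b))) := by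
  set S := Localization.Away h
  set N : Submodule S S := Ideal.span (Set.range (algebraMap B S ∘ b)) with hN
  refine Module.flat_of_isLocalized_maximal (R := A) (S := S) (S ⧸ N)
    (fun (m : Ideal S) (_ : m.IsMaximal) => Localization.AtPrime m ⧸
      Submodule.localized' (Localization.AtPrime m) m.primeCompl (Algebra.linearMap S (Localization.AtPrime m)) N)
    (fun (m : Ideal S) (_ : m.IsMaximal) => N.toLocalizedQuotient' (Localization.AtPrime m) m.primeCompl
      (Algebra.linearMap S (Localization.AtPrime m))) fun m hm => ?_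
  haveI := hm.isPrime
  have e0 : Submodule.localized' (Localization.AtPrime m) m.primeCompl (Algebra.linearMap S _) N =
      (Ideal.span (Set.range (algebraMap B S ∘ b))).map (algebraMap S (Localization.AtPrime m)) :=
    Ideal.localized'_eq_map _ _ _
  have e1 : (Ideal.span (Set.range (algebraMap B S ∘ b))).map (algebraMap S (Localization.AtPrime m)) =
      (Ideal.ofList (List.ofFn b)).map (algebraMap B (Localization.AtPrime m)) := by
    rw [IsScalarTower.algebraMap_eq B S (Localization.AtPrime m), ← Ideal.map_map]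
    congr 1
    rw [Ideal.map_ofList, List.map_ofFn, span_range_eq_ofList]
  let q := m.comap (algebraMap B S)
  haveI : q.IsPrime := Ideal.IsPrime.comap _
  by_cases hall : ∀ f ∈ List.ofFn b, f ∈ q
  · have hgq : h ∉ q := fun hh => Ideal.IsPrime.ne_top ‹m.IsPrime›
      (Ideal.eq_top_of_isUnit_mem _ hh (IsLocalization.Away.algebraMap_isUnit h))
    haveI : IsLocalization.AtPrime (Localization.AtPrime m) q := by
      simpa only [IsLocalization.AtPrime, Ideal.under] using
        IsLocalization.isLocalization_isLocalization_atPrime_isLocalization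
          (Submonoid.powers h) (Localization.AtPrime m) m
    let e := IsLocalization.algEquiv q.primeCompl (Localization.AtPrime q) (Localization.AtPrime m)
    haveI := H q hgq hall
    refine Module.Flat.of_linearEquiv (R := A)
      (Ideal.quotientEquivAlg (R₁ := A) (Ideal.ofList ((List.ofFn b).map (algebraMap B (Localization.AtPrime q))))
        (Submodule.localized' (Localization.AtPrime m) m.primeCompl (Algebra.linearMap S _) N)
        (e.restrictScalars A) ?_).symm.toLinearEquiv
    rw [e0, e1, Ideal.map_ofList, Ideal.map_ofList, List.map_map]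
    congr 1
    exact List.map_congr_left fun x _ => (e.commutes x).symm
  · push Not at hall
    obtain ⟨f, hf, hfq⟩ := hall
    have htop : Submodule.localized' (Localization.AtPrime m) m.primeCompl (Algebra.linearMap S (Localization.AtPrime m)) N = ⊤ := by
      rw [e0, e1]
      refine Ideal.eq_top_of_isUnit_mem _ (Ideal.mem_map_of_mem _ (Ideal.subset_span hf)) ?_
      rw [IsScalarTower.algebraMap_apply B S (Localization.AtPrime m)]
      exact IsLocalization.map_units (Localization.AtPrime m) (⟨_, hfq⟩ : m.primeCompl)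
    haveI : Subsingleton (Localization.AtPrime m ⧸ Submodule.localized' (Localization.AtPrime m) m.primeCompl (Algebra.linearMap S _) N) :=
      Submodule.Quotient.subsingleton_iff.2 htop
    infer_instance

section Data

/-- A Koszul-regular ideal upstairs gives one below, given a sequence regular in the fibre which
together with the ideal below generates it. -/
theorem genLoc_down_of_data {A B : Type u} [CommRing A] [CommRing B] [Algebra A B] [Algebra.Smooth A B]
    (I : Ideal A) (J : Ideal B) (hIJ : ∀ a ∈ I, algebraMap A B a ∈ J) (Q : Ideal B) [Q.IsPrime]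
    (hQ : J ≤ Q) {r : ℕ} (hr : GenLoc r J Q) {d : ℕ} (b : Fin d → B) (hbJ : ∀ i, b i ∈ J)
    (hwL : IsWeaklyRegular (Localization.AtPrime Q ⧸ (Q.under A).map (algebraMap A (Localization.AtPrime Q)))
      ((List.ofFn b).map (algebraMap B
        (Localization.AtPrime Q ⧸ (Q.under A).map (algebraMap A (Localization.AtPrime Q))))))
    (hgenJ : ∀ y ∈ J, ∃ s, s ∉ Q ∧ s * y ∈ I.map (algebraMap A B) ⊔ Ideal.span (Set.range b) ⊔
      (Q.under A).map (algebraMap A B) * J) :
    ∃ e, GenLoc e I (Q.under A) := by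
  classical
  haveI : Algebra.FiniteType A B := inferInstance
  set p := Q.under A with hp
  let BQ := Localization.AtPrime Q
  let L := BQ ⧸ p.map (algebraMap A BQ)
  obtain ⟨g₀, hg₀, hgen⟩ := hr
  obtain ⟨f, hf, hJ⟩ := KRGens.exists_numerators g₀ (Localization.Away g₀) hgen
  haveI : Nontrivial L := Ideal.Quotient.nontrivial_iff.2 (fun h => by
    have h1 : p.map (algebraMap A BQ) ≤ maximalIdeal BQ := by
      rw [← Localization.AtPrime.map_eq_maximalIdeal, Ideal.map_le_iff_le_comap]
      intro a ha
      rw [Ideal.mem_comap, IsScalarTower.algebraMap_apply A B BQ]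
      exact Ideal.mem_map_of_mem _ ha
    exact (IsLocalRing.maximalIdeal.isMaximal BQ).ne_top (top_le_iff.1 (h ▸ h1)))
  haveI : IsLocalRing L := IsLocalRing.of_surjective' (Ideal.Quotient.mk _) Ideal.Quotient.mk_surjective
  let μ : BQ →+* L := Ideal.Quotient.mk (p.map (algebraMap A BQ))
  haveI : IsLocalHom μ := IsLocalHom.of_surjective _ Ideal.Quotient.mk_surjective
  let πL : B →+* L := μ.comp (algebraMap B BQ)
  have hμm : ∀ x, μ x ∈ maximalIdeal L ↔ x ∈ maximalIdeal BQ := fun x => by
    simp only [mem_maximalIdeal, mem_nonunits_iff]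
    exact not_congr ⟨fun h => isUnit_of_map_unit μ x h, fun h => h.map μ⟩
  have hπm : ∀ x, πL x ∈ maximalIdeal L ↔ x ∈ Q := fun x => by
    rw [show πL x = μ (algebraMap B BQ x) from rfl, hμm]
    exact IsLocalization.AtPrime.to_map_mem_maximal_iff BQ Q x
  have hπp : ∀ a ∈ p, πL (algebraMap A B a) = 0 := fun a ha => by
    change μ (algebraMap B BQ (algebraMap A B a)) = 0
    rw [← IsScalarTower.algebraMap_apply]
    exact Ideal.Quotient.eq_zero_iff_mem.2 (Ideal.mem_map_of_mem _ ha)
  have hrsA : Acyc (πL ∘ b) := CubeBase.acyc_of_isWeaklyRegular _ (by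
    rw [← List.map_ofFn]; exact hwL)
  have hbm : Ideal.span (Set.range (πL ∘ b)) ≤ maximalIdeal L :=
    Ideal.span_le.2 (by rintro _ ⟨i, rfl⟩; exact (hπm _).2 (hQ (hbJ i)))
  have hJL : J.map πL ≤ Ideal.span (Set.range (πL ∘ b)) := by
    refine Ideal.map_le_iff_le_comap.2 fun y hy => ?_
    obtain ⟨s, hs, hsy⟩ := hgenJ y hy
    have hle : I.map (algebraMap A B) ⊔ Ideal.span (Set.range b) ⊔ p.map (algebraMap A B) * J ≤
        (Ideal.span (Set.range (πL ∘ b))).comap πL := by
      refine sup_le (sup_le ?_ ?_) ?_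
      · refine Ideal.map_le_iff_le_comap.2 fun a ha => ?_
        rw [Ideal.mem_comap, Ideal.mem_comap, hπp a (hQ (hIJ a ha))]
        exact zero_mem _
      · refine Ideal.span_le.2 ?_
        rintro _ ⟨i, rfl⟩
        exact Ideal.subset_span ⟨i, rfl⟩
      · refine Ideal.mul_le_left.trans (Ideal.map_le_iff_le_comap.2 fun a ha => ?_)
        rw [Ideal.mem_comap, Ideal.mem_comap, hπp a ha]
        exact zero_mem _
    have h2 := hle hsy
    rw [Ideal.mem_comap, map_mul] at h2
    have hsu : IsUnit (πL s) := (IsLocalization.map_units BQ (⟨s, hs⟩ : Q.primeCompl)).map μ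
    exact (Ideal.unit_mul_mem_iff_mem _ hsu).1 h2
  -- regularity and flatness nearby
  obtain ⟨g₁, hg₁, hnhd⟩ := SpreadReg.exists_weaklyRegular_nhd
    (fun p' Q => KoszulFlat.isRegularLocalRing_of_smooth p'.asIdeal.ResidueField (p'.asIdeal.Fiber B) Q.asIdeal)
    SmoothAmbient.isLocallyConstant_fdim Q (List.ofFn b)
    (fun x hx => by obtain ⟨i, rfl⟩ := List.mem_ofFn.1 hx; exact hQ (hbJ i)) hwL
  -- generators in the local ring
  let fQ : Fin r → BQ := algebraMap B BQ ∘ f
  let φ₀ : Localization.Away g₀ →+* BQ := IsLocalization.Away.lift g₀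
    (g := algebraMap B BQ) (IsLocalization.map_units BQ (⟨g₀, hg₀⟩ : Q.primeCompl))
  have hφ₀ : φ₀.comp (algebraMap B _) = algebraMap B BQ := IsLocalization.Away.lift_comp _ _
  have hφ₀f : φ₀.Flat := by
    letI := φ₀.toAlgebra
    haveI : IsScalarTower B (Localization.Away g₀) BQ := IsScalarTower.of_algebraMap_eq' hφ₀.symm
    exact (Module.flat_iff_of_isLocalization (Localization.Away g₀) (Submonoid.powers g₀) (M := BQ)).2
      (IsLocalization.flat BQ Q.primeCompl)
  have hfQ : Acyc fQ := by
    have := CubeBase.acyc_flat_ringHom φ₀ hφ₀f _ hf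
    rwa [← Function.comp_assoc, ← RingHom.coe_comp, hφ₀] at this
  have hJQ : J.map (algebraMap B BQ) = Ideal.span (Set.range fQ) := by
    rw [← hφ₀, ← Ideal.map_map, hJ, Ideal.map_span, ← Set.range_comp, ← Function.comp_assoc, ← RingHom.coe_comp, hφ₀]
  let T : Set BQ := algebraMap A BQ '' (I : Set A)
  obtain ⟨e, a, hdr, Cm, haT, hCdet, hCm⟩ := KRGens.exists_completion fQ hfQ
    (fun i => by
      have h1 : fQ i ∈ J.map (algebraMap B BQ) := hJQ ▸ Ideal.subset_span ⟨i, rfl⟩
      rw [← Localization.AtPrime.map_eq_maximalIdeal]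
      exact Ideal.map_mono hQ h1)
    T (algebraMap B BQ ∘ b)
    (by
      rintro _ ⟨x, hx, rfl⟩
      rw [← hJQ, IsScalarTower.algebraMap_apply A B BQ]
      exact Ideal.mem_map_of_mem _ (hIJ x hx))
    (fun i => hJQ ▸ Ideal.mem_map_of_mem _ (hbJ i))
    (by
      rw [← hJQ, Ideal.map_le_iff_le_comap]
      intro y hy
      obtain ⟨s, hs, hsy⟩ := hgenJ y hy
      obtain ⟨u, hu, w, hw, huw⟩ := Submodule.mem_sup.1 hsy
      obtain ⟨i₀, hi₀, β, hβ, hib⟩ := Submodule.mem_sup.1 hu
      rw [Ideal.mem_comap]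
      refine (Ideal.unit_mul_mem_iff_mem _ (IsLocalization.map_units BQ (⟨s, hs⟩ : Q.primeCompl))).1 ?_
      rw [← map_mul, ← huw, ← hib, map_add, map_add, Ideal.span_union]
      have hpm : (p.map (algebraMap A B)).map (algebraMap B BQ) ≤ maximalIdeal BQ := by
        rw [← Localization.AtPrime.map_eq_maximalIdeal]
        exact Ideal.map_mono (Ideal.map_le_iff_le_comap.2 le_rfl)
      refine add_mem (add_mem (Ideal.mem_sup_left (Ideal.mem_sup_left ?_)) (Ideal.mem_sup_left (Ideal.mem_sup_right ?_)))
        (Ideal.mem_sup_right ?_)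
      · have h4 := Ideal.mem_map_of_mem (algebraMap B BQ) hi₀
        rw [Ideal.map_map, ← IsScalarTower.algebraMap_eq] at h4
        exact (Ideal.map_le_iff_le_comap.2 fun z hz => Ideal.subset_span ⟨z, hz, rfl⟩ :
          I.map (algebraMap A BQ) ≤ Ideal.span T) h4
      · rw [Set.range_comp, ← Ideal.map_span]
        exact Ideal.mem_map_of_mem _ hβ
      · have h4 := Ideal.mem_map_of_mem (algebraMap B BQ) hw
        rw [Ideal.map_mul] at h4
        exact Ideal.mul_mono_left hpm h4)
    (fun c hc i => (hμm _).1 <| by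
      have h1 : μ (∑ i, c i * algebraMap B BQ (b i)) ∈ maximalIdeal L * Ideal.span (Set.range (πL ∘ b)) := by
        have h2 := Ideal.mem_map_of_mem μ hc
        rw [Ideal.map_mul] at h2
        have h5 : (maximalIdeal BQ).map μ ≤ maximalIdeal L := Ideal.map_le_iff_le_comap.2 fun z hz => (hμm z).2 hz
        refine Ideal.mul_mono h5 ?_ h2
        rw [← hJQ, Ideal.map_map]
        exact hJL
      rw [map_sum] at h1
      simp only [map_mul] at h1
      obtain ⟨ν, hν, hνs⟩ : ∃ ν : Fin d → L, (∀ i, ν i ∈ maximalIdeal L) ∧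
          ∑ i, ν i * πL (b i) = ∑ i, μ (c i) * πL (b i) := by
        refine Submodule.mul_induction_on h1 (fun q hq x hx => ?_) ?_
        · obtain ⟨c'', rfl⟩ := Ideal.mem_span_range_iff_exists_fun.1 hx
          exact ⟨fun i => q * c'' i, fun i => Ideal.mul_mem_right _ _ hq, by
            rw [Finset.mul_sum]; exact Finset.sum_congr rfl fun i _ => mul_assoc _ _ _⟩
        · rintro _ _ ⟨c₁, hc₁, rfl⟩ ⟨c₂, hc₂, rfl⟩
          exact ⟨c₁ + c₂, fun i => add_mem (hc₁ i) (hc₂ i), by simp [add_mul, Finset.sum_add_distrib]⟩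
      have h3 := CubeBase.mem_span_of_relation hrsA (c := fun i => μ (c i) - ν i)
        (by simp [sub_mul, Finset.sum_sub_distrib, hνs]) i
      simpa using add_mem (hbm h3) (hν i))
  -- lift the new generators and spread out
  choose aA haI haA using haT
  subst hdr
  let F : Fin (d + e) → B := app (algebraMap A B ∘ aA) b
  have hF : algebraMap B BQ ∘ F = Cm.mulVec fQ := by
    rw [show (Fin.cast rfl : Fin (d + e) → Fin (d + e)) = id from funext fun _ => rfl,
      Function.comp_id] at hCm
    rw [← hCm]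
    refine (map_app (algebraMap B BQ) _ b).trans (congrArg (fun z => app z _) (funext fun i => ?_))
    exact ((IsScalarTower.algebraMap_apply A B BQ _).symm.trans (haA i))
  obtain ⟨h₂, hh₂, hg₀h, hAF, hspF⟩ := exists_spread Q g₀ hg₀ f F hf Cm hCdet hF
  let h := h₂ * g₁
  have hh : h ∉ Q := fun h' => (Ideal.IsPrime.mem_or_mem inferInstance h').elim hh₂ hg₁
  let S := Localization.Away h
  let σ := algebraMap B S
  have hu₂ : IsUnit (σ h₂) := isUnit_of_mul_isUnit_left (y := σ g₁)
    (by rw [← map_mul]; exact IsLocalization.Away.algebraMap_isUnit _)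
  haveI : Module.Flat B S := IsLocalization.flat _ (Submonoid.powers h)
  let φ₂ : Localization.Away h₂ →+* S := IsLocalization.Away.lift h₂ hu₂
  have hφ₂ : φ₂.comp (algebraMap B _) = σ := IsLocalization.Away.lift_comp _ _
  have hφ₂f : φ₂.Flat := by
    letI := φ₂.toAlgebra
    haveI : IsScalarTower B (Localization.Away h₂) S := IsScalarTower.of_algebraMap_eq' hφ₂.symm
    exact (Module.flat_iff_of_isLocalization (Localization.Away h₂) (Submonoid.powers h₂) (M := S)).2 ‹_›
  have hFS : Acyc (σ ∘ F) := by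
    have := CubeBase.acyc_flat_ringHom φ₂ hφ₂f _ hAF
    rwa [← Function.comp_assoc, ← RingHom.coe_comp, hφ₂] at this
  have hJS : J.map σ = Ideal.span (Set.range (σ ∘ F)) := by
    let φ₃ : Localization.Away g₀ →+* Localization.Away h₂ := IsLocalization.Away.lift g₀ hg₀h
    have hφ₃ : φ₃.comp (algebraMap B _) = algebraMap B (Localization.Away h₂) := IsLocalization.Away.lift_comp _ _
    rw [← hφ₂, ← Ideal.map_map, ← hφ₃, ← Ideal.map_map, hJ, Ideal.map_span, Ideal.map_span]
    rw [show φ₃ '' Set.range (algebraMap B (Localization.Away g₀) ∘ f) = Set.range (algebraMap B (Localization.Away h₂) ∘ f) by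
      rw [← Set.range_comp, ← Function.comp_assoc, ← RingHom.coe_comp, hφ₃]]
    rw [← Ideal.map_span, ← hspF, Ideal.map_span, ← Set.range_comp, ← Function.comp_assoc, ← RingHom.coe_comp, hφ₃, hφ₂]
  have hwS : IsWeaklyRegular S ((List.ofFn b).map σ) := SmoothAmbient.isWeaklyRegular_away h _
    fun q _ hq => (hnhd q fun h' => hq (q.mul_mem_left _ h')).1
  have hbS : Acyc (σ ∘ b) := CubeBase.acyc_of_isWeaklyRegular _ (by rw [← List.map_ofFn]; exact hwS)
  let Ib := Ideal.span (Set.range (σ ∘ b))
  haveI : Module.Flat A (S ⧸ Ib) :=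
    flat_quotient b fun q _ hq hall => (hnhd q fun h' => hq (q.mul_mem_left _ h')).2 hall
  haveI : Algebra.FinitePresentation B S := IsLocalization.Away.finitePresentation h
  haveI : Algebra.FinitePresentation A S := Algebra.FinitePresentation.trans A B S
  haveI : Algebra.FinitePresentation A (S ⧸ Ib) :=
    Algebra.FinitePresentation.quotient (Submodule.fg_span (Set.finite_range _))
  have hmap : σ ∘ F = app (algebraMap A S ∘ aA) (σ ∘ b) := by
    rw [map_app]
    rfl
  have hāA : Acyc (Ideal.Quotient.mk Ib ∘ (algebraMap A S ∘ aA)) :=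
    acyc_of_app (Ideal.Quotient.mk Ib) Ideal.Quotient.mk_surjective _ _ Ideal.mk_ker hbS (hmap ▸ hFS)
  -- the image is a neighbourhood
  have hopen := PrimeSpectrum.isOpenMap_comap_of_hasGoingDown_of_finitePresentation (R := A) (S := S ⧸ Ib)
  have hIbQ : Ib ≤ Q.map σ := by
    refine Ideal.span_le.2 ?_
    rintro _ ⟨i, rfl⟩
    exact Ideal.mem_map_of_mem _ (hQ (hbJ i))
  have hdisj : Disjoint (Submonoid.powers h : Set B) Q := by
    rw [Ideal.disjoint_powers_iff_notMem _ (Ideal.IsPrime.isRadical inferInstance)]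
    exact hh
  haveI := IsLocalization.isPrime_of_isPrime_disjoint (Submonoid.powers h) S Q inferInstance hdisj
  haveI : ((Q.map σ).map (Ideal.Quotient.mk Ib)).IsPrime :=
    Ideal.map_isPrime_of_surjective Ideal.Quotient.mk_surjective (Ideal.mk_ker.le.trans hIbQ)
  have hmem : (⟨p, inferInstance⟩ : PrimeSpectrum A) ∈ Set.range (PrimeSpectrum.comap (algebraMap A (S ⧸ Ib))) := by
    refine ⟨⟨(Q.map σ).map (Ideal.Quotient.mk Ib), inferInstance⟩, PrimeSpectrum.ext ?_⟩
    change ((Q.map σ).map (Ideal.Quotient.mk Ib)).comap (algebraMap A (S ⧸ Ib)) = p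
    rw [show algebraMap A (S ⧸ Ib) = ((Ideal.Quotient.mk Ib).comp σ).comp (algebraMap A B) by
      rw [RingHom.comp_assoc, ← IsScalarTower.algebraMap_eq]; rfl,
      ← Ideal.comap_comap, ← Ideal.comap_comap, Ideal.comap_map_of_surjective _ Ideal.Quotient.mk_surjective,
      ← RingHom.ker_eq_comap_bot, Ideal.mk_ker, sup_eq_left.2 hIbQ]
    congr 1
    exact IsLocalization.under_map_of_isPrime_disjoint (Submonoid.powers h) S inferInstance hdisj
  obtain ⟨_, ⟨g, rfl⟩, hgp, hsub⟩ := PrimeSpectrum.isTopologicalBasis_basic_opens.exists_subset_of_mem_open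
    hmem hopen.isOpen_range
  refine ⟨e, g, hgp, ?_⟩
  let Ag := Localization.Away g
  let T₁ := S ⧸ Ib
  let Tg := Localization.Away (algebraMap A T₁ g)
  let φg : Ag →+* Tg := IsLocalization.Away.lift g (g := algebraMap A Tg) (by
    rw [IsScalarTower.algebraMap_apply A T₁ Tg]
    exact IsLocalization.Away.algebraMap_isUnit _)
  have hφg : φg.comp (algebraMap A Ag) = algebraMap A Tg := IsLocalization.Away.lift_comp _ _
  letI := φg.toAlgebra
  haveI : IsScalarTower A Ag Tg := IsScalarTower.of_algebraMap_eq' hφg.symm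
  haveI : Module.Flat T₁ Tg := IsLocalization.flat _ (Submonoid.powers (algebraMap A T₁ g))
  haveI : Module.Flat A Tg := Module.Flat.trans A T₁ Tg
  haveI : Module.Flat Ag Tg := (Module.flat_iff_of_isLocalization Ag (Submonoid.powers g) (M := Tg)).2 ‹_›
  haveI : Module.FaithfullyFlat Ag Tg := by
    refine Module.FaithfullyFlat.of_comap_surjective fun P' => ?_
    have hgP' : g ∉ (PrimeSpectrum.comap (algebraMap A Ag) P').asIdeal := fun hg' =>
      P'.isPrime.ne_top (Ideal.eq_top_of_isUnit_mem _ hg' (IsLocalization.Away.algebraMap_isUnit g))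
    obtain ⟨t, ht⟩ := hsub hgP'
    have htg : t ∈ Set.range (PrimeSpectrum.comap (algebraMap T₁ Tg)) := by
      rw [PrimeSpectrum.localization_away_comap_range Tg (algebraMap A T₁ g)]
      intro h'
      exact hgP' (ht ▸ h')
    obtain ⟨t', rfl⟩ := htg
    refine ⟨t', PrimeSpectrum.localization_comap_injective Ag (Submonoid.powers g) ?_⟩
    rw [← ht, ← PrimeSpectrum.comap_comp_apply, ← PrimeSpectrum.comap_comp_apply]
    rw [← IsScalarTower.algebraMap_eq, ← IsScalarTower.algebraMap_eq]
  let aG : Fin e → Ag := algebraMap A Ag ∘ aA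
  have hcompT : (fun i => algebraMap Ag Tg (aG i)) = algebraMap T₁ Tg ∘ (Ideal.Quotient.mk Ib ∘ (algebraMap A S ∘ aA)) := by
    funext i
    change algebraMap Ag Tg (algebraMap A Ag (aA i)) = algebraMap T₁ Tg (algebraMap A T₁ (aA i))
    rw [← IsScalarTower.algebraMap_apply, ← IsScalarTower.algebraMap_apply]
  have hTgA : Acyc fun i => algebraMap Ag Tg (aG i) := by
    rw [hcompT]
    exact CubeBase.acyc_flat_ringHom _ (RingHom.flat_algebraMap_iff.2 inferInstance) _ hāA
  refine ⟨aG, CubeBase.acyc_of_faithfullyFlat aG hTgA, ?_⟩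
  have hIT : I.map (algebraMap A T₁) = Ideal.span (Set.range (Ideal.Quotient.mk Ib ∘ (algebraMap A S ∘ aA))) := by
    have hJT : (J.map σ).map (Ideal.Quotient.mk Ib) = Ideal.span (Set.range (Ideal.Quotient.mk Ib ∘ (algebraMap A S ∘ aA))) := by
      rw [hJS, hmap, range_app, Ideal.span_union, Ideal.map_sup]
      rw [show Ib = Ideal.span (Set.range (σ ∘ b)) from rfl, Ideal.map_quotient_self, sup_bot_eq, Ideal.map_span, ← Set.range_comp]
    refine le_antisymm ?_ (Ideal.span_le.2 ?_)
    · rw [← hJT, Ideal.map_le_iff_le_comap]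
      intro x hx
      have := Ideal.mem_map_of_mem (Ideal.Quotient.mk Ib) (Ideal.mem_map_of_mem σ (hIJ x hx))
      rwa [show σ (algebraMap A B x) = algebraMap A S x from (IsScalarTower.algebraMap_apply A B S x).symm] at this
    · rintro _ ⟨i, rfl⟩
      exact Ideal.mem_map_of_mem (algebraMap A T₁) (haI i)
  rw [← Ideal.comap_map_eq_self_of_faithfullyFlat (B := Tg) (I.map (algebraMap A Ag)),
    ← Ideal.comap_map_eq_self_of_faithfullyFlat (B := Tg) (Ideal.span (Set.range aG))]
  congr 1
  rw [Ideal.map_map, ← IsScalarTower.algebraMap_eq, IsScalarTower.algebraMap_eq A T₁ Tg, ← Ideal.map_map, hIT,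
    Ideal.map_span, Ideal.map_span, ← Set.range_comp, ← Set.range_comp, ← hcompT]
  rfl

end Data

include hAC in
/-- Every element of `B` differs from one of `A` by an element of the kernel. -/
theorem exists_sub_mem (b : B) : ∃ a : A, b - algebraMap A B a ∈ RingHom.ker ψ.toRingHom := by
  obtain ⟨a, ha⟩ := hAC (ψ b)
  refine ⟨a, ?_⟩
  change ψ (b - algebraMap A B a) = 0
  rw [map_sub, ψ.commutes, ha, sub_self]

include hAC in
/-- The kernel meets the extension of an ideal in the obvious part. -/
theorem mem_of_mem_map (p : Ideal A) {x : B} (hx : x ∈ p.map (algebraMap A B))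
    (hxJ : x ∈ RingHom.ker ψ.toRingHom) :
    x ∈ (RingHom.ker (algebraMap A C)).map (algebraMap A B) ⊔ p.map (algebraMap A B) * RingHom.ker ψ.toRingHom := by
  obtain ⟨a, ha⟩ : ∃ a : A, x - algebraMap A B a ∈ p.map (algebraMap A B) * RingHom.ker ψ.toRingHom := by
    clear hxJ
    induction hx using Submodule.span_induction with
    | mem y hy =>
      obtain ⟨a, ha, rfl⟩ := hy
      exact ⟨a, by rw [sub_self]; exact zero_mem _⟩
    | zero => exact ⟨0, by rw [map_zero, sub_self]; exact zero_mem _⟩
    | add y z _ _ hy hz =>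
      obtain ⟨a, ha⟩ := hy
      obtain ⟨a', ha'⟩ := hz
      exact ⟨a + a', by rw [map_add, add_sub_add_comm]; exact add_mem ha ha'⟩
    | smul c y hy hy' =>
      obtain ⟨a, ha⟩ := hy'
      obtain ⟨a₀, ha₀⟩ := exists_sub_mem hAC ψ c
      refine ⟨a₀ * a, ?_⟩
      rw [smul_eq_mul, map_mul, show c * y - algebraMap A B a₀ * algebraMap A B a =
        algebraMap A B a₀ * (y - algebraMap A B a) + y * (c - algebraMap A B a₀) by ring]
      exact add_mem (Ideal.mul_mem_left _ _ ha) (Ideal.mul_mem_mul hy ha₀)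
  have ha' : a ∈ RingHom.ker (algebraMap A C) := by
    change algebraMap A C a = 0
    rw [← ψ.commutes]
    have h1 : ψ x = 0 := hxJ
    have h2 : ψ (x - algebraMap A B a) = 0 := Ideal.mul_le_right (I := p.map (algebraMap A B)) ha
    rwa [map_sub, h1, zero_sub, neg_eq_zero] at h2
  rw [← add_sub_cancel (algebraMap A B a) x]
  exact Submodule.add_mem_sup (Ideal.mem_map_of_mem _ ha') ha

include hAC in
/-- A Koszul-regular kernel upstairs gives one below. -/
theorem genLoc_down [Algebra.Smooth A B] (Q : Ideal B) [Q.IsPrime]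
    (hQ : RingHom.ker ψ.toRingHom ≤ Q) {r : ℕ} (hr : GenLoc r (RingHom.ker ψ.toRingHom) Q) :
    ∃ e, GenLoc e (RingHom.ker (algebraMap A C)) (Q.under A) := by
  classical
  haveI : Algebra.FiniteType A B := inferInstance
  set I := RingHom.ker (algebraMap A C)
  set J := RingHom.ker ψ.toRingHom
  set p := Q.under A with hp
  let BQ := Localization.AtPrime Q
  let L := BQ ⧸ p.map (algebraMap A BQ)
  -- the fibre
  obtain ⟨eB⟩ := JacCrit.FlatRegular.nonempty_ringEquiv p Q (fibrePoint A B Q).asIdeal (comap_fibrePoint Q)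
  haveI := KoszulFlat.isRegularLocalRing_of_smooth p.ResidueField (p.Fiber B) (fibrePoint A B Q).asIdeal
  haveI : IsRegularLocalRing L :=
    IsRegularLocalRing.of_ringEquiv (R := Localization.AtPrime (fibrePoint A B Q).asIdeal) eB
  let μ : BQ →+* L := Ideal.Quotient.mk (p.map (algebraMap A BQ))
  haveI : IsLocalHom μ := IsLocalHom.of_surjective _ Ideal.Quotient.mk_surjective
  let πL : B →+* L := μ.comp (algebraMap B BQ)
  have hμm : ∀ x, μ x ∈ maximalIdeal L ↔ x ∈ maximalIdeal BQ := fun x => by
    simp only [mem_maximalIdeal, mem_nonunits_iff]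
    exact not_congr ⟨fun h => isUnit_of_map_unit μ x h, fun h => h.map μ⟩
  have hπm : ∀ x, πL x ∈ maximalIdeal L ↔ x ∈ Q := fun x => by
    rw [show πL x = μ (algebraMap B BQ x) from rfl, hμm]
    exact IsLocalization.AtPrime.to_map_mem_maximal_iff BQ Q x
  have hπp : ∀ a ∈ p, πL (algebraMap A B a) = 0 := fun a ha => by
    change μ (algebraMap B BQ (algebraMap A B a)) = 0
    rw [← IsScalarTower.algebraMap_apply]
    exact Ideal.Quotient.eq_zero_iff_mem.2 (Ideal.mem_map_of_mem _ ha)
  have hmax : maximalIdeal L = J.map πL := by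
    refine le_antisymm (fun y hy => ?_) (Ideal.map_le_iff_le_comap.2 fun x hx => (hπm x).2 (hQ hx))
    obtain ⟨y, rfl⟩ := Ideal.Quotient.mk_surjective y
    obtain ⟨b, s, rfl⟩ := IsLocalization.exists_mk'_eq Q.primeCompl y
    have hb : b ∈ Q := (IsLocalization.AtPrime.mk'_mem_maximal_iff BQ Q b s).1 ((hμm _).1 hy)
    obtain ⟨a, ha⟩ := exists_sub_mem hAC ψ b
    have hap : a ∈ p := by
      have := Q.sub_mem hb (hQ ha)
      rwa [sub_sub_cancel] at this
    have h1 : πL b ∈ J.map πL := by
      rw [← sub_add_cancel b (algebraMap A B a), map_add, hπp a hap, add_zero]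
      exact Ideal.mem_map_of_mem _ ha
    have h2 : IsUnit (πL s.1) := (IsLocalization.map_units BQ s).map μ
    refine (Ideal.unit_mul_mem_iff_mem _ h2).1 ?_
    rw [show πL s.1 * μ (IsLocalization.mk' BQ b s) = πL b by
      rw [show πL s.1 = μ (algebraMap B BQ s.1) from rfl, ← map_mul, IsLocalization.mk'_spec']
      rfl]
    exact h1
  obtain ⟨rs, hrs, hlen⟩ := H26.CIQuotient.exists_list_spanFinrank (maximalIdeal L) (IsNoetherian.noetherian _)
  have hreg := Groth.Agent.Lib.Regular.Quotient.isRegular_of_span_eq_maximalIdeal rs hrs hlen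
  have hlift : ∀ i : Fin rs.length, ∃ b ∈ J, ∃ v : L, IsUnit v ∧ πL b = v * rs.get i := fun i => by
    have h1 : rs.get i ∈ (J.map (algebraMap B BQ)).map μ := by
      rw [Ideal.map_map, ← hmax, ← hrs]
      exact Ideal.subset_span (List.get_mem rs i)
    obtain ⟨y, hy, hye⟩ := (Ideal.mem_map_iff_of_surjective _ Ideal.Quotient.mk_surjective).1 h1
    obtain ⟨⟨x, s⟩, e⟩ := (IsLocalization.mem_map_algebraMap_iff Q.primeCompl BQ).1 hy
    refine ⟨x.1, x.2, μ (algebraMap B BQ s.1), (IsLocalization.map_units _ s).map μ, ?_⟩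
    rw [← hye, show πL x.1 = μ (algebraMap B BQ x.1) from rfl, ← e, map_mul, mul_comm]
  choose b hbJ v hv hbv using hlift
  have hwL : IsWeaklyRegular L ((List.ofFn b).map (algebraMap B L)) := by
    have e1 : (List.ofFn b).map (algebraMap B L) = List.ofFn fun i => v i * rs.get i := by
      rw [List.map_ofFn]
      exact congrArg List.ofFn (funext hbv)
    have e2 := (KRGens.acyc_and_span_of_units v hv rs.get
      (CubeBase.acyc_of_isWeaklyRegular _ (by rw [List.ofFn_get]; exact hreg.toIsWeaklyRegular)))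
    have hsp : Ideal.ofList (List.ofFn fun i => v i * rs.get i) = maximalIdeal L := by
      rw [← span_range_eq_ofList, e2.2, span_range_eq_ofList, List.ofFn_get, hrs]
    rw [e1]
    exact (Groth.Agent.Lib.Regular.Quotient.isRegular_of_span_eq_maximalIdeal _ hsp
      (by rw [List.length_ofFn, hlen])).toIsWeaklyRegular
  have hspanL : Ideal.span (Set.range (πL ∘ b)) = maximalIdeal L := by
    rw [show πL ∘ b = fun i => v i * rs.get i from funext hbv,
      (KRGens.acyc_and_span_of_units v hv rs.get
        (CubeBase.acyc_of_isWeaklyRegular _ (by rw [List.ofFn_get]; exact hreg.toIsWeaklyRegular))).2,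
      span_range_eq_ofList, List.ofFn_get, hrs]
  refine genLoc_down_of_data I J (fun a ha => ?_) Q hQ hr b hbJ hwL fun y hy => ?_
  · change ψ (algebraMap A B a) = 0
    rw [ψ.commutes]
    exact ha
  have h1 : πL y ∈ Ideal.span (Set.range (πL ∘ b)) := hspanL ▸ (hπm y).2 (hQ hy)
  obtain ⟨c, hc⟩ := Ideal.mem_span_range_iff_exists_fun.1 h1
  choose c' hc' using fun i => Ideal.Quotient.mk_surjective (c i)
  have h2 : algebraMap B BQ y - ∑ i, c' i * algebraMap B BQ (b i) ∈ p.map (algebraMap A BQ) := by
    rw [← Ideal.Quotient.eq_zero_iff_mem, map_sub, map_sum, sub_eq_zero]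
    refine hc.symm.trans (Finset.sum_congr rfl fun i _ => ?_)
    rw [map_mul, hc' i]
    rfl
  have h3 : algebraMap B BQ y ∈ (Ideal.span (Set.range b) ⊔ p.map (algebraMap A B)).map (algebraMap B BQ) := by
    rw [Ideal.map_sup, Ideal.map_map, ← IsScalarTower.algebraMap_eq, Ideal.map_span, ← Set.range_comp,
      ← sub_add_cancel (algebraMap B BQ y) (∑ i, c' i * algebraMap B BQ (b i))]
    exact add_mem (Ideal.mem_sup_right h2) (Ideal.mem_sup_left
      (Ideal.mem_span_range_iff_exists_fun.2 ⟨c', rfl⟩))
  obtain ⟨s, hs, hsy⟩ := (IsLocalization.algebraMap_mem_map_algebraMap_iff Q.primeCompl BQ _ y).1 h3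
  obtain ⟨β, hβ, x, hx, hβx⟩ := Submodule.mem_sup.1 hsy
  have hxJ : x ∈ J := by
    have : β ∈ J := (Ideal.span_le.2 (by rintro _ ⟨i, rfl⟩; exact hbJ i)) hβ
    have hsyJ : β + x ∈ J := hβx ▸ Ideal.mul_mem_left _ s hy
    simpa using sub_mem hsyJ this
  refine ⟨s, hs, ?_⟩
  rw [← hβx]
  refine add_mem (Ideal.mem_sup_left (Ideal.mem_sup_right hβ)) ?_
  exact (sup_le_sup_right le_sup_left _ : I.map (algebraMap A B) ⊔ _ ≤ _) (mem_of_mem_map hAC ψ p hx hxJ)

end Down

/-- Regularity modulo an ideal containing the kernel of a surjection. -/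
theorem isWeaklyRegular_of_surjective {B W : Type u} [CommRing B] [CommRing W] (π : B →+* W)
    (hπ : Function.Surjective π) (Q' : Ideal W) [Q'.IsPrime] (Q : Ideal B) [Q.IsPrime]
    (hQ : Q'.comap π = Q) (𝔭 : Ideal B) (hk : RingHom.ker π ≤ 𝔭) (l : List B)
    (h : IsWeaklyRegular (Localization.AtPrime Q' ⧸ (𝔭.map π).map (algebraMap W (Localization.AtPrime Q')))
      ((l.map π).map (algebraMap W (Localization.AtPrime Q' ⧸ (𝔭.map π).map (algebraMap W (Localization.AtPrime Q')))))) :
    IsWeaklyRegular (Localization.AtPrime Q ⧸ 𝔭.map (algebraMap B (Localization.AtPrime Q)))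
      (l.map (algebraMap B (Localization.AtPrime Q ⧸ 𝔭.map (algebraMap B (Localization.AtPrime Q))))) := by
  subst hQ
  let M := (Q'.comap π).primeCompl
  let BQ := Localization.AtPrime (Q'.comap π)
  let WQ := Localization.AtPrime Q'
  haveI : IsLocalization (M.map π) WQ := by
    rw [show M.map π = Q'.primeCompl from Q'.map_primeCompl_comap_of_surjective π hπ]
    infer_instance
  let θ : BQ →+* WQ := IsLocalization.map WQ π M.le_comap_map
  have hθs : Function.Surjective θ := IsLocalization.map_surjective_of_surjective M BQ WQ hπ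
  have hθk : RingHom.ker θ = (RingHom.ker π).map (algebraMap B BQ) := IsLocalization.ker_map WQ π rfl
  have hθc : θ.comp (algebraMap B BQ) = (algebraMap W WQ).comp π := IsLocalization.map_comp _
  let q := 𝔭.map (algebraMap B BQ)
  let q' := (𝔭.map π).map (algebraMap W WQ)
  have hqq : q.map θ = q' := by rw [Ideal.map_map, hθc, ← Ideal.map_map]
  let Θ : BQ ⧸ q →+* WQ ⧸ q' := Ideal.quotientMap q' θ (Ideal.map_le_iff_le_comap.1 hqq.le)
  have hΘ : Function.Bijective Θ := by
    refine ⟨Ideal.quotientMap_injective' ?_, Ideal.quotientMap_surjective hθs⟩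
    rw [← hqq, Ideal.comap_map_of_surjective θ hθs, ← RingHom.ker_eq_comap_bot, hθk,
      sup_eq_left.2 (Ideal.map_mono hk)]
  refine ((RingEquiv.ofBijective Θ hΘ).toAddEquiv.isWeaklyRegular_congr ?_).2 h
  rw [List.map_map, List.forall₂_map_left_iff, List.forall₂_map_right_iff, List.forall₂_same]
  intro r _ x
  change Θ (Ideal.Quotient.mk q (algebraMap B BQ r) * x) =
    Ideal.Quotient.mk q' (algebraMap W WQ (π r)) * Θ x
  rw [map_mul]
  congr 1
  exact congrArg (Ideal.Quotient.mk q') (RingHom.congr_fun hθc r)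

/-- Koszul regularity of an ideal descends from a syntomic cover of the quotient. -/
theorem genLoc_down_syntomic {A B C C' : Type u} [CommRing A] [CommRing B] [CommRing C] [CommRing C']
    [Algebra A B] [Algebra A C] [Algebra C C'] [Algebra A C'] [IsScalarTower A C C'] [Algebra.Smooth A B]
    (hAC : Function.Surjective (algebraMap A C)) (hC' : Synt.IsSyntomic C C')
    (ψ : B →ₐ[A] C') (hψ : Function.Surjective ψ) (Q : Ideal B) [Q.IsPrime]
    (hQ : RingHom.ker ψ.toRingHom ≤ Q) {r : ℕ} (hr : GenLoc r (RingHom.ker ψ.toRingHom) Q) :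
    ∃ e, GenLoc e (RingHom.ker (algebraMap A C)) (Q.under A) := by
  set I := RingHom.ker (algebraMap A C)
  let inc : B →ₐ[A] C ⊗[A] B := Algebra.TensorProduct.includeRight
  have hinc : Function.Surjective inc := Algebra.TensorProduct.includeRight_surjective B hAC
  let ψC : C ⊗[A] B →ₐ[C] C' :=
    Algebra.TensorProduct.lift (Algebra.ofId C C') ψ fun _ _ => mul_comm _ _
  have hψC : ∀ b, ψC (inc b) = ψ b := fun b => by simp [ψC, inc]
  have hψCs : Function.Surjective ψC := fun c => by
    obtain ⟨b, rfl⟩ := hψ c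
    exact ⟨inc b, hψC b⟩
  have hk : RingHom.ker inc.toRingHom = I.map (algebraMap A B) := ker_includeRight hAC
  let Q' := Q.map inc.toRingHom
  have hkQ : RingHom.ker inc.toRingHom ≤ Q := fun b hb => hQ (by
    change ψ b = 0
    rw [← hψC, show inc b = 0 from hb, map_zero])
  haveI : Q'.IsPrime := Ideal.map_isPrime_of_surjective hinc hkQ
  have hQ' : Q'.comap inc.toRingHom = Q := by
    rw [Ideal.comap_map_of_surjective inc.toRingHom hinc, ← RingHom.ker_eq_comap_bot]
    exact sup_eq_left.2 hkQ
  have hsyn : Synt.IsSyntomic C ((C ⊗[A] B) ⧸ RingHom.ker ψC.toRingHom) :=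
    MorStd.isSyntomic_of_arrow (RingEquiv.refl C) (RingHom.quotientKerEquivOfSurjective hψCs)
      (fun c => ψC.commutes c) hC'
  obtain ⟨g, hg, l, hl, hwL, -, hgl⟩ := SmoothAmbient.exists_chart' (RingHom.ker ψC.toRingHom) hsyn Q'
    fun x hx => by
      obtain ⟨b, rfl⟩ := hinc x
      exact Ideal.mem_map_of_mem _ (hQ ((hψC b).symm.trans hx))
  obtain ⟨g₀, rfl⟩ := hinc g
  let b : Fin l.length → B := fun i => (hinc (l.get i)).choose
  have hb : ∀ i, inc (b i) = l.get i := fun i => (hinc (l.get i)).choose_spec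
  have hbl : (List.ofFn b).map inc.toRingHom = l := by
    rw [List.map_ofFn]
    exact (congrArg List.ofFn (funext hb)).trans (List.ofFn_get l)
  refine genLoc_down_of_data I (RingHom.ker ψ.toRingHom) (fun a ha => ?_) Q hQ hr b (fun i => ?_) ?_
    fun y hy => ?_
  · change ψ (algebraMap A B a) = 0
    rw [ψ.commutes, IsScalarTower.algebraMap_apply A C C', show algebraMap A C a = 0 from ha, map_zero]
  · change ψ (b i) = 0
    rw [← hψC, hb]
    exact hl _ (List.get_mem l i)
  · set p := Q.under A with hp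
    have h1 : (p.map (algebraMap A B)).map (algebraMap B (Localization.AtPrime Q)) =
        p.map (algebraMap A (Localization.AtPrime Q)) := by
      rw [Ideal.map_map, ← IsScalarTower.algebraMap_eq]
    have hIp : I ≤ p := fun a ha => hQ (by
      change ψ (algebraMap A B a) = 0
      rw [ψ.commutes, IsScalarTower.algebraMap_apply A C C', show algebraMap A C a = 0 from ha, map_zero])
    have h2 : ((p.map (algebraMap A B)).map inc.toRingHom).map (algebraMap (C ⊗[A] B) (Localization.AtPrime Q')) =
        (Q'.under C).map (algebraMap C (Localization.AtPrime Q')) := by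
      have e1 : Q'.under C = p.map (algebraMap A C) := by
        have : (Q'.under C).comap (algebraMap A C) = p := by
          rw [Ideal.comap_comap, hp, ← hQ']
          change _ = Ideal.comap (algebraMap A B) (Ideal.comap inc.toRingHom Q')
          rw [Ideal.comap_comap]
          congr 1
          exact RingHom.ext fun a => (IsScalarTower.algebraMap_apply A C (C ⊗[A] B) a).symm.trans (inc.commutes a).symm
        rw [← this, Ideal.map_comap_of_surjective _ hAC]
      rw [e1, Ideal.map_map, Ideal.map_map, Ideal.map_map]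
      congr 1
      refine RingHom.ext fun a => ?_
      simp only [RingHom.comp_apply]
      rw [IsScalarTower.algebraMap_apply C (C ⊗[A] B) (Localization.AtPrime Q')]
      congr 1
      exact (inc.commutes a).trans (IsScalarTower.algebraMap_apply A C (C ⊗[A] B) a)
    have := isWeaklyRegular_of_surjective inc.toRingHom hinc Q' Q hQ' (p.map (algebraMap A B))
      (hk.le.trans (Ideal.map_mono hIp)) (List.ofFn b) (by rw [h2, hbl]; exact hwL)
    rwa [h1] at this
  · refine ⟨g₀, fun h => hg (Ideal.mem_map_of_mem _ h), Ideal.mem_sup_left ?_⟩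
    have h1 : inc (g₀ * y) ∈ Ideal.ofList l := by
      rw [map_mul]
      exact hgl _ (by change ψC (inc y) = 0; rw [hψC]; exact hy)
    rw [← hbl, ← Ideal.map_ofList] at h1
    have h2 : g₀ * y ∈ ((Ideal.ofList (List.ofFn b)).map inc.toRingHom).comap inc.toRingHom := h1
    rw [Ideal.comap_map_of_surjective inc.toRingHom hinc, ← RingHom.ker_eq_comap_bot, hk, sup_comm,
      ← span_range_eq_ofList] at h2
    exact h2

end Groth.Agent.Lib.Synt92.KRSmooth
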