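import Groth.Agent.H20.CMRegular
import Groth.Agent.Lib.JacCrit.FlatRegular
import Groth.Agent.Lib.Dim.Local
import Mathlib.RingTheory.RegularLocalRing.Polynomial

/-!
# Polynomials cutting the expected dimension form a regular sequence
-/

universe u

open MvPolynomial IsLocalRing RingTheory.Sequence

namespace Groth.Agent.Lib.Synt92.FieldSeq

variable {k : Type u} [Field k] {n : ℕ}

/-- `c` polynomials cutting out dimension at most `n - c` form a regular sequence at every prime
containing them. -/
theorem isRegular (rs : List (MvPolynomial (Fin n) k)) (hn : rs.length ≤ n)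
    (hdim : ringKrullDim (MvPolynomial (Fin n) k ⧸ Ideal.ofList rs) ≤ ((n - rs.length : ℕ) : WithBot ℕ∞))
    (Q : Ideal (MvPolynomial (Fin n) k)) [Q.IsPrime] (hQ : Ideal.ofList rs ≤ Q)
    (B : Type u) [CommRing B] [Algebra (MvPolynomial (Fin n) k) B] [IsLocalization.AtPrime B Q] :
    IsRegular B (rs.map (algebraMap (MvPolynomial (Fin n) k) B)) := by
  haveI : IsRegularLocalRing B := IsRegularLocalRing.of_ringEquiv
    (IsLocalization.algEquiv Q.primeCompl (Localization.AtPrime Q) B).toRingEquiv
  haveI : LocCoh.IsCohenMacaulayLocalRing B := JacCrit.FlatRegular.isCohenMacaulayLocalRing B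
  refine H20.CMRegular.isRegular_of_ringKrullDim_le _ ?_ ?_
  · intro r hr
    obtain ⟨x, hx, rfl⟩ := List.mem_map.1 hr
    exact (IsLocalization.AtPrime.to_map_mem_maximal_iff B Q x).2
      (hQ (Ideal.subset_span hx))
  rw [List.length_map, IsLocalization.AtPrime.ringKrullDim_eq_height Q B, ← Ideal.map_ofList]
  have h1 := Dim.Basic.height_add_dimQ k Q
  have h3 : Dim.Basic.trdegNat k (MvPolynomial (Fin n) k) = n := by
    have := (Dim.Basic.ringKrullDim_eq_trdegNat k (MvPolynomial (Fin n) k)).symm.trans
      (Dim.Basic.ringKrullDim_mvPolynomial k (Fin n))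
    simpa using this
  rw [h3] at h1
  obtain ⟨h, hh⟩ : ∃ h : ℕ, Q.height = h :=
    ⟨_, (Dim.Local.coe_height_toNat k Q).symm⟩
  rw [hh] at h1 ⊢
  norm_cast at h1
  let f : MvPolynomial (Fin n) k →+* B ⧸ (Ideal.ofList rs).map (algebraMap _ B) :=
    (Ideal.Quotient.mk _).comp (algebraMap _ B)
  suffices key : ∀ l : LTSeries (PrimeSpectrum (B ⧸ (Ideal.ofList rs).map (algebraMap _ B))),
      l.length + rs.length ≤ h by
    have hb : ringKrullDim (B ⧸ (Ideal.ofList rs).map (algebraMap _ B)) ≤
        ((h - rs.length : ℕ) : WithBot ℕ∞) := by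
      refine iSup_le fun l => ?_
      have := key l
      exact_mod_cast (show l.length ≤ h - rs.length by omega)
    by_cases hne : Nonempty (PrimeSpectrum (B ⧸ (Ideal.ofList rs).map (algebraMap _ B)))
    · obtain ⟨x⟩ := hne
      have := key (RelSeries.singleton _ x)
      calc _ ≤ ((h - rs.length : ℕ) : WithBot ℕ∞) + (rs.length : WithBot ℕ∞) := by gcongr
        _ = _ := by
          simp only [RelSeries.singleton_length, zero_add] at this
          norm_cast
          rw [Nat.sub_add_cancel this]
    · have : ringKrullDim (B ⧸ (Ideal.ofList rs).map (algebraMap _ B)) = ⊥ := by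
        haveI := not_nonempty_iff.1 hne
        exact Order.krullDim_eq_bot
      rw [this]
      simp
  intro l
  have hf : StrictMono (PrimeSpectrum.comap f) := by
    have hinj : Function.Injective (PrimeSpectrum.comap f) := fun a b hab => by
      have h2 : PrimeSpectrum.comap (algebraMap (MvPolynomial (Fin n) k) B)
          (PrimeSpectrum.comap (Ideal.Quotient.mk _) a) =
          PrimeSpectrum.comap (algebraMap (MvPolynomial (Fin n) k) B)
          (PrimeSpectrum.comap (Ideal.Quotient.mk _) b) := hab
      exact PrimeSpectrum.comap_injective_of_surjective _ Ideal.Quotient.mk_surjective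
        (PrimeSpectrum.localization_comap_injective B Q.primeCompl h2)
    exact (Monotone.strictMono_of_injective (fun a b hab => Ideal.comap_mono hab) hinj)
  let L := l.map (PrimeSpectrum.comap f) hf
  have h2 := Dim.Basic.length_add_dimQ_le k L
  have hhead : Ideal.ofList rs ≤ L.head.asIdeal := by
    intro x hx
    change f x ∈ (l.head).asIdeal
    have : f x = 0 := Ideal.Quotient.eq_zero_iff_mem.2 (Ideal.mem_map_of_mem _ hx)
    rw [this]
    exact zero_mem _
  have hlast : L.last.asIdeal ≤ Q := by
    intro x hx
    by_contra hxQ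
    have hu : IsUnit (f x) :=
      (IsLocalization.map_units B (⟨x, hxQ⟩ : Q.primeCompl)).map (Ideal.Quotient.mk ((Ideal.ofList rs).map (algebraMap _ B)))
    exact l.last.isPrime.ne_top (Ideal.eq_top_of_isUnit_mem _ hx hu)
  have h4 : Dim.Basic.dimQ k L.head.asIdeal ≤ n - rs.length := by
    have h5 := (Dim.Basic.ringKrullDim_quotient_prime k L.head.asIdeal).ge.trans
      ((ringKrullDim_le_of_surjective (Ideal.Quotient.factor hhead)
        (Ideal.Quotient.factor_surjective hhead)).trans hdim)
    exact_mod_cast h5
  have h6 := Dim.Basic.dimQ_anti k hlast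
  have h7 : L.length = l.length := rfl
  omega

end Groth.Agent.Lib.Synt92.FieldSeq
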