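import Groth.Prelude.Def_RegImm
import Mathlib.RingTheory.Localization.Away.Basic
import Mathlib.Algebra.MvPolynomial.Rename

/-!
# Presentation of a basic open of a global presentation
-/

universe u

open MvPolynomial

namespace Groth.Agent.Lib.Synt92.AwayPres

variable (R : Type u) [CommRing R] (n c : ℕ) (F : Fin c → MvPolynomial (Fin n) R)
  (h : MvPolynomial (Fin n) R)

/-- The extended system of equations. -/
noncomputable abbrev ext : Fin (c + 1) → MvPolynomial (Fin (n + 1)) R :=
  Fin.snoc (fun i => rename Fin.castSucc (F i)) (rename Fin.castSucc h * X (Fin.last n) - 1)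

/-- The basic open `D(h)` is cut out by one more equation in one more variable. -/
theorem nonempty_equiv :
    Nonempty (Localization.Away (Ideal.Quotient.mk (Ideal.span (Set.range F)) h) ≃ₐ[R]
      Synt.RelGCIRing R (n + 1) (c + 1) (ext R n c F h)) := by
  set A := Synt.RelGCIRing R n c F
  set B := Synt.RelGCIRing R (n + 1) (c + 1) (ext R n c F h)
  set g : A := Ideal.Quotient.mk (Ideal.span (Set.range F)) h with hg
  let mkB : MvPolynomial (Fin (n + 1)) R →ₐ[R] B := Ideal.Quotient.mkₐ R _
  have hrel : ∀ i, mkB (ext R n c F h i) = 0 := fun i =>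
    Ideal.Quotient.eq_zero_iff_mem.2 (Ideal.subset_span ⟨i, rfl⟩)
  -- `A → B`
  let α : A →ₐ[R] B := Ideal.Quotient.liftₐ _ (mkB.comp (rename Fin.castSucc)) (fun x hx => by
    have h1 : Ideal.span (Set.range F) ≤ RingHom.ker (mkB.comp (rename Fin.castSucc)).toRingHom := by
      rw [Ideal.span_le]
      rintro _ ⟨i, rfl⟩
      have := hrel i.castSucc
      simp only [ext, Fin.snoc_castSucc] at this
      exact this
    exact h1 hx)
  have hlast : α g * mkB (X (Fin.last n)) = 1 := by
    have := hrel (Fin.last c)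
    simp only [ext, Fin.snoc_last, map_sub, map_mul, map_one, sub_eq_zero] at this
    exact this
  have hu : ∀ y : Submonoid.powers g, IsUnit (α y) := by
    rintro ⟨_, j, rfl⟩
    rw [map_pow]
    exact (IsUnit.of_mul_eq_one _ hlast).pow j
  let β : Localization.Away g →ₐ[R] B :=
    IsLocalization.liftAlgHom (A := R) (S := Localization.Away g) hu
  -- `B → A_g`
  let ι : A →ₐ[R] Localization.Away g := IsScalarTower.toAlgHom R A _
  have hinv : IsUnit (ι g) := IsLocalization.Away.algebraMap_isUnit g
  let γ0 : MvPolynomial (Fin (n + 1)) R →ₐ[R] Localization.Away g :=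
    aeval (Fin.snoc (fun i => ι (Ideal.Quotient.mk _ (X i))) (↑hinv.unit⁻¹ : Localization.Away g))
  have hren : ∀ x, γ0 (rename Fin.castSucc x) = ι (Ideal.Quotient.mk _ x) := fun x => by
    have : γ0.comp (rename Fin.castSucc) = ι.comp (Ideal.Quotient.mkₐ R _) := by
      ext i
      simp [γ0]
      rfl
    exact DFunLike.congr_fun this x
  let γ : B →ₐ[R] Localization.Away g := Ideal.Quotient.liftₐ _ γ0 (fun x hx => by
    have h1 : Ideal.span (Set.range (ext R n c F h)) ≤ RingHom.ker γ0.toRingHom := by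
      rw [Ideal.span_le]
      rintro _ ⟨i, rfl⟩
      change γ0 (ext R n c F h i) = 0
      refine Fin.lastCases ?_ (fun j => ?_) i
      · simp only [ext, Fin.snoc_last, map_sub, map_mul, map_one, hren, sub_eq_zero]
        rw [show γ0 (X (Fin.last n)) = (↑hinv.unit⁻¹ : Localization.Away g) by simp [γ0]]
        exact hinv.mul_val_inv
      · simp only [ext, Fin.snoc_castSucc, hren]
        rw [Ideal.Quotient.eq_zero_iff_mem.2 (Ideal.subset_span (Set.mem_range_self j)), map_zero]
    exact h1 hx)
  have hι : g = Ideal.Quotient.mk (Ideal.span (Set.range F)) h := rfl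
  have hγ : ∀ x, γ (mkB x) = γ0 x := fun _ => rfl
  have hβ : ∀ a, β (ι a) = α a := fun a => IsLocalization.lift_eq hu a
  have hα : ∀ x, α (Ideal.Quotient.mk _ x) = mkB (rename Fin.castSucc x) := fun _ => rfl
  refine ⟨AlgEquiv.ofAlgHom β γ ?_ ?_⟩
  · refine Ideal.Quotient.algHom_ext R (MvPolynomial.algHom_ext fun i => ?_)
    change β (γ (mkB (X i))) = mkB (X i)
    rw [hγ]
    refine Fin.lastCases ?_ (fun j => ?_) i
    · rw [show γ0 (X (Fin.last n)) = (↑hinv.unit⁻¹ : Localization.Away g) by simp [γ0]]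
      refine (IsUnit.of_mul_eq_one _ hlast).mul_left_cancel (Eq.trans ?_ hlast.symm)
      rw [← hβ g, ← map_mul, hinv.mul_val_inv, map_one]
    · rw [show γ0 (X j.castSucc) = ι (Ideal.Quotient.mk _ (X j)) by simp [γ0], hβ, hα, rename_X]
  · refine IsLocalization.algHom_ext (Submonoid.powers g) (AlgHom.ext fun a => ?_)
    obtain ⟨x, rfl⟩ := Ideal.Quotient.mk_surjective a
    change γ (β (ι (Ideal.Quotient.mk _ x))) = ι (Ideal.Quotient.mk _ x)
    rw [hβ, hα, hγ, hren]

end Groth.Agent.Lib.Synt92.AwayPres
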