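import Groth.Agent.Lib.Synt92.GCIBasic
import Groth.Agent.Lib.Synt92.KoszulLocal
import Groth.Agent.Lib.Synt92.LocalQuot
import Groth.Agent.Lib.Synt92.AwayPres

/-!
# Koszul regularity of equations on a basic open of affine space
-/

universe u

open MvPolynomial RingTheory.Sequence Pointwise

namespace Groth.Agent.Lib.Synt92.KoszulChart

variable {R : Type u} [CommRing R] {n c : ℕ}

/-- A basic open of affine space is a closed subscheme of a bigger affine space. -/
theorem exists_away_hom (g : MvPolynomial (Fin n) R) :
    ∃ π : MvPolynomial (Fin (n + 1)) R →ₐ[R] Localization.Away g, Function.Surjective π ∧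
      RingHom.ker π.toRingHom = Ideal.span {rename Fin.castSucc g * X (Fin.last n) - 1} ∧
      ∀ x, π (rename Fin.castSucc x) = algebraMap _ _ x := by
  let P := MvPolynomial (Fin n) R
  have hinv : IsUnit (algebraMap P (Localization.Away g) g) := IsLocalization.Away.algebraMap_isUnit g
  let π : MvPolynomial (Fin (n + 1)) R →ₐ[R] Localization.Away g :=
    aeval (Fin.snoc (fun i => algebraMap P (Localization.Away g) (X i))
      (↑hinv.unit⁻¹ : Localization.Away g))
  have hren : ∀ x, π (rename Fin.castSucc x) = algebraMap _ _ x := fun x => by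
    have : π.comp (rename Fin.castSucc) = IsScalarTower.toAlgHom R P (Localization.Away g) := by
      ext i
      simp [π, P]
    exact DFunLike.congr_fun this x
  have hlast : π (X (Fin.last n)) = (↑hinv.unit⁻¹ : Localization.Away g) := by simp [π]
  let J : Ideal (MvPolynomial (Fin (n + 1)) R) := Ideal.span {rename Fin.castSucc g * X (Fin.last n) - 1}
  have hunit : (Ideal.Quotient.mk J (rename Fin.castSucc g)) * Ideal.Quotient.mk J (X (Fin.last n)) = 1 := by
    rw [← map_mul, ← sub_eq_zero, ← map_one (Ideal.Quotient.mk J), ← map_sub,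
      Ideal.Quotient.eq_zero_iff_mem]
    exact Ideal.subset_span rfl
  let α : P →ₐ[R] MvPolynomial (Fin (n + 1)) R ⧸ J := (Ideal.Quotient.mkₐ R J).comp (rename Fin.castSucc)
  have hu : ∀ y : Submonoid.powers g, IsUnit (α y) := by
    rintro ⟨_, j, rfl⟩
    rw [map_pow]
    exact (IsUnit.of_mul_eq_one _ hunit).pow j
  let β : Localization.Away g →ₐ[R] MvPolynomial (Fin (n + 1)) R ⧸ J :=
    IsLocalization.liftAlgHom (A := R) (S := Localization.Away g) hu
  have hβ : ∀ x, β (algebraMap P _ x) = α x := fun x => IsLocalization.lift_eq hu x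
  have hβπ : ∀ x, β (π x) = Ideal.Quotient.mk J x := by
    have h : β.comp π = Ideal.Quotient.mkₐ R J := by
      refine MvPolynomial.algHom_ext fun i => ?_
      refine Fin.lastCases ?_ (fun j => ?_) i
      · change β (π (X (Fin.last n))) = Ideal.Quotient.mk J (X (Fin.last n))
        rw [hlast]
        refine (IsUnit.of_mul_eq_one _ hunit).mul_left_cancel (Eq.trans ?_ hunit.symm)
        rw [show Ideal.Quotient.mk J (rename Fin.castSucc g) = β (algebraMap P _ g) from (hβ g).symm,
          ← map_mul, hinv.mul_val_inv, map_one]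
      · change β (π (X j.castSucc)) = Ideal.Quotient.mk J (X j.castSucc)
        rw [show (X j.castSucc : MvPolynomial (Fin (n + 1)) R) = rename Fin.castSucc (X j) from
          (rename_X _ _).symm, hren, hβ]
        rfl
    exact fun x => DFunLike.congr_fun h x
  refine ⟨π, ?_, ?_, hren⟩
  · intro y
    obtain ⟨⟨x, s, hs⟩, e⟩ := IsLocalization.surj (Submonoid.powers g) y
    obtain ⟨j, rfl⟩ := hs
    refine ⟨rename Fin.castSucc x * X (Fin.last n) ^ j, ?_⟩
    refine ((hinv.pow j).mul_right_cancel (Eq.trans ?_ (by simpa using e.symm)))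
    rw [map_mul, map_pow, hren, hlast, mul_assoc, ← mul_pow, hinv.val_inv_mul, one_pow, mul_one]
  · refine le_antisymm (fun x hx => ?_) (Ideal.span_le.2 ?_)
    · have h0 : β (π x) = 0 := by rw [show π x = 0 from hx, map_zero]
      rw [hβπ] at h0
      exact Ideal.Quotient.eq_zero_iff_mem.1 h0
    · rintro _ rfl
      change π _ = 0
      rw [map_sub, map_mul, hren, hlast, hinv.mul_val_inv, map_one, sub_self]

/-- Equations of a relative global complete intersection on a basic open form a weakly regular
sequence in the local rings at their common zeros. -/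
theorem isWeaklyRegular_atPrime (F : Fin c → MvPolynomial (Fin n) R) (g : MvPolynomial (Fin n) R)
    (hrel : Synt.IsRelGCI R (n + 1) (c + 1) (AwayPres.ext R n c F g))
    (q : Ideal (Localization.Away g)) [q.IsPrime]
    (hl : ∀ x ∈ (List.ofFn F).map (algebraMap (MvPolynomial (Fin n) R) (Localization.Away g)), x ∈ q) :
    IsWeaklyRegular (Localization.AtPrime q)
      (((List.ofFn F).map (algebraMap (MvPolynomial (Fin n) R) (Localization.Away g))).map
        (algebraMap (Localization.Away g) (Localization.AtPrime q))) := by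
  obtain ⟨π, hπ, hker, hren⟩ := exists_away_hom g
  set a : MvPolynomial (Fin (n + 1)) R := rename Fin.castSucc g * X (Fin.last n) - 1
  set rs : List (MvPolynomial (Fin (n + 1)) R) := a :: (List.ofFn F).map (rename Fin.castSucc)
  have hspan : Ideal.span (Set.range (AwayPres.ext R n c F g)) = Ideal.ofList rs := by
    refine congrArg Ideal.span (Set.ext fun x => ⟨?_, fun hx => ?_⟩)
    · rintro ⟨i, rfl⟩
      refine Fin.lastCases ?_ (fun j => ?_) i
      · simp [rs, a, AwayPres.ext]
      · simp [rs, AwayPres.ext]
    · simp only [rs, Set.mem_setOf_eq, List.mem_cons, List.mem_map, List.mem_ofFn] at hx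
      rcases hx with rfl | ⟨_, ⟨j, rfl⟩, rfl⟩
      · exact ⟨Fin.last c, by simp [AwayPres.ext, a]⟩
      · exact ⟨j.castSucc, by simp [AwayPres.ext]⟩
  set q'' := q.comap π.toRingHom with hq''
  have hle : Ideal.ofList rs ≤ q'' := by
    rw [Ideal.ofList, Ideal.span_le]
    intro x hx
    simp only [rs, Set.mem_setOf_eq, List.mem_cons, List.mem_map, List.mem_ofFn] at hx
    change π x ∈ q
    rcases hx with rfl | ⟨_, ⟨j, rfl⟩, rfl⟩
    · rw [show π a = 0 from hker.ge (Ideal.subset_span rfl)]
      exact zero_mem _
    · rw [hren]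
      exact hl _ (List.mem_map_of_mem (List.mem_ofFn.2 ⟨j, rfl⟩))
  obtain ⟨hc, hd⟩ := GCIBasic.ringKrullDim_fiber R (AwayPres.ext R n c F g) hrel q'' (hspan.le.trans hle)
  rw [← Ideal.map_ofList, show Ideal.ofList (List.ofFn (AwayPres.ext R n c F g)) =
    Ideal.span (Set.range (AwayPres.ext R n c F g)) from
      congrArg Ideal.span (Set.ext fun x => List.mem_ofFn), hspan, Ideal.map_ofList, List.length_ofFn] at hd
  have hlen : rs.length = c + 1 := by simp [rs]
  have hreg := (RelGCI.main rs (by omega) q'' (by rw [hlen]; exact hd) hle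
    (Localization.AtPrime q'')).1.toIsWeaklyRegular
  rw [show rs.map (algebraMap _ (Localization.AtPrime q'')) =
    algebraMap _ _ a :: ((List.ofFn F).map (rename Fin.castSucc)).map
      (algebraMap _ (Localization.AtPrime q'')) from rfl, isWeaklyRegular_cons_iff] at hreg
  obtain ⟨-, hreg⟩ := hreg
  obtain ⟨θ, hθ, hθker, hθπ⟩ := LocalQuot.exists_hom π hπ q (Localization.AtPrime q)
  rw [hker, Ideal.map_span, Set.image_singleton] at hθker
  letI := θ.toRingHom.toAlgebra
  let L := Localization.AtPrime q''
  let ι : L →ₗ[L] Localization.AtPrime q := Algebra.linearMap _ _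
  have hk : LinearMap.ker ι = algebraMap _ L a • (⊤ : Submodule L L) := by
    rw [← Submodule.ideal_span_singleton_smul, smul_eq_mul, Ideal.mul_top, ← hθker]
    rfl
  let e : QuotSMulTop (algebraMap _ L a) L ≃ₗ[L] Localization.AtPrime q :=
    (Submodule.quotEquivOfEq _ _ hk.symm).trans (ι.quotKerEquivOfSurjective hθ)
  rw [e.isWeaklyRegular_congr, ← isWeaklyRegular_map_algebraMap_iff (Localization.AtPrime q)] at hreg
  rw [List.map_map, List.map_map] at hreg
  rw [List.map_map]
  have hlist : ∀ f ∈ List.ofFn F,
      (algebraMap (Localization.Away g) (Localization.AtPrime q) ∘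
        algebraMap (MvPolynomial (Fin n) R) (Localization.Away g)) f =
      ((algebraMap L (Localization.AtPrime q) ∘
        algebraMap (MvPolynomial (Fin (n + 1)) R) (Localization.AtPrime q'')) ∘ rename Fin.castSucc) f := by
    intro f _
    change _ = θ _
    rw [hθπ, hren]
    rfl
  rw [List.map_congr_left hlist]
  exact hreg

/-- Equations of a relative global complete intersection on a basic open form a Koszul regular
sequence there. -/
theorem isKoszulRegularSeq_away (F : Fin c → MvPolynomial (Fin n) R) (g : MvPolynomial (Fin n) R)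
    (hrel : Synt.IsRelGCI R (n + 1) (c + 1) (AwayPres.ext R n c F g)) :
    LCI.IsKoszulRegularSeq (Localization.Away g)
      ((List.ofFn F).map (algebraMap (MvPolynomial (Fin n) R) (Localization.Away g))) :=
  KoszulLocal.isKoszulRegularSeq_of_local _ fun q hqm hl =>
    haveI := hqm.isPrime
    isWeaklyRegular_atPrime F g hrel q hl

end Groth.Agent.Lib.Synt92.KoszulChart
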