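import Mathlib.RingTheory.Regular.RegularSequence
import Mathlib.RingTheory.LocalProperties.Basic
import Mathlib.RingTheory.Ideal.Cotangent

/-!
# Syzygies of regular sequences and freeness of the conormal module
-/

universe u

open RingTheory.Sequence

namespace Groth.Agent.Lib.Synt92.Syzygy

variable {A : Type u} [CommRing A]

/-- Relations of a weakly regular sequence have coefficients in the ideal it generates. -/
theorem mem_span_of_sum_eq_zero {c : ℕ} (r : Fin c → A)
    (h : ∀ i : Fin c, ∀ x, r i * x ∈ Ideal.span (r '' {j | j < i}) → x ∈ Ideal.span (r '' {j | j < i}))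
    (a : Fin c → A) (ha : ∑ i, a i * r i = 0) (i : Fin c) : a i ∈ Ideal.span (Set.range r) := by
  induction c with
  | zero => exact i.elim0
  | succ c ih =>
    have hlast : r '' {j | j < Fin.last c} = Set.range fun j : Fin c => r j.castSucc := by
      ext x
      constructor
      · rintro ⟨j, hj, rfl⟩
        exact ⟨⟨j, hj⟩, rfl⟩
      · rintro ⟨j, rfl⟩
        exact ⟨j.castSucc, Fin.castSucc_lt_last j, rfl⟩
    rw [Fin.sum_univ_castSucc] at ha
    have h1 : a (Fin.last c) ∈ Ideal.span (Set.range fun j : Fin c => r j.castSucc) := by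
      have h2 := h (Fin.last c) (a (Fin.last c))
      rw [hlast] at h2
      refine h2 ?_
      rw [mul_comm, eq_neg_of_add_eq_zero_right ha]
      exact neg_mem (Ideal.sum_mem _ fun j _ => Ideal.mul_mem_left _ _ (Ideal.subset_span ⟨j, rfl⟩))
    have hle : Ideal.span (Set.range fun j : Fin c => r j.castSucc) ≤ Ideal.span (Set.range r) :=
      Ideal.span_mono (by rintro _ ⟨j, rfl⟩; exact ⟨_, rfl⟩)
    obtain ⟨b, hb⟩ := (Ideal.mem_span_range_iff_exists_fun).1 h1
    refine Fin.lastCases (hle h1) (fun j => ?_) i
    have h3 := ih (fun j : Fin c => r j.castSucc) (fun j x hx => by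
        have e : (fun j : Fin c => r j.castSucc) '' {k | k < j} = r '' {k | k < j.castSucc} := by
          ext y
          constructor
          · rintro ⟨k, hk, rfl⟩
            exact ⟨k.castSucc, Fin.castSucc_lt_castSucc_iff.2 hk, rfl⟩
          · rintro ⟨k, hk, rfl⟩
            obtain ⟨k', rfl⟩ := Fin.exists_castSucc_eq.2 (Fin.ne_last_of_lt hk)
            exact ⟨k', Fin.castSucc_lt_castSucc_iff.1 hk, rfl⟩
        rw [e] at hx ⊢
        exact h _ x hx)
      (fun j => a j.castSucc + b j * r (Fin.last c)) (by
        simp only [add_mul, Finset.sum_add_distrib]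
        have : ∑ x, b x * r (Fin.last c) * r x.castSucc = a (Fin.last c) * r (Fin.last c) := by
          rw [← hb, Finset.sum_mul]
          exact Finset.sum_congr rfl fun x _ => by ring
        rw [this, ha]) j
    have h4 := sub_mem (hle h3) ((Ideal.span (Set.range r)).mul_mem_left (b j)
      (Ideal.subset_span (Set.mem_range_self (Fin.last c))))
    simpa using h4

/-- The regularity condition in element form. -/
theorem regular_cond {c : ℕ} (r : Fin c → A) (h : IsWeaklyRegular A (List.ofFn r)) (i : Fin c) (x : A)
    (hx : r i * x ∈ Ideal.span (r '' {j | j < i})) : x ∈ Ideal.span (r '' {j | j < i}) := by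
  have h1 := h.regular_mod_prev i (by simpa using i.2)
  have e : Ideal.ofList ((List.ofFn r).take i) = Ideal.span (r '' {j | j < i}) := by
    refine congrArg Ideal.span (Set.ext fun y => ?_)
    simp only [Set.mem_ofPred_eq, List.mem_iff_getElem, List.length_take, List.length_ofFn,
      List.getElem_take, List.getElem_ofFn, Set.mem_image, lt_min_iff]
    constructor
    · rintro ⟨k, ⟨hk, hkc⟩, rfl⟩
      exact ⟨⟨k, hkc⟩, hk, rfl⟩
    · rintro ⟨k, hk, rfl⟩
      exact ⟨k, ⟨hk, k.2⟩, rfl⟩
  simp only [List.getElem_ofFn] at h1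
  rw [e] at h1
  have h2 := mem_of_isSMulRegular_quotient_of_smul_mem h1 (x := x) (by
    simpa using hx)
  simpa using h2

/-- The classes of a locally weakly regular sequence are linearly independent in the conormal
module. -/
theorem coeff_mem_of_sum_mem_sq {c : ℕ} (r : Fin c → A)
    (h : ∀ (q : Ideal A) (_ : q.IsMaximal), Ideal.span (Set.range r) ≤ q →
      IsWeaklyRegular (Localization.AtPrime q) (List.ofFn fun i => algebraMap A (Localization.AtPrime q) (r i)))
    (a : Fin c → A) (ha : ∑ i, a i * r i ∈ Ideal.span (Set.range r) ^ 2) (i : Fin c) :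
    a i ∈ Ideal.span (Set.range r) := by
  obtain ⟨b, hbI, hb⟩ : ∃ b : Fin c → A, (∀ i, b i ∈ Ideal.span (Set.range r)) ∧
      ∑ i, b i * r i = ∑ i, a i * r i := by
    rw [sq] at ha
    obtain ⟨b, hbI, hb⟩ := (Submodule.mem_ideal_smul_span_iff_exists_sum (R := A) (Ideal.span (Set.range r)) r _).1
      (show ∑ i, a i * r i ∈ Ideal.span (Set.range r) • Submodule.span A (Set.range r) from ha)
    refine ⟨b, hbI, ?_⟩
    rw [← hb, Finsupp.sum_fintype _ _ (by simp)]
    rfl
  have key : a i - b i ∈ Ideal.span (Set.range r) := by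
    refine Ideal.mem_of_localization_maximal fun q hq => ?_
    rw [Ideal.map_span, ← Set.range_comp]
    by_cases hle : Ideal.span (Set.range r) ≤ q
    · refine mem_span_of_sum_eq_zero _ (regular_cond _ (h q hq hle))
        (fun j => algebraMap A (Localization.AtPrime q) (a j - b j)) ?_ i
      simp only [← map_mul, ← map_sum, sub_mul, Finset.sum_sub_distrib, hb,
        sub_self, map_zero]
    · obtain ⟨f, hf, hfq⟩ := SetLike.not_le_iff_exists.1 hle
      have ht : Ideal.span (Set.range (algebraMap A (Localization.AtPrime q) ∘ r)) = ⊤ := by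
        refine Ideal.eq_top_of_isUnit_mem _ ?_
          (IsLocalization.map_units (Localization.AtPrime q) (⟨f, hfq⟩ : q.primeCompl))
        rw [Set.range_comp, ← Ideal.map_span]
        exact Ideal.mem_map_of_mem _ hf
      rw [ht]
      exact Submodule.mem_top
  simpa using add_mem key (hbI i)

end Groth.Agent.Lib.Synt92.Syzygy
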