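import Groth.Agent.Lib.Synt92.Congr
import Groth.Agent.Lib.Synt92.AwayPres
import Mathlib.RingTheory.Polynomial.Quotient

/-!
# Reduction of a presentation modulo an ideal of the base
-/

universe u

open MvPolynomial

namespace Groth.Agent.Lib.Synt92.ReductionEquiv

variable {R : Type u} [CommRing R] {n c : ℕ}

/-- The reduction of a presented algebra is presented by the reduced equations. -/
theorem exists_hom (I : Ideal R) (F : Fin c → MvPolynomial (Fin n) R) :
    ∃ Φ : Synt.RelGCIRing R n c F →ₐ[R]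
        Synt.RelGCIRing (R ⧸ I) n c (fun i => MvPolynomial.map (Ideal.Quotient.mk I) (F i)),
      Function.Surjective Φ ∧ RingHom.ker Φ.toRingHom = I.map (algebraMap R (Synt.RelGCIRing R n c F)) := by
  set J := Ideal.span (Set.range fun i => MvPolynomial.map (Ideal.Quotient.mk I) (F i))
  let χ : MvPolynomial (Fin n) R →+* MvPolynomial (Fin n) (R ⧸ I) ⧸ J :=
    (Ideal.Quotient.mk J).comp (MvPolynomial.map (Ideal.Quotient.mk I))
  have hχ : ∀ x ∈ Ideal.span (Set.range F), χ x = 0 := by
    intro x hx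
    have : Ideal.span (Set.range F) ≤ RingHom.ker χ := by
      rw [Ideal.span_le]
      rintro _ ⟨i, rfl⟩
      exact Ideal.Quotient.eq_zero_iff_mem.2 (Ideal.subset_span ⟨i, rfl⟩)
    exact this hx
  let Φ : Synt.RelGCIRing R n c F →ₐ[R] MvPolynomial (Fin n) (R ⧸ I) ⧸ J :=
    { Ideal.Quotient.lift _ χ hχ with
      commutes' := fun r => by
        change χ (C r) = _
        simp [χ]
        rfl }
  have hΦ : ∀ x, Φ (Ideal.Quotient.mk _ x) = χ x := fun _ => rfl
  refine ⟨Φ, ?_, le_antisymm ?_ ?_⟩
  · intro y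
    obtain ⟨y, rfl⟩ := Ideal.Quotient.mk_surjective y
    obtain ⟨x, rfl⟩ := MvPolynomial.map_surjective (Ideal.Quotient.mk I) Ideal.Quotient.mk_surjective y
    exact ⟨Ideal.Quotient.mk _ x, rfl⟩
  · intro a ha
    obtain ⟨x, rfl⟩ := Ideal.Quotient.mk_surjective a
    have h1 : MvPolynomial.map (Ideal.Quotient.mk I) x ∈ J := Ideal.Quotient.eq_zero_iff_mem.1 ha
    have h2 : J = (Ideal.span (Set.range F)).map (MvPolynomial.map (Ideal.Quotient.mk I)) := by
      rw [Ideal.map_span, ← Set.range_comp]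
      rfl
    rw [h2] at h1
    obtain ⟨y, hy, hxy⟩ := (Ideal.mem_map_iff_of_surjective _
      (MvPolynomial.map_surjective _ Ideal.Quotient.mk_surjective)).1 h1
    have h3 : x - y ∈ I.map (C : R →+* MvPolynomial (Fin n) R) := by
      have : x - y ∈ RingHom.ker (MvPolynomial.map (σ := Fin n) (Ideal.Quotient.mk I)) := by
        rw [RingHom.mem_ker, map_sub, hxy, sub_self]
      rwa [MvPolynomial.ker_map, Ideal.mk_ker] at this
    have h4 := Ideal.mem_map_of_mem (Ideal.Quotient.mk (Ideal.span (Set.range F))) h3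
    rw [Ideal.map_map, map_sub, Ideal.Quotient.eq_zero_iff_mem.2 hy, sub_zero] at h4
    exact h4
  · rw [Ideal.map_le_iff_le_comap]
    intro r hr
    change Φ (algebraMap R _ r) = 0
    rw [Φ.commutes, IsScalarTower.algebraMap_apply R (R ⧸ I), Ideal.Quotient.algebraMap_eq,
      Ideal.Quotient.eq_zero_iff_mem.2 hr, map_zero]

/-- The reduction of a basic open around the special fibre is the special fibre. -/
theorem nonempty_equiv (I : Ideal R) (F : Fin c → MvPolynomial (Fin n) R) (w : MvPolynomial (Fin n) R)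
    (hw : Ideal.Quotient.mk (I.map (algebraMap R (Synt.RelGCIRing R n c F)))
      (Ideal.Quotient.mk (Ideal.span (Set.range F)) w) = 1)
    {B : Type u} [CommRing B] [Algebra R B]
    (e : B ≃ₐ[R] Synt.RelGCIRing (R ⧸ I) n c (fun i => MvPolynomial.map (Ideal.Quotient.mk I) (F i)))
    {C' : Type u} [CommRing C'] [Algebra R C']
    (e' : Localization.Away (Ideal.Quotient.mk (Ideal.span (Set.range F)) w) ≃ₐ[R] C') :
    Nonempty (B ≃ₐ[R] C' ⧸ I.map (algebraMap R C')) := by
  obtain ⟨Φ, hΦ, hker⟩ := exists_hom I F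
  set g := Ideal.Quotient.mk (Ideal.span (Set.range F)) w
  have hg : Φ g = 1 := by
    rw [← map_one Φ, ← sub_eq_zero, ← map_sub]
    have : g - 1 ∈ RingHom.ker Φ.toRingHom := by
      rw [hker, ← Ideal.Quotient.eq_zero_iff_mem, map_sub, hw, map_one, sub_self]
    exact this
  have hu : ∀ y : Submonoid.powers g, IsUnit (Φ y) := by
    rintro ⟨_, m, rfl⟩
    simp [map_pow, hg]
  let Ψ : Localization.Away g →ₐ[R] _ := IsLocalization.liftAlgHom (A := R) hu
  have hΨ : ∀ a, Ψ (algebraMap _ _ a) = Φ a := fun a => IsLocalization.lift_eq hu a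
  let χ := e.symm.toAlgHom.comp (Ψ.comp e'.symm.toAlgHom)
  have hχ : Function.Surjective χ := fun b => by
    obtain ⟨a, ha⟩ := hΦ (e b)
    refine ⟨e' (algebraMap _ _ a), ?_⟩
    simp [χ, hΨ, ha]
  have hkerχ : RingHom.ker χ.toRingHom = I.map (algebraMap R C') := by
    refine le_antisymm (fun z hz => ?_) ?_
    · obtain ⟨z, rfl⟩ := e'.surjective z
      have hz' : Ψ z = 0 := by
        have := (map_eq_zero_iff e.symm e.symm.injective).1 (show e.symm (Ψ (e'.symm (e' z))) = 0 from hz)
        simpa using this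
      obtain ⟨⟨a, ⟨_, m, rfl⟩⟩, ha⟩ := IsLocalization.surj (Submonoid.powers g) z
      have h1 : a ∈ RingHom.ker Φ.toRingHom := by
        change Φ a = 0
        rw [← hΨ, ← ha, map_mul Ψ, hz', zero_mul]
      rw [hker] at h1
      have h2 : z ∈ I.map (algebraMap R (Localization.Away g)) := by
        refine (Ideal.mul_unit_mem_iff_mem _ (IsLocalization.map_units _ (⟨_, m, rfl⟩ : Submonoid.powers g))).1 ?_
        rw [ha, IsScalarTower.algebraMap_eq R (Synt.RelGCIRing R n c F) (Localization.Away g), ← Ideal.map_map]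
        exact Ideal.mem_map_of_mem _ h1
      have h3 := Ideal.mem_map_of_mem e'.toAlgHom.toRingHom h2
      rw [Ideal.map_map, show e'.toAlgHom.toRingHom.comp (algebraMap R (Localization.Away g)) = algebraMap R C' from
        RingHom.ext fun r => e'.commutes r] at h3
      exact h3
    · rw [Ideal.map_le_iff_le_comap]
      intro r hr
      change χ (algebraMap R C' r) = 0
      rw [χ.commutes]
      have : algebraMap R (Synt.RelGCIRing (R ⧸ I) n c
          (fun i => MvPolynomial.map (Ideal.Quotient.mk I) (F i))) r = 0 := by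
        rw [IsScalarTower.algebraMap_apply R (R ⧸ I), Ideal.Quotient.algebraMap_eq,
          Ideal.Quotient.eq_zero_iff_mem.2 hr, map_zero]
      rw [← e.symm.commutes r, this, map_zero]
  exact ⟨((Ideal.quotientEquivAlgOfEq R hkerχ).symm.trans
    (Ideal.quotientKerAlgEquivOfSurjective hχ)).symm⟩

end Groth.Agent.Lib.Synt92.ReductionEquiv
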