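import Groth.Agent.Lib.Synt92.AwayPres
import Groth.Agent.Lib.Synt92.GCIBasic
import Groth.Agent.Lib.Synt92.FieldDim
import Groth.Agent.H20.FibreDimSet

/-!
# Basic opens where the fibres have the expected dimension
-/

universe u

open MvPolynomial TensorProduct CategoryTheory AlgebraicGeometry

namespace Groth.Agent.Lib.Synt92.RelChart

open Groth.Agent.H20.FibreDimBC Groth.Agent.H20.FibreDimSet

variable {R S : Type u} [CommRing R] [CommRing S] [Algebra R S] [Algebra.FiniteType R S]

/-- The fibre dimension does not change on a basic open. -/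
theorem dimAt_away (g : S) (Q : PrimeSpectrum (Localization.Away g)) :
    (Dim.Local.dimAt (PrimeSpectrum.comap (algebraMap R (Localization.Away g)) Q).asIdeal.ResidueField
        (PrimeSpectrum.preimageHomeomorphFiber R (Localization.Away g) _ ⟨Q, rfl⟩).asIdeal) =
      fdim R S (Q.asIdeal.comap (algebraMap S (Localization.Away g))) := by
  haveI : Algebra.FiniteType S (Localization.Away g) :=
    IsLocalization.finiteType_of_monoid_fg (Submonoid.powers g) _
  haveI : Algebra.FiniteType R (Localization.Away g) :=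
    Algebra.FiniteType.trans (R := R) (S := S) (A := Localization.Away g) ‹Algebra.FiniteType R S› ‹_›
  let w : Spec (CommRingCat.of (Localization.Away g)) ⟶ Spec (CommRingCat.of S) :=
    Spec.map (CommRingCat.ofHom (algebraMap S (Localization.Away g)))
  haveI : IsOpenImmersion w := IsOpenImmersion.of_isLocalization g
  have h1 := Groth.Agent.Lib.FibreDim.Chart.fibreDimAt_eq_dimAt (R := R) (A := Localization.Away g)
    (Spec.map (CommRingCat.ofHom (algebraMap R S))) (𝟙 _) w (by
      rw [Category.comp_id, ← Spec.map_comp, ← CommRingCat.ofHom_comp, ← IsScalarTower.algebraMap_eq]) Q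
  have h2 := fibreDimAt_specMap (R := R) (S := S)
    (PrimeSpectrum.comap (algebraMap S (Localization.Away g)) Q)
  have h3 := h1.symm.trans h2
  exact_mod_cast h3

/-- A bound on the fibre dimensions on a basic open bounds the fibres of the basic open. -/
theorem ringKrullDim_fibre_away_le (g : S) (m : ℕ)
    (H : ∀ (q : Ideal S) [q.IsPrime], g ∉ q → fdim R S q ≤ m) (p : PrimeSpectrum R) :
    ringKrullDim (p.asIdeal.Fiber (Localization.Away g)) ≤ (m : WithBot ℕ∞) := by
  haveI : Algebra.FiniteType S (Localization.Away g) :=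
    IsLocalization.finiteType_of_monoid_fg (Submonoid.powers g) _
  haveI : Algebra.FiniteType R (Localization.Away g) :=
    Algebra.FiniteType.trans (R := R) (S := S) (A := Localization.Away g) ‹Algebra.FiniteType R S› ‹_›
  refine (Dim.Local.ringKrullDim_le_iff p.asIdeal.ResidueField m).2 fun P hP => ?_
  haveI : P.IsPrime := hP.1.1
  obtain ⟨⟨Q, hQ⟩, hP'⟩ :=
    (PrimeSpectrum.preimageHomeomorphFiber R (Localization.Away g) p).surjective ⟨P, inferInstance⟩
  refine (Dim.Local.dimQ_le_dimAt_of_le p.asIdeal.ResidueField (le_refl P)).trans ?_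
  obtain rfl : PrimeSpectrum.comap (algebraMap R (Localization.Away g)) Q = p := hQ
  have h := dimAt_away (R := R) g Q
  rw [show (PrimeSpectrum.preimageHomeomorphFiber R (Localization.Away g) _ ⟨Q, rfl⟩).asIdeal = P from
    congrArg PrimeSpectrum.asIdeal hP'] at h
  rw [h]
  exact H _ fun hg => Ideal.IsPrime.ne_top' (Ideal.eq_top_of_isUnit_mem Q.asIdeal hg
    (IsLocalization.Away.algebraMap_isUnit g))

variable (S) in
/-- The fibre dimension at a point is at most the dimension of the fibre. -/
theorem fdim_le_of_ringKrullDim_le (q : Ideal S) [q.IsPrime] (m : ℕ)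
    (h : ringKrullDim ((q.under R).Fiber S) ≤ (m : WithBot ℕ∞)) : fdim R S q ≤ m :=
  (Dim.Local.dimAt_le_iff (q.under R).ResidueField (fibrePoint R S q).asIdeal m).2 fun p hp _ =>
    (Dim.Local.ringKrullDim_le_iff (q.under R).ResidueField m).1 h p hp

/-- The dimension of a complete intersection in affine space. -/
theorem ringKrullDim_eq {k : Type u} [Field k] {n c : ℕ} (hc : c ≤ n) {A : Type u} [CommRing A]
    [Algebra k A] [Nontrivial A] (φ : MvPolynomial (Fin n) k →ₐ[k] A) (hφ : Function.Surjective φ)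
    (r : Fin c → MvPolynomial (Fin n) k) (hker : RingHom.ker φ.toRingHom = Ideal.span (Set.range r))
    (hdim : ringKrullDim A ≤ ((n - c : ℕ) : WithBot ℕ∞)) :
    ringKrullDim A = ((n - c : ℕ) : WithBot ℕ∞) := by
  haveI : Algebra.FiniteType k A := Algebra.FiniteType.of_surjective φ hφ
  obtain ⟨Q, hQ⟩ := Ideal.exists_maximal A
  haveI : Q.IsPrime := hQ.isPrime
  have hd := FieldDim.dimAt_eq' hc φ hφ r hker hdim Q
  obtain ⟨p, hp, -, hpd⟩ := Dim.Local.exists_minimalPrimes_dimAt_eq k Q
  haveI : p.IsPrime := hp.1.1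
  refine le_antisymm hdim ?_
  rw [← hd, ← hpd]
  exact Dim.Local.dimQ_le_ringKrullDim k p

variable (R) in
/-- Basic opens with small fibres are relative global complete intersections. -/
theorem isRelGCI_ext {n c : ℕ} (hc : c ≤ n) (F : Fin c → MvPolynomial (Fin n) R)
    (h : MvPolynomial (Fin n) R)
    (H : ∀ (q : Ideal (Synt.RelGCIRing R n c F)) [q.IsPrime],
      Ideal.Quotient.mk (Ideal.span (Set.range F)) h ∉ q → fdim R (Synt.RelGCIRing R n c F) q ≤ n - c) :
    Synt.IsRelGCI R (n + 1) (c + 1) (AwayPres.ext R n c F h) := by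
  intro p hp
  obtain ⟨e⟩ := AwayPres.nonempty_equiv R n c F h
  refine ⟨Nat.succ_le_succ hc, ?_⟩
  have e' := Algebra.TensorProduct.congr (R := R) (S := p.asIdeal.ResidueField)
    (AlgEquiv.refl (A₁ := p.asIdeal.ResidueField)) e
  have he : ringKrullDim (p.asIdeal.Fiber (Localization.Away (Ideal.Quotient.mk (Ideal.span (Set.range F)) h))) =
      ringKrullDim (p.asIdeal.Fiber (Synt.RelGCIRing R (n + 1) (c + 1) (AwayPres.ext R n c F h))) :=
    ringKrullDim_eq_of_ringEquiv e'.toRingEquiv
  have hle := he.ge.trans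
    (ringKrullDim_fibre_away_le (R := R) _ (n - c) H p)
  rw [← Nat.add_sub_add_right n 1 c] at hle
  obtain ⟨φ, hφ, hker⟩ := GCIBasic.exists_presentation R (AwayPres.ext R n c F h) p.asIdeal
  haveI := hp
  have hres := @ringKrullDim_eq p.asIdeal.ResidueField _ (n + 1) (c + 1) (Nat.succ_le_succ hc)
    (p.asIdeal.Fiber (Synt.RelGCIRing R (n + 1) (c + 1) (AwayPres.ext R n c F h))) _ _ hp φ hφ
    (fun i => MvPolynomial.map (algebraMap R p.asIdeal.ResidueField) (AwayPres.ext R n c F h i)) hker hle
  exact hres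

omit [Algebra.FiniteType R S] in
/-- An open set containing the points over a prime contains a basic open containing them. -/
theorem exists_unit_of_fibre_subset (p : Ideal R) [p.IsPrime] (U : Set (PrimeSpectrum S))
    (hU : IsOpen U) (hsub : ∀ q : PrimeSpectrum S, q.asIdeal.under R = p → q ∈ U) :
    ∃ g : S, IsUnit ((1 : p.ResidueField) ⊗ₜ[R] g : p.Fiber S) ∧
      ∀ q : PrimeSpectrum S, g ∉ q.asIdeal → q ∈ U := by
  obtain ⟨J, hJ⟩ := (PrimeSpectrum.isClosed_iff_zeroLocus_ideal _).1 hU.isClosed_compl
  by_cases hmeet : ∃ r : R, r ∉ p ∧ algebraMap R S r ∈ J ⊔ p.map (algebraMap R S)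
  · obtain ⟨r, hr, hrm⟩ := hmeet
    obtain ⟨j, hj, i, hi, hji⟩ := Submodule.mem_sup.1 hrm
    refine ⟨j, ?_, fun q hq => ?_⟩
    · have hi0 : ((1 : p.ResidueField) ⊗ₜ[R] i : p.Fiber S) = 0 := by
        have hle : p.map (algebraMap R S) ≤ RingHom.ker
            (Algebra.TensorProduct.includeRight (R := R) (A := p.ResidueField) (B := S)).toRingHom :=
          Ideal.map_le_iff_le_comap.2 fun x hx => by
            change (1 : p.ResidueField) ⊗ₜ[R] algebraMap R S x = 0
            rw [← Algebra.TensorProduct.tmul_one_eq_one_tmul,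
              Ideal.algebraMap_residueField_eq_zero.2 hx, TensorProduct.zero_tmul]
        exact hle hi
      have : ((1 : p.ResidueField) ⊗ₜ[R] j : p.Fiber S) =
          algebraMap p.ResidueField (p.Fiber S) (algebraMap R p.ResidueField r) := by
        rw [Algebra.TensorProduct.algebraMap_apply]
        simp only [Algebra.algebraMap_self, RingHom.id_apply]
        rw [Algebra.TensorProduct.tmul_one_eq_one_tmul, ← hji, TensorProduct.tmul_add, hi0, add_zero]
      rw [this]
      exact (IsUnit.mk0 _ fun h0 => hr (Ideal.algebraMap_residueField_eq_zero.1 h0)).map _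
    · by_contra hqU
      have : q ∈ PrimeSpectrum.zeroLocus (J : Set S) := hJ ▸ hqU
      exact hq (this hj)
  · push Not at hmeet
    have hdisj : Disjoint ((J ⊔ p.map (algebraMap R S) : Ideal S) : Set S)
        (p.primeCompl.map (algebraMap R S) : Set S) := by
      rw [Set.disjoint_left]
      rintro _ hx ⟨r, hr, rfl⟩
      exact hmeet r hr hx
    obtain ⟨q, hq, hle, hqd⟩ := Ideal.exists_le_prime_disjoint _ _ hdisj
    have hqp : q.under R = p := le_antisymm (fun r hr => by
      by_contra hrp
      exact Set.disjoint_left.1 hqd hr ⟨r, hrp, rfl⟩)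
      (Ideal.map_le_iff_le_comap.1 (le_sup_right.trans hle))
    have hmem : (⟨q, hq⟩ : PrimeSpectrum S) ∈ PrimeSpectrum.zeroLocus (J : Set S) :=
      le_sup_left.trans hle
    rw [← hJ] at hmem
    exact absurd (hsub ⟨q, hq⟩ hqp) hmem

end Groth.Agent.Lib.Synt92.RelChart
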