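import Groth.Agent.Lib.LocalFlat.InjMod
import Groth.Agent.Lib.LocalFlat.SmulTop
import Mathlib.RingTheory.Regular.RegularSequence
import Mathlib.RingTheory.QuotSMulTop

/-!
# Sequences regular on the closed fibre lift, with flat quotients
-/

universe u

open IsLocalRing RingTheory.Sequence TensorProduct Groth.Agent.Lib.LocalFlat
open scoped Pointwise

namespace Groth.Agent.Lib.Synt92.FibreSeq

variable {R : Type u} [CommRing R] [IsLocalRing R] {S : Type u} [CommRing S] [IsLocalRing S]
  [IsNoetherianRing S] [Algebra R S] [IsLocalHom (algebraMap R S)]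

omit [IsLocalRing S] [IsNoetherianRing S] [IsLocalHom (algebraMap R S)] in
theorem smul_top_eq {N : Type u} [AddCommGroup N] [Module S N] [Module R N] [IsScalarTower R S N]
    (x : N) : x ∈ (maximalIdeal R).map (algebraMap R S) • (⊤ : Submodule S N) ↔
      x ∈ maximalIdeal R • (⊤ : Submodule R N) := by
  rw [← Submodule.restrictScalars_mem R, Ideal.smul_restrictScalars, Submodule.restrictScalars_top]

/-- One step: an element regular on the closed fibre is regular with flat cokernel. -/
theorem step (N : Type u) [AddCommGroup N] [Module S N] [Module R N] [IsScalarTower R S N]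
    [Module.Finite S N] [Module.Flat R N] (g : S)
    (hg : IsSMulRegular ((S ⧸ (maximalIdeal R).map (algebraMap R S)) ⊗[S] N) g) :
    IsSMulRegular N g ∧ Module.Flat R (QuotSMulTop g N) := by
  let u : N →ₗ[R] N := (LinearMap.lsmul S N g).restrictScalars R
  have h : Function.Injective (u.lTensor (IsLocalRing.ResidueField R)) := by
    change Function.Injective (u.lTensor (R ⧸ maximalIdeal R))
    rw [SmulTop.lTensor_quotient_injective_iff]
    intro x hx
    rw [← smul_top_eq (S := S), ← SmulTop.one_tmul_eq_zero_iff] at hx ⊢
    refine hg ?_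
    change g • ((1 : S ⧸ _) ⊗ₜ[S] x) = g • 0
    rw [smul_zero, ← TensorProduct.tmul_smul]
    exact hx
  refine ⟨InjMod.injective_of_injective_mod u h S, ?_⟩
  haveI := InjMod.flat_coker u h S
  have hr : LinearMap.range u = (g • (⊤ : Submodule S N)).restrictScalars R := by
    ext x
    simp [u, Submodule.mem_smul_pointwise_iff_exists]
  exact Module.Flat.of_linearEquiv ((Submodule.quotEquivOfEq _ _ hr).trans
    (Submodule.Quotient.restrictScalarsEquiv R _)).symm

/-- A sequence weakly regular on the closed fibre is weakly regular with flat quotients. -/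
theorem main (N : Type u) [AddCommGroup N] [Module S N] [Module R N] [IsScalarTower R S N]
    [Module.Finite S N] [Module.Flat R N] (rs : List S)
    (h : IsWeaklyRegular ((S ⧸ (maximalIdeal R).map (algebraMap R S)) ⊗[S] N) rs) :
    IsWeaklyRegular N rs ∧
      ∀ i, Module.Flat R (N ⧸ Ideal.ofList (rs.take i) • (⊤ : Submodule S N)) := by
  have h0 : Module.Flat R (N ⧸ Ideal.ofList ([] : List S) • (⊤ : Submodule S N)) := by
    rw [Ideal.ofList_nil, Submodule.bot_smul]
    exact Module.Flat.of_linearEquiv ((Submodule.quotEquivOfEqBot (⊥ : Submodule S N) rfl).restrictScalars R)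
  induction rs generalizing N with
  | nil => exact ⟨IsWeaklyRegular.nil _ _, fun i => by rw [List.take_nil]; exact h0⟩
  | cons g rs ih =>
    rw [isWeaklyRegular_cons_iff] at h
    obtain ⟨hreg, hflat⟩ := step N g h.1
    have h2 := ((QuotSMulTop.tensorQuotSMulTopEquivQuotSMulTop g _ N).isWeaklyRegular_congr rs).2 h.2
    have hnil : Module.Flat R (QuotSMulTop g N ⧸
        Ideal.ofList ([] : List S) • (⊤ : Submodule S (QuotSMulTop g N))) := by
      rw [Ideal.ofList_nil, Submodule.bot_smul]
      exact Module.Flat.of_linearEquiv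
        ((Submodule.quotEquivOfEqBot (⊥ : Submodule S (QuotSMulTop g N)) rfl).restrictScalars R)
    obtain ⟨hw, hfl⟩ := ih (QuotSMulTop g N) h2 hnil
    refine ⟨(isWeaklyRegular_cons_iff N g rs).2 ⟨hreg, hw⟩, fun i => ?_⟩
    cases i with
    | zero => rw [List.take_zero]; exact h0
    | succ i =>
      rw [List.take_succ_cons]
      haveI := hfl i
      exact Module.Flat.of_linearEquiv
        ((Submodule.quotOfListConsSMulTopEquivQuotSMulTopInner N g (rs.take i)).restrictScalars R)

end Groth.Agent.Lib.Synt92.FibreSeq
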