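import Groth.Agent.Lib.Synt92.FieldSeq
import Groth.Agent.Lib.Synt92.FibreSeq
import Mathlib.RingTheory.Flat.Localization
import Mathlib.RingTheory.Polynomial.Quotient
import Mathlib.Algebra.MvPolynomial.Eval

/-!
# Fibrewise regular sequences of polynomials over a Noetherian local ring
-/

universe u

open MvPolynomial IsLocalRing RingTheory.Sequence TensorProduct

namespace Groth.Agent.Lib.Synt92.RelSeq

/-- Polynomials cutting the expected dimension in the closed fibre form a regular sequence with
flat quotients, at a prime over the maximal ideal. -/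
theorem main {R : Type u} [CommRing R] [IsLocalRing R] [IsNoetherianRing R] {n : ℕ}
    (rs : List (MvPolynomial (Fin n) R)) (hn : rs.length ≤ n)
    (hdim : ringKrullDim (MvPolynomial (Fin n) (IsLocalRing.ResidueField R) ⧸
      Ideal.ofList (rs.map (MvPolynomial.map (IsLocalRing.residue R)))) ≤
        ((n - rs.length : ℕ) : WithBot ℕ∞))
    (q : Ideal (MvPolynomial (Fin n) R)) [q.IsPrime] (hq : q.comap C = maximalIdeal R)
    (hrs : Ideal.ofList rs ≤ q)
    (S : Type u) [CommRing S] [Algebra (MvPolynomial (Fin n) R) S] [IsLocalization.AtPrime S q]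
    [Algebra R S] [IsScalarTower R (MvPolynomial (Fin n) R) S] :
    IsRegular S (rs.map (algebraMap (MvPolynomial (Fin n) R) S)) ∧
      ∀ i, Module.Flat R (S ⧸ Ideal.ofList
        ((rs.map (algebraMap (MvPolynomial (Fin n) R) S)).take i)) := by
  haveI : IsLocalRing S := IsLocalization.AtPrime.isLocalRing S q
  haveI : IsNoetherianRing S := IsLocalization.isNoetherianRing q.primeCompl S inferInstance
  have hCq : ∀ r : R, r ∈ maximalIdeal R ↔ C r ∈ q := fun r => by rw [← hq]; rfl
  haveI : IsLocalHom (algebraMap R S) := ⟨fun r hr => by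
    by_contra hu
    have h1 : C r ∈ q := (hCq r).1 (by rwa [mem_maximalIdeal, mem_nonunits_iff])
    rw [IsScalarTower.algebraMap_apply R (MvPolynomial (Fin n) R) S,
      MvPolynomial.algebraMap_eq] at hr
    exact (IsLocalization.AtPrime.isUnit_to_map_iff S q _).1 hr h1⟩
  haveI : Module.Flat (MvPolynomial (Fin n) R) S := IsLocalization.flat S q.primeCompl
  haveI : Module.Flat R S := Module.Flat.trans R (MvPolynomial (Fin n) R) S
  let res : MvPolynomial (Fin n) R →+* MvPolynomial (Fin n) (IsLocalRing.ResidueField R) :=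
    MvPolynomial.map (IsLocalRing.residue R)
  have hres : Function.Surjective res := map_surjective _ IsLocalRing.residue_surjective
  have hkerq : RingHom.ker res ≤ q := by
    rw [MvPolynomial.ker_map, IsLocalRing.ker_residue, ← hq]
    exact Ideal.map_comap_le
  set I : Ideal S := (maximalIdeal R).map (algebraMap R S) with hI
  have hkerI : (RingHom.ker res).map (algebraMap (MvPolynomial (Fin n) R) S) = I := by
    rw [MvPolynomial.ker_map, IsLocalRing.ker_residue, Ideal.map_map, hI,
      IsScalarTower.algebraMap_eq R (MvPolynomial (Fin n) R) S, MvPolynomial.algebraMap_eq]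
  let g : S →+* S ⧸ I := Ideal.Quotient.mk I
  letI algB : Algebra (MvPolynomial (Fin n) (IsLocalRing.ResidueField R)) (S ⧸ I) :=
    (RingHom.liftOfSurjective res hres ⟨g.comp (algebraMap (MvPolynomial (Fin n) R) S), fun x hx => by
      rw [RingHom.mem_ker, RingHom.comp_apply, Ideal.Quotient.eq_zero_iff_mem, ← hkerI]
      exact Ideal.mem_map_of_mem _ hx⟩).toAlgebra
  have hres' : ∀ x, algebraMap _ (S ⧸ I) (res x) = g (algebraMap (MvPolynomial (Fin n) R) S x) :=
    fun x => RingHom.liftOfSurjective_comp_apply res hres _ x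
  haveI hQ : (q.map res).IsPrime := Ideal.map_isPrime_of_surjective hres hkerq
  have hmem : ∀ y, res y ∈ q.map res ↔ y ∈ q := fun y => by
    refine ⟨fun h => ?_, Ideal.mem_map_of_mem _⟩
    have : y ∈ (q.map res).comap res := h
    rw [Ideal.comap_map_of_surjective _ hres] at this
    exact (sup_le le_rfl hkerq) this
  haveI : IsLocalization.AtPrime (S ⧸ I) (q.map res) := by
    have h1 : IsLocalization (q.primeCompl.map res) (S ⧸ I) :=
      IsLocalization.of_surjective (R := MvPolynomial (Fin n) R) (S := S) q.primeCompl res hres g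
        Ideal.Quotient.mk_surjective (RingHom.ext fun x => (hres' x).symm)
        (by rw [hkerI]; exact (Ideal.mk_ker).le)
    have h2 : q.primeCompl.map res = (q.map res).primeCompl := by
      ext x
      obtain ⟨y, rfl⟩ := hres x
      simp only [Submonoid.mem_map, Ideal.mem_primeCompl_iff]
      exact ⟨fun ⟨z, hz, hzy⟩ h => hz ((hmem z).1 (hzy ▸ h)), fun h => ⟨y, fun hy => h ((hmem y).2 hy), rfl⟩⟩
    rw [h2] at h1
    exact h1
  have hfib := FieldSeq.isRegular (rs.map res) (by rwa [List.length_map])
    (by rwa [List.length_map]) (q.map res)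
    (by rw [← Ideal.map_ofList]; exact Ideal.map_mono hrs) (S ⧸ I)
  rw [List.map_map, show (algebraMap _ (S ⧸ I) ∘ res : _ → S ⧸ I) =
    algebraMap S (S ⧸ I) ∘ algebraMap (MvPolynomial (Fin n) R) S from funext hres',
    ← List.map_map] at hfib
  have h3 := (isWeaklyRegular_map_algebraMap_iff (S ⧸ I) (S ⧸ I) _).1 hfib.toIsWeaklyRegular
  have h4 := (((TensorProduct.rid S (S ⧸ I)).isWeaklyRegular_congr _).2 h3)
  obtain ⟨hw, hflat⟩ := FibreSeq.main (R := R) S _ h4
  refine ⟨(IsLocalRing.isRegular_iff_isWeaklyRegular_of_subset_maximalIdeal ?_).2 hw, fun i => ?_⟩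
  · intro r hr
    obtain ⟨x, hx, rfl⟩ := List.mem_map.1 hr
    exact (IsLocalization.AtPrime.to_map_mem_maximal_iff S q x).2 (hrs (Ideal.subset_span hx))
  · haveI := hflat i
    let J : Ideal S := Ideal.ofList ((rs.map (algebraMap (MvPolynomial (Fin n) R) S)).take i)
    have hJ : (J • (⊤ : Submodule S S) : Submodule S S) = J := by simp
    exact Module.Flat.of_linearEquiv ((Submodule.quotEquivOfEq _ _ hJ.symm).restrictScalars R)

end Groth.Agent.Lib.Synt92.RelSeq
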