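import Groth.Prelude.Def_RegImm
import Groth.Agent.Lib.Synt92.RelSeq
import Groth.Agent.Lib.Synt92.BaseChangeSeq
import Groth.Agent.Lib.Dim.FieldExt
import Mathlib.RingTheory.Localization.BaseChange
import Mathlib.RingTheory.TensorProduct.MvPolynomial
import Mathlib.RingTheory.Adjoin.FG
import Mathlib.RingTheory.MvPolynomial.Localization

/-!
# Polynomials cutting the expected dimension in a fibre
-/

universe u

open MvPolynomial RingTheory.Sequence TensorProduct

namespace Groth.Agent.Lib.Synt92.RelGCI

/-- Every prime of `A` lifts to `K ⊗[k] A`. -/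
theorem exists_comap_includeRight {k K : Type u} [Field k] [Field K] [Algebra k K] (A : Type u)
    [CommRing A] [Algebra k A] (x : PrimeSpectrum A) :
    ∃ P, PrimeSpectrum.comap
      (Algebra.TensorProduct.includeRight (R := k) (A := K) (B := A)).toRingHom P = x := by
  letI : Algebra A (K ⊗[k] A) := Algebra.TensorProduct.rightAlgebra
  haveI : Module.FaithfullyFlat A (K ⊗[k] A) :=
    Module.FaithfullyFlat.of_linearEquiv A (A ⊗[k] K)
      ({ (Algebra.TensorProduct.comm k A K).toRingEquiv with
        map_smul' := fun a x => by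
          induction x using TensorProduct.induction_on with
          | zero => simp
          | add y z hy hz => simp_all [smul_add]
          | tmul y z => simp [TensorProduct.smul_tmul', Algebra.smul_def,
              RingHom.algebraMap_toAlgebra] } : A ⊗[k] K ≃ₗ[A] K ⊗[k] A).symm
  exact PrimeSpectrum.comap_surjective_of_faithfullyFlat (A := A) (B := K ⊗[k] A) x

/-- The dimension of the zero locus of polynomials does not drop under field extension. -/
theorem dim_le_of_field {k K : Type u} [Field k] [Field K] [Algebra k K] {n : ℕ}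
    (I : Ideal (MvPolynomial (Fin n) k)) (d : ℕ)
    (h : ringKrullDim (MvPolynomial (Fin n) K ⧸ I.map (MvPolynomial.map (algebraMap k K))) ≤
      (d : WithBot ℕ∞)) :
    ringKrullDim (MvPolynomial (Fin n) k ⧸ I) ≤ (d : WithBot ℕ∞) := by
  let A := MvPolynomial (Fin n) k ⧸ I
  let φ : MvPolynomial (Fin n) K →ₐ[K] K ⊗[k] A :=
    aeval (R := K) (S₁ := K ⊗[k] A) fun i => (1 : K) ⊗ₜ[k] Ideal.Quotient.mk I (X i)
  have hφ : ∀ x, φ (MvPolynomial.map (algebraMap k K) x) = (1 : K) ⊗ₜ Ideal.Quotient.mk I x := by
    intro x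
    induction x using MvPolynomial.induction_on with
    | C r =>
      rw [map_C, ← MvPolynomial.algebraMap_eq, AlgHom.commutes]
      change algebraMap k K r ⊗ₜ[k] (1 : A) = (1 : K) ⊗ₜ[k] algebraMap k A r
      exact Algebra.TensorProduct.tmul_one_eq_one_tmul r
    | add a b ha hb => simp only [map_add, ha, hb, TensorProduct.tmul_add]
    | mul_X a i ha => simp only [map_mul, ha, map_X, φ, aeval_X,
        Algebra.TensorProduct.tmul_mul_tmul, mul_one]
  have hsurj : Function.Surjective φ := by
    intro y
    induction y using TensorProduct.induction_on with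
    | zero => exact ⟨0, map_zero φ⟩
    | add a b ha hb =>
      obtain ⟨a', rfl⟩ := ha
      obtain ⟨b', rfl⟩ := hb
      exact ⟨a' + b', map_add φ _ _⟩
    | tmul c a =>
      obtain ⟨x, rfl⟩ := Ideal.Quotient.mk_surjective a
      refine ⟨c • MvPolynomial.map (algebraMap k K) x, ?_⟩
      rw [map_smul, hφ, TensorProduct.smul_tmul', smul_eq_mul, mul_one]
  have hI : I.map (MvPolynomial.map (algebraMap k K)) ≤ RingHom.ker φ.toRingHom := by
    refine Ideal.map_le_iff_le_comap.2 fun x hx => ?_
    change φ _ = 0
    rw [hφ, Ideal.Quotient.eq_zero_iff_mem.2 hx, TensorProduct.tmul_zero]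
  have hK : ringKrullDim (K ⊗[k] A) ≤ (d : WithBot ℕ∞) :=
    (ringKrullDim_le_of_surjective (Ideal.Quotient.lift _ φ.toRingHom fun x hx => hI hx)
      fun y => by obtain ⟨x, rfl⟩ := hsurj y; exact ⟨Ideal.Quotient.mk _ x, rfl⟩).trans h
  refine (Dim.Local.ringKrullDim_le_iff k d).2 fun q hq => ?_
  haveI : q.IsPrime := hq.1.1
  obtain ⟨P, hP⟩ := exists_comap_includeRight (k := k) (K := K) A ⟨q, inferInstance⟩
  have h1 : Dim.Local.dimAt K P.asIdeal ≤ d :=
    (Dim.Local.dimAt_le_iff K P.asIdeal d).2 fun q' hq' _ =>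
      (Dim.Local.ringKrullDim_le_iff K d).1 hK q' hq'
  rw [Dim.FieldExt.dimAt_baseChange A P.asIdeal] at h1
  refine le_trans ?_ h1
  have hq' : P.asIdeal.comap (Algebra.TensorProduct.includeRight (R := k) (A := K) (B := A)).toRingHom = q :=
    congrArg PrimeSpectrum.asIdeal hP
  exact Dim.Local.dimQ_le_dimAt_of_le k hq'.ge

attribute [local instance] MvPolynomial.algebraMvPolynomial

/-- Flatness over `R` of a quotient passes to a flat `T`-algebra. -/
theorem flat_quotient_map (R T S : Type u) [CommRing R] [CommRing T] [CommRing S] [Algebra R T]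
    [Algebra T S] [Algebra R S] [IsScalarTower R T S] [Module.Flat T S] (J : Ideal T)
    [Module.Flat R (T ⧸ J)] : Module.Flat R (S ⧸ J.map (algebraMap T S)) := by
  haveI : Module.Flat R ((T ⧸ J) ⊗[T] S) := Module.Flat.trans R (T ⧸ J) _
  exact Module.Flat.of_linearEquiv
    ((((Algebra.TensorProduct.quotIdealMapEquivTensorQuot S J).toLinearEquiv.restrictScalars T) ≪≫ₗ
      TensorProduct.comm T S (T ⧸ J)).restrictScalars R)

/-- Base change along `R0 → R` followed by localisation. -/
theorem step {R : Type u} [CommRing R] {R0 : Type u} [CommRing R0] [Algebra R0 R]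
    (L : Type u) [CommRing L] [Algebra R0 L] [Module.Flat R0 L] {n : ℕ}
    (rs0 : List (MvPolynomial (Fin n) R0)) (q : Ideal (MvPolynomial (Fin n) R)) [q.IsPrime]
    (hrs : Ideal.ofList (rs0.map (MvPolynomial.map (algebraMap R0 R))) ≤ q)
    (q0 : Ideal (MvPolynomial (Fin n) R0)) [q0.IsPrime]
    (hq0 : q0 = q.comap (MvPolynomial.map (algebraMap R0 R)))
    (S0 : Type u) [CommRing S0] [Algebra (MvPolynomial (Fin n) R0) S0]
    [IsLocalization.AtPrime S0 q0] [Algebra R0 S0] [IsScalarTower R0 (MvPolynomial (Fin n) R0) S0]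
    [Algebra L S0] [IsScalarTower R0 L S0]
    (hreg : IsRegular S0 (rs0.map (algebraMap (MvPolynomial (Fin n) R0) S0)))
    (hflat : ∀ i, Module.Flat L (S0 ⧸ Ideal.ofList
      ((rs0.map (algebraMap (MvPolynomial (Fin n) R0) S0)).take i)))
    (S : Type u) [CommRing S] [Algebra (MvPolynomial (Fin n) R) S] [IsLocalization.AtPrime S q]
    [Algebra R S] [IsScalarTower R (MvPolynomial (Fin n) R) S] :
    IsRegular S ((rs0.map (MvPolynomial.map (algebraMap R0 R))).map
        (algebraMap (MvPolynomial (Fin n) R) S)) ∧
      ∀ i, Module.Flat R (S ⧸ Ideal.ofList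
        (((rs0.map (MvPolynomial.map (algebraMap R0 R))).map
          (algebraMap (MvPolynomial (Fin n) R) S)).take i)) := by
  subst hq0
  have hflat0 : ∀ i, Module.Flat R0 (S0 ⧸ Ideal.ofList
      ((rs0.map (algebraMap (MvPolynomial (Fin n) R0) S0)).take i)) := fun i => by
    haveI := hflat i
    exact Module.Flat.trans R0 L _
  -- base change to `R`
  let T := MvPolynomial (Fin n) R ⊗[MvPolynomial (Fin n) R0] S0
  letI : Algebra S0 T := Algebra.TensorProduct.rightAlgebra
  haveI : IsScalarTower (MvPolynomial (Fin n) R0) S0 T :=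
    IsScalarTower.of_algebraMap_eq fun x => by
      change algebraMap (MvPolynomial (Fin n) R0) (MvPolynomial (Fin n) R) x ⊗ₜ 1 = 1 ⊗ₜ _
      exact Algebra.TensorProduct.tmul_one_eq_one_tmul x
  haveI : IsScalarTower R (MvPolynomial (Fin n) R) T := inferInstance
  haveI : IsScalarTower R0 R T := inferInstance
  haveI : IsScalarTower R0 (MvPolynomial (Fin n) R0) T := inferInstance
  haveI : IsScalarTower R0 S0 T := IsScalarTower.of_algebraMap_eq fun r => by
    rw [IsScalarTower.algebraMap_apply R0 (MvPolynomial (Fin n) R0) T,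
      IsScalarTower.algebraMap_apply (MvPolynomial (Fin n) R0) S0 T,
      ← IsScalarTower.algebraMap_apply R0 (MvPolynomial (Fin n) R0) S0]
  haveI : Algebra.IsPushout (MvPolynomial (Fin n) R0) S0 (MvPolynomial (Fin n) R) T :=
    Algebra.IsPushout.symm inferInstance
  haveI : Algebra.IsPushout R0 (MvPolynomial (Fin n) R0) R (MvPolynomial (Fin n) R) := inferInstance
  haveI : Algebra.IsPushout R0 S0 R T :=
    (Algebra.IsPushout.comp_iff R0 (MvPolynomial (Fin n) R0) R (MvPolynomial (Fin n) R) (T := S0)).2
      inferInstance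
  obtain ⟨hT, hTflat⟩ := BaseChangeSeq.of_isPushout R (T := T)
    (rs0.map (algebraMap (MvPolynomial (Fin n) R0) S0)) hreg.toIsWeaklyRegular hflat0
  -- localise at `q`
  haveI : IsLocalization (Algebra.algebraMapSubmonoid (MvPolynomial (Fin n) R) (q.comap (MvPolynomial.map (algebraMap R0 R))).primeCompl) T :=
    IsLocalization.tensor S0 (q.comap (MvPolynomial.map (algebraMap R0 R))).primeCompl
  have hle : Algebra.algebraMapSubmonoid (MvPolynomial (Fin n) R) (q.comap (MvPolynomial.map (algebraMap R0 R))).primeCompl ≤ q.primeCompl := by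
    rintro _ ⟨x, hx, rfl⟩
    exact hx
  have hu : ∀ y : Algebra.algebraMapSubmonoid (MvPolynomial (Fin n) R) (q.comap (MvPolynomial.map (algebraMap R0 R))).primeCompl,
      IsUnit (algebraMap (MvPolynomial (Fin n) R) S y) :=
    fun y => IsLocalization.map_units S (⟨y.1, hle y.2⟩ : q.primeCompl)
  letI : Algebra T S := (IsLocalization.lift (g := algebraMap (MvPolynomial (Fin n) R) S) hu).toAlgebra
  haveI : @IsScalarTower (MvPolynomial (Fin n) R) T S Algebra.toSMul Algebra.toSMul Algebra.toSMul :=
    IsScalarTower.of_algebraMap_eq fun x => (IsLocalization.lift_eq hu x).symm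
  haveI : IsScalarTower R T S := IsScalarTower.of_algebraMap_eq (R := R) (S := T) (A := S) fun r => by
    rw [IsScalarTower.algebraMap_apply R (MvPolynomial (Fin n) R) S,
      IsScalarTower.algebraMap_apply (MvPolynomial (Fin n) R) T S]
    rfl
  haveI hTS : IsLocalization (q.primeCompl.map (algebraMap (MvPolynomial (Fin n) R) T)) S :=
    IsLocalization.isLocalization_of_submonoid_le T S _ q.primeCompl hle
  haveI : Module.Flat T S := IsLocalization.flat S (q.primeCompl.map (algebraMap (MvPolynomial (Fin n) R) T))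
  have hlist : (((rs0.map (algebraMap (MvPolynomial (Fin n) R0) S0)).map (algebraMap S0 T)).map
      (algebraMap T S)) = (rs0.map (MvPolynomial.map (algebraMap R0 R))).map (algebraMap (MvPolynomial (Fin n) R) S) := by
    simp only [List.map_map]
    congr 1
    funext f
    simp only [Function.comp_apply]
    rw [← IsScalarTower.algebraMap_apply (MvPolynomial (Fin n) R0) S0 T,
      IsScalarTower.algebraMap_apply (MvPolynomial (Fin n) R0) (MvPolynomial (Fin n) R) T,
      ← IsScalarTower.algebraMap_apply (MvPolynomial (Fin n) R) T S]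
    rfl
  haveI : IsLocalRing S := IsLocalization.AtPrime.isLocalRing S q
  refine ⟨(IsLocalRing.isRegular_iff_isWeaklyRegular_of_subset_maximalIdeal ?_).2
    (hlist ▸ IsWeaklyRegular.of_flat (S := S) hT), fun i => ?_⟩
  · intro r hr
    obtain ⟨x, hx, rfl⟩ := List.mem_map.1 hr
    exact (IsLocalization.AtPrime.to_map_mem_maximal_iff S q x).2 (hrs (Ideal.subset_span hx))
  · rw [← hlist, ← List.map_take, ← Ideal.map_ofList]
    haveI := hTflat i
    exact flat_quotient_map R T S _

/-- The main statement, for polynomials defined over a Noetherian ring. -/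
theorem aux {R : Type u} [CommRing R] {R0 : Type u} [CommRing R0] [IsNoetherianRing R0]
    [Algebra R0 R] {n : ℕ} (rs0 : List (MvPolynomial (Fin n) R0))
    (hn : rs0.length ≤ n) (q : Ideal (MvPolynomial (Fin n) R)) [q.IsPrime]
    (hdim : ringKrullDim (MvPolynomial (Fin n) (q.comap C).ResidueField ⧸
      Ideal.ofList ((rs0.map (MvPolynomial.map (algebraMap R0 R))).map
        (MvPolynomial.map (algebraMap R (q.comap C).ResidueField)))) ≤
        ((n - rs0.length : ℕ) : WithBot ℕ∞))
    (hrs : Ideal.ofList (rs0.map (MvPolynomial.map (algebraMap R0 R))) ≤ q)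
    (S : Type u) [CommRing S] [Algebra (MvPolynomial (Fin n) R) S] [IsLocalization.AtPrime S q]
    [Algebra R S] [IsScalarTower R (MvPolynomial (Fin n) R) S] :
    IsRegular S ((rs0.map (MvPolynomial.map (algebraMap R0 R))).map
        (algebraMap (MvPolynomial (Fin n) R) S)) ∧
      ∀ i, Module.Flat R (S ⧸ Ideal.ofList
        (((rs0.map (MvPolynomial.map (algebraMap R0 R))).map
          (algebraMap (MvPolynomial (Fin n) R) S)).take i)) := by
  let j : MvPolynomial (Fin n) R0 →+* MvPolynomial (Fin n) R := MvPolynomial.map (algebraMap R0 R)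
  let p : Ideal R := q.comap C
  let p0 : Ideal R0 := p.comap (algebraMap R0 R)
  let q0 : Ideal (MvPolynomial (Fin n) R0) := q.comap j
  let M : Submonoid (MvPolynomial (Fin n) R0) := p0.primeCompl.map (C (σ := Fin n))
  haveI hloc : IsLocalization M (MvPolynomial (Fin n) (Localization.AtPrime p0)) := inferInstance
  have hdisj : Disjoint (M : Set (MvPolynomial (Fin n) R0)) q0 := by
    rw [Set.disjoint_left]
    rintro _ ⟨r, hr, rfl⟩ hq
    refine hr ?_
    change C (algebraMap R0 R r) ∈ q
    rw [← map_C (algebraMap R0 R)]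
    exact hq
  let q1 : Ideal (MvPolynomial (Fin n) (Localization.AtPrime p0)) := q0.map (algebraMap _ _)
  haveI : q1.IsPrime := IsLocalization.isPrime_of_isPrime_disjoint M _ q0 inferInstance hdisj
  have hq1 : q1.comap (algebraMap _ _) = q0 :=
    IsLocalization.under_map_of_isPrime_disjoint M _ inferInstance hdisj
  have hq1C : q1.comap C = IsLocalRing.maximalIdeal (Localization.AtPrime p0) := by
    have h1 : (IsLocalRing.maximalIdeal (Localization.AtPrime p0)) ≤ q1.comap C := by
      rw [← Localization.AtPrime.map_eq_maximalIdeal, Ideal.map_le_iff_le_comap]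
      intro r hr
      change C (algebraMap R0 (Localization.AtPrime p0) r) ∈ q1
      have : algebraMap (MvPolynomial (Fin n) R0) (MvPolynomial (Fin n) (Localization.AtPrime p0)) (C r) ∈ q1 := by
        refine Ideal.mem_map_of_mem _ ?_
        change j (C r) ∈ q
        rw [show j (C r) = C (algebraMap R0 R r) from map_C _ r]
        exact hr
      have e : algebraMap (MvPolynomial (Fin n) R0) (MvPolynomial (Fin n) (Localization.AtPrime p0)) (C r) =
          C (algebraMap R0 (Localization.AtPrime p0) r) := MvPolynomial.map_C _ r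
      rwa [e] at this
    exact ((IsLocalRing.maximalIdeal.isMaximal (Localization.AtPrime p0)).eq_of_le (Ideal.IsPrime.comap C).ne_top h1).symm
  haveI hS0 : IsLocalization.AtPrime (Localization.AtPrime q1) q0 := by
    have := IsLocalization.isLocalization_isLocalization_atPrime_isLocalization
      (R := MvPolynomial (Fin n) R0) M (Localization.AtPrime q1) q1
    simpa only [IsLocalization.AtPrime, Ideal.under, hq1] using this
  haveI : IsScalarTower R0 (MvPolynomial (Fin n) R0) (Localization.AtPrime q1) := inferInstance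
  haveI : IsScalarTower R0 (Localization.AtPrime p0) (Localization.AtPrime q1) := inferInstance
  haveI : IsNoetherianRing (Localization.AtPrime p0) := IsLocalization.isNoetherianRing p0.primeCompl (Localization.AtPrime p0) inferInstance
  -- the Noetherian statement
  let κ0 := IsLocalRing.ResidueField (Localization.AtPrime p0)
  letI : Algebra κ0 p.ResidueField :=
    (Ideal.ResidueField.map p0 p (algebraMap R0 R) rfl).toAlgebra
  have hdim0 : ringKrullDim (MvPolynomial (Fin n) κ0 ⧸ Ideal.ofList
      ((rs0.map (algebraMap _ (MvPolynomial (Fin n) (Localization.AtPrime p0)))).map (MvPolynomial.map (IsLocalRing.residue (Localization.AtPrime p0))))) ≤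
      ((n - rs0.length : ℕ) : WithBot ℕ∞) := by
    refine dim_le_of_field (K := p.ResidueField) _ _ ?_
    refine le_of_eq_of_le ?_ hdim
    refine ringKrullDim_eq_of_ringEquiv (Ideal.quotEquivOfEq ?_)
    rw [Ideal.map_ofList, List.map_map, List.map_map, List.map_map]
    congr 2
    funext f
    simp only [Function.comp_apply, j, MvPolynomial.algebraMap_def, MvPolynomial.map_map]
    congr 2
    ext r
    simp only [RingHom.comp_apply]
    exact Ideal.ResidueField.map_algebraMap p0 p (algebraMap R0 R) rfl r
  have hrs0 : Ideal.ofList (rs0.map (algebraMap _ (MvPolynomial (Fin n) (Localization.AtPrime p0)))) ≤ q1 := by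
    rw [← Ideal.map_ofList]
    refine Ideal.map_mono (Ideal.map_le_iff_le_comap.1 ?_)
    rw [Ideal.map_ofList]
    exact hrs
  obtain ⟨hreg, hflat⟩ := RelSeq.main (rs0.map (algebraMap _ (MvPolynomial (Fin n) (Localization.AtPrime p0))))
    (by rwa [List.length_map]) (by rwa [List.length_map]) q1 hq1C hrs0 (Localization.AtPrime q1)
  rw [List.map_map, ← RingHom.coe_comp, ← IsScalarTower.algebraMap_eq] at hreg hflat
  haveI : Module.Flat R0 (Localization.AtPrime p0) := IsLocalization.flat (Localization.AtPrime p0) p0.primeCompl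
  exact step (Localization.AtPrime p0) rs0 q hrs q0 rfl (Localization.AtPrime q1) hreg hflat S

/-- Polynomials cutting the expected dimension in the fibre over the image of a prime form a
weakly regular sequence with flat quotients at that prime. -/
theorem main {R : Type u} [CommRing R] {n : ℕ} (rs : List (MvPolynomial (Fin n) R))
    (hn : rs.length ≤ n) (q : Ideal (MvPolynomial (Fin n) R)) [q.IsPrime]
    (hdim : ringKrullDim (MvPolynomial (Fin n) (q.comap C).ResidueField ⧸
      Ideal.ofList (rs.map (MvPolynomial.map (algebraMap R (q.comap C).ResidueField)))) ≤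
        ((n - rs.length : ℕ) : WithBot ℕ∞))
    (hrs : Ideal.ofList rs ≤ q)
    (S : Type u) [CommRing S] [Algebra (MvPolynomial (Fin n) R) S] [IsLocalization.AtPrime S q]
    [Algebra R S] [IsScalarTower R (MvPolynomial (Fin n) R) S] :
    IsRegular S (rs.map (algebraMap (MvPolynomial (Fin n) R) S)) ∧
      ∀ i, Module.Flat R (S ⧸ Ideal.ofList
        ((rs.map (algebraMap (MvPolynomial (Fin n) R) S)).take i)) := by
  classical
  -- a finitely generated ring of coefficients
  let s : Finset R := (rs.toFinset).biUnion fun f => f.support.image fun d => f.coeff d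
  let R0 : Subalgebra ℤ R := Algebra.adjoin ℤ (s : Set R)
  haveI : Algebra.FiniteType ℤ R0 :=
    (Subalgebra.fg_iff_finiteType _).1 ⟨s, rfl⟩
  haveI : IsNoetherianRing R0 := Algebra.FiniteType.isNoetherianRing ℤ R0
  let j : MvPolynomial (Fin n) R0 →+* MvPolynomial (Fin n) R := MvPolynomial.map (algebraMap R0 R)
  obtain ⟨rs0, hj⟩ : ∃ rs0 : List (MvPolynomial (Fin n) R0), rs0.map j = rs := by
    rw [← Set.mem_range (f := List.map j), Set.range_list_map]
    intro f hf
    refine MvPolynomial.mem_range_map_iff_coeffs_subset.2 fun c hc => ?_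
    obtain ⟨d, hd, rfl⟩ := MvPolynomial.mem_coeffs_iff.1 hc
    exact ⟨⟨f.coeff d, Algebra.subset_adjoin (Finset.mem_biUnion.2
      ⟨f, List.mem_toFinset.2 hf, Finset.mem_image.2 ⟨d, hd, rfl⟩⟩)⟩, rfl⟩
  have := aux rs0 (by rwa [← hj, List.length_map] at hn) q (by rwa [← hj, List.length_map] at hdim)
    (by rwa [← hj] at hrs) S
  rw [← hj]
  exact this

end Groth.Agent.Lib.Synt92.RelGCI
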