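import Groth.Agent.Lib.Synt92.CIPres
import Groth.Agent.Lib.Synt92.LocalQuot
import Groth.Agent.Lib.Synt92.FieldSeq
import Groth.Agent.Lib.Synt92.AwayPres
import Groth.Agent.Lib.Synt92.FieldDim
import Groth.Agent.Lib.Dim.LocalDim
import Groth.Agent.Lib.BertiniAff.Main

/-!
# Complete intersections over a field
-/

universe u

open MvPolynomial

namespace Groth.Agent.Lib.Synt92.CIField

variable {k : Type u} [Field k]

/-- Local rings of a global complete intersection are complete intersections. -/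
theorem isCIOver_of_isGlobalCI {A : Type u} [CommRing A] [Algebra k A] (h : Synt.IsGlobalCI k A)
    (a : Ideal A) [a.IsPrime] (S : Type u) [CommRing S] [IsLocalRing S] [Algebra A S]
    [IsLocalization.AtPrime S a] [Algebra k S] [IsScalarTower k A S] : Synt.IsCIOver k S := by
  rcases h with h | ⟨n, c, hc, φ, r, hφ, hker, hdim⟩
  · exact absurd (Subsingleton.elim (1 : A) 0 ▸ a.zero_mem) a.one_notMem
  obtain ⟨π, hπ, hkerπ, -⟩ := LocalQuot.exists_hom φ hφ a S
  haveI : Algebra.EssFiniteType (MvPolynomial (Fin n) k) (Localization.AtPrime (a.comap φ.toRingHom)) :=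
    Algebra.EssFiniteType.of_isLocalization _ (a.comap φ.toRingHom).primeCompl
  haveI : Algebra.EssFiniteType k (Localization.AtPrime (a.comap φ.toRingHom)) :=
    Algebra.EssFiniteType.comp k (MvPolynomial (Fin n) k) _
  rw [CIPres.isCIOver_iff S _ π hπ]
  have hl : Ideal.ofList (List.ofFn r) = Ideal.span (Set.range r) := by
    simp [Ideal.ofList, Set.range, List.mem_ofFn]
  refine ⟨(List.ofFn r).map (algebraMap _ _), FieldSeq.isRegular (List.ofFn r) (by simpa using hc) ?_
    (a.comap φ.toRingHom) ?_ _, ?_⟩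
  · rw [List.length_ofFn, hl, ← hker, ← hdim]
    exact (ringKrullDim_eq_of_ringEquiv (RingHom.quotientKerEquivOfSurjective hφ)).le
  · rw [hl, ← hker]
    exact Ideal.ker_le_comap _
  · rw [hkerπ, hker, ← Ideal.map_ofList, hl]

/-- An algebra locally cut out by `c` equations in a point where it has dimension at most `n - c`
is a global complete intersection near the point. -/
theorem exists_isGlobalCI {n c : ℕ} (hc : c ≤ n) (I : Ideal (MvPolynomial (Fin n) k))
    (q : Ideal (MvPolynomial (Fin n) k)) [q.IsPrime] (hIq : I ≤ q)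
    (r : Fin c → MvPolynomial (Fin n) k) (hrI : ∀ i, r i ∈ I)
    (hgen : I.map (algebraMap _ (Localization.AtPrime q)) ≤
      (Ideal.span (Set.range r)).map (algebraMap _ (Localization.AtPrime q)))
    (hdim : ∀ p ∈ (Ideal.span (Set.range r)).minimalPrimes, p ≤ q → Dim.Basic.dimQ k p ≤ n - c) :
    ∃ g : MvPolynomial (Fin n) k, g ∉ q ∧
      Synt.IsGlobalCI k (Localization.Away (Ideal.Quotient.mk I g)) := by
  classical
  set J := Ideal.span (Set.range r)
  have hJI : J ≤ I := Ideal.span_le.2 (by rintro _ ⟨i, rfl⟩; exact hrI i)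
  obtain ⟨s, hs⟩ := (I.fg_of_isNoetherianRing : I.FG)
  have hex : ∀ x ∈ s, ∃ h, h ∉ q ∧ h * x ∈ J := fun x hx => by
    have hx' := hgen (Ideal.mem_map_of_mem _ (hs ▸ Ideal.subset_span hx : x ∈ I))
    obtain ⟨⟨⟨b, hb⟩, ⟨t, ht⟩⟩, e⟩ := (IsLocalization.mem_map_algebraMap_iff q.primeCompl _).1 hx'
    simp only [← map_mul] at e
    obtain ⟨⟨w, hw⟩, he⟩ := IsLocalization.exists_of_eq (M := q.primeCompl) e
    refine ⟨w * t, q.primeCompl.mul_mem hw ht, ?_⟩
    have : w * (x * t) ∈ J := he ▸ J.mul_mem_left w hb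
    convert this using 1
    ring
  choose! hfun hfq hfJ using hex
  set h₀ := ∏ x ∈ s, hfun x
  have h₀q : h₀ ∉ q := fun hm => by
    obtain ⟨x, hx, hxq⟩ := (Ideal.IsPrime.prod_mem_iff).1 hm
    exact hfq x hx hxq
  have h₀I : ∀ y ∈ I, h₀ * y ∈ J := by
    intro y hy
    rw [← hs] at hy
    induction hy using Submodule.span_induction with
    | mem x hx =>
      obtain ⟨w, hw⟩ := Finset.dvd_prod_of_mem hfun hx
      rw [show h₀ * x = w * (hfun x * x) by rw [show h₀ = hfun x * w from hw]; ring]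
      exact J.mul_mem_left w (hfJ x hx)
    | zero => simp
    | add a b _ _ ha hb => rw [mul_add]; exact add_mem ha hb
    | smul a b _ hb => rw [smul_eq_mul, mul_left_comm]; exact J.mul_mem_left a hb
  have hJq : J ≤ q := hJI.trans hIq
  haveI hPp : (q.map (Ideal.Quotient.mk J)).IsPrime :=
    Ideal.map_isPrime_of_surjective Ideal.Quotient.mk_surjective (by rwa [Ideal.mk_ker])
  set P := q.map (Ideal.Quotient.mk J)
  have hP : ∀ x, Ideal.Quotient.mk J x ∈ P ↔ x ∈ q := fun x => by
    rw [← Ideal.mem_comap, Ideal.comap_map_of_surjective _ Ideal.Quotient.mk_surjective]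
    rw [show Ideal.comap (Ideal.Quotient.mk J) ⊥ = J from Ideal.mk_ker, sup_eq_left.2 hJq]
  obtain ⟨g₁, hg₁, hsep, -⟩ := Dim.LocalDim.exists_notMem_ringKrullDim_away_le k P
  obtain ⟨g₁, rfl⟩ := Ideal.Quotient.mk_surjective g₁
  set g := h₀ * g₁
  have hgq : g ∉ q := fun hm => (Ideal.IsPrime.mem_or_mem ‹q.IsPrime› hm).elim h₀q
    fun h => hg₁ ((hP _).2 h)
  refine ⟨g, hgq, Or.inr ?_⟩
  -- `(P ⧸ I)_g = (P ⧸ J)_g`
  let B := Localization.Away (Ideal.Quotient.mk J g)
  let f : (MvPolynomial (Fin n) k ⧸ J) →ₐ[k] (MvPolynomial (Fin n) k ⧸ I) :=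
    Ideal.Quotient.factorₐ k hJI
  have hf : ∀ x, f (Ideal.Quotient.mk J x) = Ideal.Quotient.mk I x := fun _ => rfl
  have hu : ∀ y : Submonoid.powers (Ideal.Quotient.mk J g),
      IsUnit ((IsScalarTower.toAlgHom k _ (Localization.Away (Ideal.Quotient.mk I g))).comp f y) := by
    rintro ⟨_, m, rfl⟩
    rw [map_pow]
    exact ((IsLocalization.Away.algebraMap_isUnit (Ideal.Quotient.mk I g))).pow m
  let e : B →ₐ[k] Localization.Away (Ideal.Quotient.mk I g) :=
    IsLocalization.liftAlgHom (A := k) hu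
  have he : ∀ y, e (algebraMap _ B y) = algebraMap _ _ (f y) := fun y => IsLocalization.lift_eq hu y
  have hbij : Function.Bijective e := by
    refine ⟨(injective_iff_map_eq_zero e).2 fun z hz => ?_, fun z => ?_⟩
    · obtain ⟨⟨y, ⟨_, m, rfl⟩⟩, hy⟩ := IsLocalization.surj (Submonoid.powers (Ideal.Quotient.mk J g)) z
      obtain ⟨x, rfl⟩ := Ideal.Quotient.mk_surjective y
      have h2 := congrArg e hy
      rw [map_mul e, hz, zero_mul, he] at h2
      obtain ⟨⟨_, l, rfl⟩, hl⟩ := (IsLocalization.map_eq_zero_iff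
        (Submonoid.powers (Ideal.Quotient.mk I g)) _ (Ideal.Quotient.mk I x)).1 h2.symm
      simp only [← map_pow, ← map_mul, Ideal.Quotient.eq_zero_iff_mem] at hl
      have hJ1 : g ^ (l + 1) * x ∈ J := by
        rw [show g ^ (l + 1) * x = g₁ * (h₀ * (g ^ l * x)) by simp only [g]; ring]
        exact J.mul_mem_left _ (h₀I _ hl)
      refine ((IsLocalization.map_units B (⟨_, m, rfl⟩ : Submonoid.powers (Ideal.Quotient.mk J g))).mul_left_eq_zero).1 ?_
      rw [hy]
      refine (IsLocalization.map_eq_zero_iff (Submonoid.powers (Ideal.Quotient.mk J g)) _ _).2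
        ⟨⟨_, l + 1, rfl⟩, ?_⟩
      simp only [← map_pow, ← map_mul, Ideal.Quotient.eq_zero_iff_mem]
      exact hJ1
    · obtain ⟨⟨y, ⟨_, m, rfl⟩⟩, hy⟩ := IsLocalization.surj (Submonoid.powers (Ideal.Quotient.mk I g)) z
      obtain ⟨x, rfl⟩ := Ideal.Quotient.mk_surjective y
      refine ⟨IsLocalization.mk' B (Ideal.Quotient.mk J x)
        (⟨_, m, rfl⟩ : Submonoid.powers (Ideal.Quotient.mk J g)), ?_⟩
      refine ((IsLocalization.Away.algebraMap_isUnit (Ideal.Quotient.mk I g)).pow m).mul_right_cancel ?_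
      rw [← map_pow, hy, show (Ideal.Quotient.mk I g) ^ m = f ((Ideal.Quotient.mk J g) ^ m) by
        rw [map_pow, hf], ← he, ← map_mul, IsLocalization.mk'_spec, he, hf]
  let E : B ≃ₐ[k] Localization.Away (Ideal.Quotient.mk I g) := AlgEquiv.ofBijective e hbij
  obtain ⟨E'⟩ := AwayPres.nonempty_equiv k n c r g
  let φ : MvPolynomial (Fin (n + 1)) k →ₐ[k] Localization.Away (Ideal.Quotient.mk I g) :=
    (E.toAlgHom.comp E'.symm.toAlgHom).comp (Ideal.Quotient.mkₐ k _)
  refine ⟨n + 1, c + 1, Nat.succ_le_succ hc, φ, AwayPres.ext k n c r g,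
    (E.surjective.comp E'.symm.surjective).comp Ideal.Quotient.mk_surjective, ?_, ?_⟩
  · ext x
    simp [φ, RingHom.mem_ker, Ideal.Quotient.eq_zero_iff_mem]
  · rw [← ringKrullDim_eq_of_ringEquiv E.toRingEquiv]
    haveI : Algebra.FiniteType k B := Algebra.FiniteType.of_surjective
      (E'.symm.toAlgHom.comp (Ideal.Quotient.mkₐ k _))
      (E'.symm.surjective.comp Ideal.Quotient.mk_surjective)
    have hle : ringKrullDim B ≤ ((n + 1 - (c + 1) : ℕ) : WithBot ℕ∞) := by
      refine (Dim.Local.ringKrullDim_le_iff k _).2 fun Q hQ => ?_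
      haveI : Q.IsPrime := hQ.1.1
      rw [← BertiniAff.Main.dimQ_comap_away (Ideal.Quotient.mk J g) Q, Nat.add_sub_add_right]
      have hmin := BertiniAff.Main.mem_minimalPrimes_comap_away (Ideal.Quotient.mk J g) hQ
      set p := Q.comap (algebraMap (MvPolynomial (Fin n) k ⧸ J) B)
      haveI : p.IsPrime := hmin.1.1
      have hgp : Ideal.Quotient.mk J g₁ ∉ p := fun hm => by
        have : Ideal.Quotient.mk J g ∈ p := by
          rw [map_mul]; exact p.mul_mem_left _ hm
        exact Ideal.IsPrime.ne_top' (Ideal.eq_top_of_isUnit_mem Q this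
          (IsLocalization.Away.algebraMap_isUnit (Ideal.Quotient.mk J g)))
      have hle' := hsep p hmin hgp
      rw [← FieldDim.dimQ_comap (Ideal.Quotient.mkₐ k J) (Ideal.Quotient.mkₐ_surjective k J)]
      refine hdim _ ?_ fun x hx => (hP x).1 (hle' hx)
      rw [show (p.comap (Ideal.Quotient.mkₐ k J).toRingHom) = p.comap (Ideal.Quotient.mk J) from rfl,
        show J.minimalPrimes = Ideal.comap (Ideal.Quotient.mk J) '' minimalPrimes _ from
          Ideal.minimalPrimes_eq_comap]
      exact ⟨p, hmin, rfl⟩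
    refine le_antisymm hle ?_
    haveI : Nontrivial (MvPolynomial (Fin n) k ⧸ J) := Ideal.Quotient.nontrivial_iff.2
      fun h => Ideal.IsPrime.ne_top' (top_le_iff.1 (h ▸ hJq))
    haveI : Nontrivial B := by
      have hne : Ideal.Quotient.mk J g ∉ P := fun h => hgq ((hP g).1 h)
      by_contra hB
      haveI := not_nontrivial_iff_subsingleton.1 hB
      obtain ⟨⟨_, m, rfl⟩, hm⟩ := (IsLocalization.eq_iff_exists (Submonoid.powers (Ideal.Quotient.mk J g)) B).1
        (Subsingleton.elim (algebraMap _ B 1) (algebraMap _ B 0))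
      simp only [mul_one, mul_zero] at hm
      exact hne (Ideal.IsPrime.mem_of_pow_mem hPp m (hm ▸ P.zero_mem))
    obtain ⟨Q, hQ⟩ := Ideal.exists_maximal B
    haveI : Q.IsPrime := hQ.isPrime
    have hd := FieldDim.dimAt_eq' (A := B) (Nat.succ_le_succ hc)
      (E'.symm.toAlgHom.comp (Ideal.Quotient.mkₐ k _))
      (E'.symm.surjective.comp Ideal.Quotient.mk_surjective) (AwayPres.ext k n c r g)
      (by ext x; simp [RingHom.mem_ker, Ideal.Quotient.eq_zero_iff_mem]) hle Q
    obtain ⟨p, hp, -, hpd⟩ := Dim.Local.exists_minimalPrimes_dimAt_eq k Q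
    haveI : p.IsPrime := hp.1.1
    rw [show n + 1 - (c + 1) = Dim.Basic.dimQ k p by rw [hpd, hd]]
    exact Dim.Local.dimQ_le_ringKrullDim k p

end Groth.Agent.Lib.Synt92.CIField
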