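import Groth.Agent.H20.CMRegular
import Groth.Agent.Lib.JacCrit.FlatRegular
import Groth.Agent.Lib.JacCrit.Regular
import Groth.Agent.Lib.Regular.Indep
import Mathlib.RingTheory.KrullDimension.Regular
import Mathlib.Algebra.Module.SpanRankOperations

/-!
# Complete intersection ideals in regular local rings

An ideal of a regular local ring is generated by a regular sequence iff its number of generators is
at most the drop of the dimension, and this drop does not depend on the regular ring.
-/

universe u

open IsLocalRing RingTheory.Sequence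

namespace Groth.Agent.Lib.Synt92.CIInv

variable {R : Type u} [CommRing R] [IsRegularLocalRing R]

/-- The dimension drops by at most the number of generators. -/
theorem ringKrullDim_le_add (I : Ideal R) (hI : I ≠ ⊤) :
    ringKrullDim R ≤ ringKrullDim (R ⧸ I) + (I.spanFinrank : WithBot ℕ∞) := by
  obtain ⟨s, hs, hspan⟩ := Submodule.FG.exists_span_finset_card_eq_spanFinrank
    (I.fg_of_isNoetherianRing)
  have hl : Ideal.ofList s.toList = I := by
    rw [← hspan]
    simp [Ideal.ofList, Ideal.span, Finset.mem_toList]
  have h := H20.CMRegular.supportDim_le_quotient_add_length s.toList (fun r hr => le_maximalIdeal hI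
    (hl ▸ Ideal.subset_span hr)) R
  rw [Module.supportDim_self_eq_ringKrullDim, Finset.length_toList, hs] at h
  refine h.trans (le_of_eq ?_)
  congr 1
  rw [Module.supportDim_eq_of_equiv (Submodule.quotEquivOfEq _ I (by rw [hl]; simp)),
    Module.supportDim_quotient_eq_ringKrullDim]

/-- Generated by a regular sequence iff generated by few elements. -/
theorem regular_iff (I : Ideal R) (hI : I ≠ ⊤) :
    (∃ rs : List R, IsRegular R rs ∧ I = Ideal.ofList rs) ↔
      ringKrullDim (R ⧸ I) + (I.spanFinrank : WithBot ℕ∞) ≤ ringKrullDim R := by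
  constructor
  · rintro ⟨rs, hrs, rfl⟩
    rw [← ringKrullDim_add_length_eq_ringKrullDim_of_isRegular rs hrs]
    gcongr
    refine (Submodule.spanFinrank_span_le_ncard_of_finite rs.finite_toSet).trans ?_
    classical
    rw [show {x | x ∈ rs} = (rs.toFinset : Set R) by ext; simp, Set.ncard_coe_finset]
    exact rs.toFinset_card_le
  · intro h
    haveI : LocCoh.IsCohenMacaulayLocalRing R := JacCrit.FlatRegular.isCohenMacaulayLocalRing R
    obtain ⟨s, hs, hspan⟩ := Submodule.FG.exists_span_finset_card_eq_spanFinrank
      (I.fg_of_isNoetherianRing)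
    have hl : Ideal.ofList s.toList = I := by
      rw [← hspan]
      simp [Ideal.ofList, Ideal.span, Finset.mem_toList]
    refine ⟨s.toList, H20.CMRegular.isRegular_of_ringKrullDim_le _
      (fun r hr => le_maximalIdeal hI (hl ▸ Ideal.subset_span hr)) ?_, hl.symm⟩
    rw [Finset.length_toList, hs, hl]
    exact h

/-- Elements of an ideal which are independent modulo the square of the maximal ideal are part of a
minimal system of generators. -/
theorem exists_gens_extend {A : Type u} [CommRing A] [IsLocalRing A] (J : Ideal A) (hJ : J.FG)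
    (hJm : J ≤ maximalIdeal A) {r : ℕ} (a : Fin r → A) (ha : ∀ j, a j ∈ J)
    (hli : LinearIndependent (ResidueField A)
      fun j => (maximalIdeal A).toCotangent ⟨a j, hJm (ha j)⟩) :
    ∃ t : Finset A, t.card + r ≤ J.spanFinrank ∧ (∀ x ∈ t, x ∈ J) ∧
      J ≤ Ideal.span (Set.range a ∪ (t : Set A)) := by
  classical
  obtain ⟨s, hs, hspan⟩ := Submodule.FG.exists_span_finset_card_eq_spanFinrank hJ
  set μ := s.card
  let f : Fin μ → A := fun i => (s.equivFin.symm i : A)
  have hf : Ideal.span (Set.range f) = J := by
    rw [← hspan]
    congr 1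
    ext x
    simp [f]
    exact ⟨fun ⟨i, hi⟩ => hi ▸ (s.equivFin.symm i).2, fun hx => ⟨s.equivFin ⟨x, hx⟩, by simp⟩⟩
  have hfJ : ∀ i, f i ∈ J := fun i => hf ▸ Ideal.subset_span ⟨i, rfl⟩
  choose C hC using fun j => (Ideal.mem_span_range_iff_exists_fun).1 (hf.symm ▸ ha j)
  let v : Fin r → Fin μ → ResidueField A := fun j i => residue A (C j i)
  have hv : LinearIndependent (ResidueField A) v := by
    let L : (Fin μ → ResidueField A) →ₗ[ResidueField A] CotangentSpace A :=
      Fintype.linearCombination (ResidueField A)
        fun i => (maximalIdeal A).toCotangent ⟨f i, hJm (hfJ i)⟩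
    refine LinearIndependent.of_comp L ?_
    refine cast ?_ hli
    congr 1
    funext j
    rw [Function.comp_apply, Fintype.linearCombination_apply]
    rw [show (⟨a j, hJm (ha j)⟩ : maximalIdeal A) = ∑ i, C j i • ⟨f i, hJm (hfJ i)⟩ from
      Subtype.ext (by simp [← hC j]), map_sum]
    refine Finset.sum_congr rfl fun i _ => ?_
    rw [map_smul]
    exact (algebraMap_smul (ResidueField A) (C j i) _).symm
  let e : Fin μ → Fin μ → ResidueField A := fun i => Pi.single i 1
  have hli' : LinearIndepOn (ResidueField A) id (Set.range v) := hv.linearIndepOn_id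
  set b := hli'.extend (Set.subset_union_left (t := Set.range e))
  have hb : LinearIndepOn (ResidueField A) id b := hli'.linearIndepOn_extend _
  have hvb : Set.range v ⊆ b := hli'.subset_extend _
  have hbsub : b ⊆ Set.range v ∪ Set.range e := hli'.extend_subset _
  have hbfin : b.Finite := hb.setFinite
  have hspanb : ∀ i, e i ∈ Submodule.span (ResidueField A) b := fun i =>
    hli'.subset_span_extend _ (Or.inr ⟨i, rfl⟩)
  have hcard : hbfin.toFinset.card ≤ μ := by
    haveI := hbfin.fintype
    have h := hb.fintype_card_le_finrank
    rw [Module.finrank_fin_fun, ← Set.toFinset_card] at h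
    rwa [hbfin.toFinset_eq_toFinset]
  let T : Finset (Fin μ) := Finset.univ.filter fun i => e i ∈ b ∧ e i ∉ Set.range v
  have hT : T.card + r ≤ μ := by
    refine le_trans ?_ hcard
    have hinj : Function.Injective e := fun i i' h => by
      by_contra hne
      have := congrFun h i
      simp [e, hne] at this
    calc T.card + r = (T.image e).card + (Finset.univ.image v).card := by
          rw [Finset.card_image_of_injective _ hinj, Finset.card_image_of_injective _ hv.injective,
            Finset.card_univ, Fintype.card_fin]
      _ = (T.image e ∪ Finset.univ.image v).card := by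
          rw [Finset.card_union_of_disjoint]
          rw [Finset.disjoint_left]
          simp only [Finset.mem_image, Finset.mem_filter, T, Finset.mem_univ, true_and]
          rintro _ ⟨i, ⟨-, hi⟩, rfl⟩ ⟨j, hj⟩
          exact hi ⟨j, hj⟩
      _ ≤ _ := Finset.card_le_card (by
          intro x hx
          simp only [Finset.mem_union, Finset.mem_image, Finset.mem_filter, T, Finset.mem_univ,
            true_and] at hx
          rcases hx with ⟨i, ⟨hi, -⟩, rfl⟩ | ⟨j, rfl⟩
          · exact hbfin.mem_toFinset.2 hi
          · exact hbfin.mem_toFinset.2 (hvb ⟨j, rfl⟩))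
  refine ⟨T.image f, (Nat.add_le_add_right Finset.card_image_le r).trans (hT.trans hs.le), ?_, ?_⟩
  · intro x hx
    obtain ⟨i, -, rfl⟩ := Finset.mem_image.1 hx
    exact hfJ i
  set J' := Ideal.span (Set.range a ∪ ((T.image f : Finset A) : Set A))
  refine Submodule.le_of_le_smul_of_le_jacobson_bot hJ (maximalIdeal_le_jacobson _)
    (hf ▸ Ideal.span_le.2 ?_)
  rintro _ ⟨i, rfl⟩
  rw [hf]
  let Φ : (Fin μ → A) →ₗ[A] A := Fintype.linearCombination A f
  -- vectors with value in `J' + m J`, read off modulo the maximal ideal
  suffices h : ∀ w ∈ Submodule.span (ResidueField A) b, ∀ x : Fin μ → A,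
      (fun k => residue A (x k)) = w → Φ x ∈ J' ⊔ maximalIdeal A • J by
    have := h (e i) (hspanb i) (Pi.single i 1) (by
      funext k
      rcases eq_or_ne k i with rfl | hk
      · simp [e]
      · simp [e, hk])
    simpa [Φ] using this
  have hzero : ∀ x : Fin μ → A, (fun k => residue A (x k)) = 0 → Φ x ∈ J' ⊔ maximalIdeal A • J :=
    fun x hx => Submodule.mem_sup_right <| by
      rw [Fintype.linearCombination_apply]
      exact Submodule.sum_mem _ fun k _ => Submodule.smul_mem_smul
        (residue_eq_zero_iff _ |>.1 (congrFun hx k)) (hfJ k)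
  intro w hw
  induction hw using Submodule.span_induction with
  | mem w hw =>
    intro x hx
    rcases hbsub hw with ⟨j, rfl⟩ | ⟨k, rfl⟩
    · have h1 := hzero (x - C j) (by funext k; simpa [v, sub_eq_zero] using congrFun hx k)
      have h2 : Φ (C j) = a j := by simpa [Φ, Fintype.linearCombination_apply] using hC j
      rw [map_sub, h2] at h1
      simpa using add_mem h1 (Submodule.mem_sup_left (Ideal.subset_span (Or.inl ⟨j, rfl⟩)))
    · by_cases hk : e k ∈ Set.range v
      · obtain ⟨j, hj⟩ := hk
        have h1 := hzero (x - C j) (by funext k'; simpa [v, sub_eq_zero] using congrFun (hx.trans hj.symm) k')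
        have h2 : Φ (C j) = a j := by simpa [Φ, Fintype.linearCombination_apply] using hC j
        rw [map_sub, h2] at h1
        simpa using add_mem h1 (Submodule.mem_sup_left (Ideal.subset_span (Or.inl ⟨j, rfl⟩)))
      · have h1 := hzero (x - Pi.single k 1) (by
          funext k'
          have := congrFun hx k'
          rcases eq_or_ne k' k with rfl | hk' <;> simp_all [e])
        have h2 : Φ (Pi.single k 1) = f k := by simp [Φ]
        rw [map_sub, h2] at h1
        simpa using add_mem h1 (Submodule.mem_sup_left (Ideal.subset_span (Or.inr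
          (Finset.mem_image.2 ⟨k, Finset.mem_filter.2 ⟨Finset.mem_univ _, hw, hk⟩, rfl⟩))))
  | zero => exact hzero
  | add w w' _ _ hw hw' =>
    intro x hx
    choose y hy using fun k => residue_surjective (R := A) (w k)
    have h1 := hw y (funext hy)
    have h2 := hw' (x - y) (funext fun k => by simp [hy, congrFun hx k])
    simpa using add_mem h1 h2
  | smul c w _ hw =>
    intro x hx
    obtain ⟨c, rfl⟩ := residue_surjective (R := A) c
    choose y hy using fun k => residue_surjective (R := A) (w k)
    have h1 := hw y (funext hy)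
    have h2 := hzero (x - c • y) (funext fun k => by simp [hy, congrFun hx k])
    rw [map_sub, map_smul] at h2
    simpa using add_mem h2 (Submodule.smul_mem _ c h1)

/-- Number of generators and dimension transform together under a surjection of regular local
rings. -/
theorem spanFinrank_comap {P : Type u} [CommRing P] [IsRegularLocalRing P]
    (π : P →+* R) (hπ : Function.Surjective π) (I : Ideal R) (hI : I ≠ ⊤) :
    ((I.comap π).spanFinrank : WithBot ℕ∞) + ringKrullDim R =
      (I.spanFinrank : WithBot ℕ∞) + ringKrullDim P := by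
  classical
  algebraize [π]
  obtain ⟨r, a, hspan, ham, hli⟩ := JacCrit.Regular.exists_gens_linearIndependent (P := P) (R := R) hπ
  have hker : RingHom.ker π = Ideal.span (Set.range a) := hspan.symm
  have hdim : ringKrullDim R + (r : WithBot ℕ∞) = ringKrullDim P := by
    obtain ⟨-, h2⟩ := Regular.Indep.quotient_of_indep (fun i => (⟨a i, ham i⟩ : maximalIdeal P)) hli
    rw [← h2]
    congr 1
    exact (ringKrullDim_eq_of_ringEquiv ((Ideal.quotEquivOfEq hker.symm).trans
      (RingHom.quotientKerEquivOfSurjective hπ))).symm
  have hle : I.comap π ≤ maximalIdeal P := le_maximalIdeal (Ideal.comap_ne_top _ hI)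
  have haJ : ∀ i, a i ∈ I.comap π := fun i => by
    have : a i ∈ RingHom.ker π := hker ▸ Ideal.subset_span ⟨i, rfl⟩
    rw [Ideal.mem_comap, RingHom.mem_ker.1 this]
    exact zero_mem _
  have key : (I.comap π).spanFinrank = I.spanFinrank + r := by
    refine le_antisymm ?_ ?_
    · obtain ⟨s, hs, hspan'⟩ := Submodule.FG.exists_span_finset_card_eq_spanFinrank
        (I.fg_of_isNoetherianRing)
      let lift := Function.surjInv hπ
      have e : I.comap π = Ideal.span ((s.image lift ∪ Finset.univ.image a : Finset P) : Set P) := by
        have h1 : I.comap π = ((Ideal.span ((s.image lift : Finset P) : Set P)).map π).comap π := by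
          rw [Ideal.map_span, Finset.coe_image, ← Set.image_comp]
          congr 1
          rw [show π ∘ lift = id from funext (Function.surjInv_eq hπ), Set.image_id]
          exact hspan'.symm
        rw [h1, Ideal.comap_map_of_surjective _ hπ, ← RingHom.ker_eq_comap_bot, hker,
          Finset.coe_union, Finset.coe_image (f := a), Finset.coe_univ, Set.image_univ, Ideal.span_union]
      calc (I.comap π).spanFinrank
          ≤ ((s.image lift ∪ Finset.univ.image a : Finset P) : Set P).ncard := by
            rw [e]
            exact Submodule.spanFinrank_span_le_ncard_of_finite (Finset.finite_toSet _)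
        _ ≤ _ := by
            rw [Set.ncard_coe_finset]
            refine (Finset.card_union_le _ _).trans (Nat.add_le_add ?_ ?_)
            · exact Finset.card_image_le.trans hs.le
            · exact Finset.card_image_le.trans (by simp)
    · obtain ⟨t, ht, htJ, hgen⟩ := exists_gens_extend (I.comap π) (Ideal.fg_of_isNoetherianRing _)
        hle a haJ hli
      have e : I = Ideal.span ((t.image π : Finset R) : Set R) := by
        refine le_antisymm ?_ (Ideal.span_le.2 fun x hx => ?_)
        · rw [← Ideal.map_comap_of_surjective π hπ I]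
          refine (Ideal.map_mono hgen).trans ?_
          rw [Ideal.map_span, Ideal.span_le]
          rintro _ ⟨x, hx | hx, rfl⟩
          · obtain ⟨i, rfl⟩ := hx
            have : a i ∈ RingHom.ker π := hker ▸ Ideal.subset_span ⟨i, rfl⟩
            rw [RingHom.mem_ker.1 this]
            exact zero_mem _
          · exact Ideal.subset_span (Finset.mem_image_of_mem π hx)
        · obtain ⟨y, hy, rfl⟩ := Finset.mem_image.1 hx
          exact htJ y hy
      have : I.spanFinrank ≤ t.card := by
        rw [e]
        refine (Submodule.spanFinrank_span_le_ncard_of_finite (Finset.finite_toSet _)).trans ?_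
        rw [Set.ncard_coe_finset]
        exact Finset.card_image_le
      omega
  rw [key, ← hdim]
  push_cast
  ac_rfl

/-- Being generated by a regular sequence does not depend on the regular local ring. -/
theorem regular_comap_iff {P : Type u} [CommRing P] [IsRegularLocalRing P]
    (π : P →+* R) (hπ : Function.Surjective π) (I : Ideal R) (hI : I ≠ ⊤) :
    (∃ rs : List P, IsRegular P rs ∧ I.comap π = Ideal.ofList rs) ↔
      ∃ rs : List R, IsRegular R rs ∧ I = Ideal.ofList rs := by
  rw [regular_iff _ (Ideal.comap_ne_top _ hI), regular_iff _ hI]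
  have e : ringKrullDim (P ⧸ I.comap π) = ringKrullDim (R ⧸ I) :=
    ringKrullDim_eq_of_ringEquiv (RingEquiv.ofBijective (Ideal.quotientMap I π le_rfl)
      ⟨Ideal.quotientMap_injective, Ideal.quotientMap_surjective hπ⟩)
  have h := spanFinrank_comap π hπ I hI
  rw [e]
  obtain ⟨dP, hP⟩ : ∃ d : ℕ, ringKrullDim P = d := ⟨_, (IsRegularLocalRing.spanFinrank_maximalIdeal (R := P)).symm⟩
  obtain ⟨dR, hR⟩ : ∃ d : ℕ, ringKrullDim R = d := ⟨_, (IsRegularLocalRing.spanFinrank_maximalIdeal (R := R)).symm⟩
  rw [hP, hR] at h ⊢
  haveI : Nontrivial (R ⧸ I) := Ideal.Quotient.nontrivial_iff.2 hI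
  haveI : IsLocalRing (R ⧸ I) := IsLocalRing.of_surjective' _ Ideal.Quotient.mk_surjective
  obtain ⟨dI, hd⟩ : ∃ d : ℕ, ringKrullDim (R ⧸ I) = d := by
    obtain ⟨d, hd⟩ := WithBot.ne_bot_iff_exists.1 (ringKrullDim_ne_bot (R := R ⧸ I))
    obtain ⟨n, hn⟩ := WithTop.ne_top_iff_exists.1 (show d ≠ ⊤ by
      intro hdt
      exact (ringKrullDim_ne_top (R := R ⧸ I)) (by rw [← hd, hdt]; rfl))
    exact ⟨n, by rw [← hd, ← hn]; rfl⟩
  rw [hd]
  norm_cast at h ⊢
  omega

end Groth.Agent.Lib.Synt92.CIInv
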