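import Groth.Agent.Lib.Synt92.DblQuasi
import Groth.Agent.Lib.Conormal92.ThirdFact
import Groth.Agent.Lib.Kaehler.Seq
import Groth.Prelude.Def_DCoh2

/-! The two-term cotangent complexes of two smooth factorisations agree in the derived category. -/

set_option autoImplicit false

universe u

open CategoryTheory CategoryTheory.Limits AlgebraicGeometry TopologicalSpace Opposite OmegaSh
open Groth.Agent.Lib

attribute [local instance] HasDerivedCategory.standard

namespace Groth.Agent.Lib.Synt92.CotTwoFact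

variable {X Y V V' : Scheme.{u}}

theorem map_app_pullSect {P Q : Scheme.{u}} (k : P ⟶ Q) {M N : Q.Modules} (f : M ⟶ N) (U : Q.Opens)
    (x : Γ(M, U)) :
    ((Scheme.Modules.pullback k).map f).app (k ⁻¹ᵁ U) (pullSect k M U x) = pullSect k N U (f.app U x) :=
  (congr((($((Scheme.Modules.pullbackPushforwardAdjunction k).unit.naturality f)).app U) x)).symm

/-- The canonical map along the identity, on differentials of functions. -/
theorem bar_app' {W S S' : Scheme.{u}} {f : W ⟶ S} {f' : W ⟶ S'} {Ω₁ Ω₂ : W.Modules} {d₁ : Der f Ω₁}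
    {d₂ : Der f' Ω₂} {c₂ : (Scheme.Modules.pullback (𝟙 W)).obj Ω₁ ⟶ Ω₂}
    (hc₂ : IsDiffCompat (𝟙 W) d₁ d₂ c₂) (U : W.Opens) (s : Γ(W, U)) :
    (Kaehler.Seq.bar c₂).app U (d₁.app U s) = d₂.app U s := by
  change c₂.app U (((Scheme.Modules.pullbackId W).inv.app Ω₁).app U (d₁.app U s)) = _
  rw [Kaehler.Seq.pullbackId_inv_app]
  exact hc₂ U s

/-- Passing to a smooth scheme over the ambient one does not change the two-term complex. -/
theorem compare {g : V ⟶ Y} {W : Scheme.{u}} (p : W ⟶ V) [Smooth p] (j : X ⟶ W) (i : X ⟶ V)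
    [IsImmersion i] [IsImmersion j] [QuasiCompact i] [QuasiCompact j] (hij : j ≫ p = i)
    {Ω : V.Modules} {d : Der g Ω} (hd : IsUniversal d)
    {ΩW : W.Modules} {dW : Der (p ≫ g) ΩW} (hW : IsUniversal dW)
    (c₁ : (Scheme.Modules.pullback p).obj Ω ⟶ ΩW) (hc₁ : IsDiffCompat p d dW c₁) [IsSplitMono c₁]
    {φ : Omega.conormal i ⟶ (Scheme.Modules.pullback i).obj Ω} (hφ : IsConormalDiff i d φ)
    {φW : Omega.conormal j ⟶ (Scheme.Modules.pullback j).obj ΩW} (hφW : IsConormalDiff j dW φW) :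
    Nonempty (DCoh.toD X (DblQuasi.dbl φ) ≅ DCoh.toD X (DblQuasi.dbl φW)) := by
  subst hij
  obtain ⟨ψ, hψ, -⟩ := Kaehler.Conormal.existsUnique_conormalMap (i := j) (i' := j ≫ p) (g := p)
    (gZ := 𝟙 X) (Category.id_comp _)
  obtain ⟨ΩV, dV, hV⟩ := Kaehler.Exists.exists_isUniversal p
  obtain ⟨c₂, hc₂, -⟩ := Kaehler.Basic.existsUnique_diffCompat (h := 𝟙 W) (b := g)
    (hsq := (Category.id_comp _).symm) hW dV
  have hex := Kaehler.Seq.exact hd hW hV hc₁ hc₂
  haveI := Kaehler.Seq.epi_bar hd hW hV hc₁ hc₂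
  let β : (Scheme.Modules.pullback j).obj ΩW ⟶ (Scheme.Modules.pullback j).obj ΩV :=
    (Scheme.Modules.pullback j).map (Kaehler.Seq.bar c₂)
  let sp := ShortComplex.Splitting.ofExactOfRetraction _ hex (retraction c₁) (IsSplitMono.id c₁) inferInstance
  have hB : (ShortComplex.mk ((Scheme.Modules.pullback j).map c₁) β (by
      rw [← Functor.map_comp, Kaehler.Seq.zero hd hc₁ hc₂, Functor.map_zero])).ShortExact :=
    (sp.map (Scheme.Modules.pullback j)).shortExact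
  obtain ⟨φV, hφV⟩ := H63.SectionOmega.exists_conormalDiff j dV
  obtain ⟨w, hexA, hepi⟩ := Kaehler.ConormalExact.main rfl hV hφV hψ
  haveI : Epi φV := hepi
  haveI : Mono ψ := Conormal92.SmoothInj.mono rfl (SmoothLift.Formal.isFormallySmoothHom_of_smooth p) hψ
  have hA : (ShortComplex.mk ψ φV w).ShortExact := { exact := hexA }
  have hβ : φW ≫ β = φV := by
    refine Kaehler.Descend.conormal_hom_ext fun U s => ?_
    change β.app _ (φW.app _ _) = _
    rw [hφW, hφV]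
    exact (map_app_pullSect j _ U _).trans (congrArg (pullSect j ΩV U) (Kaehler.Seq.bar_app hc₂ U _))
  let e₀ : Omega.conormal (j ≫ p) ≅ (Scheme.Modules.pullback (𝟙 X)).obj (Omega.conormal (j ≫ p)) :=
    ((Scheme.Modules.pullbackId X).app _).symm
  let e₁ : (Scheme.Modules.pullback (j ≫ p)).obj Ω ≅
      (Scheme.Modules.pullback j).obj ((Scheme.Modules.pullback p).obj Ω) :=
    (Scheme.Modules.pullbackComp j p).symm.app Ω
  have hsq : (e₀.hom ≫ ψ) ≫ φW = φ ≫ (e₁.hom ≫ (Scheme.Modules.pullback j).map c₁) := by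
    refine Kaehler.Descend.conormal_hom_ext fun U s => ?_
    have h0 : e₀.hom.app ((j ≫ p) ⁻¹ᵁ U) (conormalSect (j ≫ p) U s) =
        pullSect (𝟙 X) (Omega.conormal (j ≫ p)) ((j ≫ p) ⁻¹ᵁ U) (conormalSect (j ≫ p) U s) :=
      Kaehler.Seq.pullbackId_inv_app _ _ _
    have h1 : e₁.hom.app ((j ≫ p) ⁻¹ᵁ U) (pullSect (j ≫ p) Ω U (d.app U (idealSect (j ≫ p).ker U s))) =
        pullSect j ((Scheme.Modules.pullback p).obj Ω) (p ⁻¹ᵁ U)
          (pullSect p Ω U (d.app U (idealSect (j ≫ p).ker U s))) :=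
      (Kaehler.Comp.pullSect_comp p j Ω U _).symm
    refine (congrArg (fun t => φW.app ((j ≫ p) ⁻¹ᵁ U) (ψ.app ((j ≫ p) ⁻¹ᵁ U) t)) h0).trans ?_
    refine Eq.trans ?_ (congrArg (fun t => ((Scheme.Modules.pullback j).map c₁).app ((j ≫ p) ⁻¹ᵁ U)
      (e₁.hom.app ((j ≫ p) ⁻¹ᵁ U) t)) (hφ U s).symm)
    refine Eq.trans ?_ (congrArg (fun t => ((Scheme.Modules.pullback j).map c₁).app ((j ≫ p) ⁻¹ᵁ U) t) h1).symm
    erw [map_app_pullSect j c₁ (p ⁻¹ᵁ U), hc₁ U]
    erw [Kaehler.Conormal.app_eq hψ U s]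
    rw [Kaehler.Conormal.mapSect]
    refine (congr($(φW.mapPresheaf.naturality (homOfLE (Kaehler.Conormal.le_of_sq hψ.1 U)).op) _)).trans ?_
    change ((Scheme.Modules.pullback j).obj ΩW).presheaf.map _ (φW.app _ _) = _
    rw [hφW, Kaehler.Conormal.idealSect_liftSect]
    exact congr($(((Scheme.Modules.pullback j).obj ΩW).presheaf.map_id _) _)
  have wA : (e₀.hom ≫ ψ) ≫ φV = 0 := by rw [Category.assoc, w, comp_zero]
  have wB : (e₁.hom ≫ (Scheme.Modules.pullback j).map c₁) ≫ β = 0 := by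
    rw [Category.assoc, ← Functor.map_comp, Kaehler.Seq.zero hd hc₁ hc₂, Functor.map_zero, comp_zero]
  haveI := DblQuasi.quasiIso_map (e₀.hom ≫ ψ) (e₁.hom ≫ (Scheme.Modules.pullback j).map c₁) hsq φV β hβ
    wA (ShortComplex.shortExact_of_iso (ShortComplex.isoMk (S₁ := ShortComplex.mk ψ φV w) (S₂ := ShortComplex.mk (e₀.hom ≫ ψ) φV wA) e₀.symm (Iso.refl _) (Iso.refl _) (by simp) (by simp)) hA)
    wB (ShortComplex.shortExact_of_iso (ShortComplex.isoMk (S₁ := ShortComplex.mk ((Scheme.Modules.pullback j).map c₁) β (by rw [← Functor.map_comp, Kaehler.Seq.zero hd hc₁ hc₂, Functor.map_zero])) (S₂ := ShortComplex.mk (e₁.hom ≫ (Scheme.Modules.pullback j).map c₁) β wB) e₁.symm (Iso.refl _) (Iso.refl _) (by simp) (by simp)) hB)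
  exact ⟨asIso (DerivedCategory.Q.map
    (DblQuasi.map (e₀.hom ≫ ψ) (e₁.hom ≫ (Scheme.Modules.pullback j).map c₁) hsq))⟩

/-- The differentials of one factor split off those of an open piece of a fibre product. -/
theorem isSplitMono_proj {P : Scheme.{u}} {a : P ⟶ V} {b : P ⟶ V'} {g : V ⟶ Y} {g' : V' ⟶ Y}
    (hP : IsPullback a b g g') (W : P.Opens) {Ω : V.Modules} {d : Der g Ω} (hd : IsUniversal d)
    {ΩW : W.toScheme.Modules} {dW : Der ((W.ι ≫ a) ≫ g) ΩW} (hW : IsUniversal dW)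
    (c₁ : (Scheme.Modules.pullback (W.ι ≫ a)).obj Ω ⟶ ΩW)
    (hc₁ : IsDiffCompat (W.ι ≫ a) d dW c₁) : IsSplitMono c₁ := by
  obtain ⟨Ω₀, d₀, h₀⟩ := Kaehler.Exists.exists_isUniversal b
  obtain ⟨c₀, hc₀, -⟩ := Kaehler.Basic.existsUnique_diffCompat (h := a) (b := g')
    (hsq := hP.w.symm) hd d₀
  haveI := Kaehler.BaseChange.isIso_of_isPullback hP hd h₀ c₀ hc₀
  obtain ⟨d', hd', hc'⟩ := Kaehler.OpenImm.exists_isUniversal_pullback W.ι (𝟙 V')
    (f' := W.ι ≫ b) (Category.comp_id _) h₀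
  have hcomp := Kaehler.Comp.isDiffCompat_comp hc₀ hc'
  obtain ⟨c₂, hc₂, -⟩ := Kaehler.Basic.existsUnique_diffCompat (h := 𝟙 W.toScheme) (b := g')
    (f' := W.ι ≫ b)
    (hsq := by rw [Category.id_comp, Category.assoc, Category.assoc, hP.w]) hW d'
  set e := (Scheme.Modules.pullbackComp W.ι a).inv.app Ω ≫
    (Scheme.Modules.pullback W.ι).map c₀ ≫ 𝟙 _ with he
  have hiso : IsIso e := by rw [he]; infer_instance
  have key : c₁ ≫ Kaehler.Seq.bar c₂ = e := by
    apply ((Scheme.Modules.pullbackPushforwardAdjunction (W.ι ≫ a)).homEquiv Ω _).injective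
    refine Kaehler.Basic.universal_hom_ext hd fun U s => ?_
    rw [Kaehler.Basic.homEquiv_app, Kaehler.Basic.homEquiv_app, he]
    refine Eq.trans ?_ (hcomp U s).symm
    exact (Kaehler.Seq.comp_app_pullSect hc₁ _ U s).trans (bar_app' hc₂ _ _)
  exact IsSplitMono.mk' ⟨Kaehler.Seq.bar c₂ ≫ inv e, by rw [← Category.assoc, key, IsIso.hom_inv_id]⟩

theorem main (g : V ⟶ Y) [Smooth g] (g' : V' ⟶ Y) [Smooth g'] (i : X ⟶ V) [IsClosedImmersion i]
    (i' : X ⟶ V') [IsClosedImmersion i'] (h : i ≫ g = i' ≫ g')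
    {Ω : V.Modules} {d : Der g Ω} (hd : IsUniversal d) {Ω' : V'.Modules} {d' : Der g' Ω'} (hd' : IsUniversal d')
    {φ : Omega.conormal i ⟶ (Scheme.Modules.pullback i).obj Ω} (hφ : IsConormalDiff i d φ)
    {φ' : Omega.conormal i' ⟶ (Scheme.Modules.pullback i').obj Ω'} (hφ' : IsConormalDiff i' d' φ') :
    Nonempty (DCoh.toD X (DblQuasi.dbl φ) ≅ DCoh.toD X (DblQuasi.dbl φ')) := by
  let i'' : X ⟶ pullback g g' := pullback.lift i i' h
  haveI : IsImmersion (i'' ≫ pullback.fst g g') := by rw [pullback.lift_fst]; infer_instance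
  haveI : IsImmersion i'' := IsImmersion.of_comp i'' (pullback.fst g g')
  let W := i''.coborderRange
  let j := i''.liftCoborder
  let p := W.ι ≫ pullback.fst g g'
  let p' := W.ι ≫ pullback.snd g g'
  have hp : j ≫ p = i := by
    rw [← Category.assoc, i''.liftCoborder_ι, pullback.lift_fst]
  have hp' : j ≫ p' = i' := by
    rw [← Category.assoc, i''.liftCoborder_ι, pullback.lift_snd]
  haveI : Smooth p := inferInstance
  haveI : Smooth p' := inferInstance
  have hpg : p ≫ g = p' ≫ g' := by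
    simp only [p, p', Category.assoc, pullback.condition]
  have side : ∀ {f : W.toScheme ⟶ Y} (_ : f = p' ≫ g') {Ω₂ : W.toScheme.Modules} {d₂ : Der f Ω₂}
      (_ : IsUniversal d₂) {φ₂ : Omega.conormal j ⟶ (Scheme.Modules.pullback j).obj Ω₂}
      (_ : IsConormalDiff j d₂ φ₂),
      Nonempty (DCoh.toD X (DblQuasi.dbl φ') ≅ DCoh.toD X (DblQuasi.dbl φ₂)) := by
    intro f ef
    subst ef
    intro Ω₂ d₂ h₂ φ₂ hφ₂
    obtain ⟨c, hc, -⟩ := Kaehler.Basic.existsUnique_diffCompat (h := p') (b := 𝟙 Y)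
      (hsq := Category.comp_id _) hd' d₂
    haveI : IsSplitMono c := isSplitMono_proj (IsPullback.of_hasPullback g g').flip W hd' h₂ c hc
    exact compare p' j i' hp' hd' h₂ c hc hφ' hφ₂
  obtain ⟨ΩW, dW, hW⟩ := Kaehler.Exists.exists_isUniversal (p ≫ g)
  obtain ⟨φW, hφW⟩ := H63.SectionOmega.exists_conormalDiff j dW
  obtain ⟨c, hc, -⟩ := Kaehler.Basic.existsUnique_diffCompat (h := p) (b := 𝟙 Y)
    (hsq := Category.comp_id _) hd dW
  haveI : IsSplitMono c := isSplitMono_proj (IsPullback.of_hasPullback g g') W hd hW c hc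
  obtain ⟨e⟩ := compare p j i hp hd hW c hc hφ hφW
  obtain ⟨e'⟩ := side hpg hW hφW
  exact ⟨e ≪≫ e'.symm⟩

end Groth.Agent.Lib.Synt92.CotTwoFact
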