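import Mathlib.Algebra.Homology.Double
import Mathlib.Algebra.Homology.HomologySequenceLemmas
import Mathlib.Algebra.Homology.HomologicalComplexAbelian
import Mathlib.Algebra.Homology.DerivedCategory.Basic

/-! Quasi-isomorphisms of two-term complexes. -/

set_option autoImplicit false

universe w v u

open CategoryTheory CategoryTheory.Limits

namespace Groth.Agent.Lib.Synt92.DblQuasi

variable {C : Type u} [Category.{v} C] [Abelian C]

theorem rel01 : (ComplexShape.up ℤ).Rel (-1 : ℤ) 0 := neg_add_cancel (1 : ℤ)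

/-- A map in degrees `-1, 0`. -/
noncomputable abbrev dbl {A B : C} (φ : A ⟶ B) : CochainComplex C ℤ := HomologicalComplex.double φ rel01

noncomputable abbrev i0 {A B : C} (φ : A ⟶ B) : (dbl φ).X (-1) ≅ A := HomologicalComplex.doubleXIso₀ φ _

noncomputable abbrev i1 {A B : C} (φ : A ⟶ B) : (dbl φ).X 0 ≅ B :=
  HomologicalComplex.doubleXIso₁ φ _ (by decide)

/-- The map of two-term complexes of a commutative square. -/
noncomputable def map {A B A' B' : C} {φ : A ⟶ B} {φ' : A' ⟶ B'} (a : A ⟶ A') (b : B ⟶ B')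
    (h : a ≫ φ' = φ ≫ b) : dbl φ ⟶ dbl φ' :=
  HomologicalComplex.mkHomFromDouble rel01 (by decide) (a ≫ (i0 φ').inv) (b ≫ (i1 φ').inv)
    (by simp only [HomologicalComplex.double_d φ' rel01 (by decide), Category.assoc, Iso.inv_hom_id_assoc]
        rw [← Category.assoc, h, Category.assoc])
    (fun k _ => by rw [HomologicalComplex.double_d_eq_zero₀ φ' rel01 0 k (by decide), comp_zero])

@[simp] theorem map_f0 {A B A' B' : C} {φ : A ⟶ B} {φ' : A' ⟶ B'} (a : A ⟶ A') (b : B ⟶ B')
    (h : a ≫ φ' = φ ≫ b) : (map a b h).f (-1) = (i0 φ).hom ≫ a ≫ (i0 φ').inv :=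
  HomologicalComplex.mkHomFromDouble_f₀ _ _ _ _ _ _

@[simp] theorem map_f1 {A B A' B' : C} {φ : A ⟶ B} {φ' : A' ⟶ B'} (a : A ⟶ A') (b : B ⟶ B')
    (h : a ≫ φ' = φ ≫ b) : (map a b h).f 0 = (i1 φ).hom ≫ b ≫ (i1 φ').inv :=
  HomologicalComplex.mkHomFromDouble_f₁ _ _ _ _ _ _

theorem exactAt_id (T : C) (k : ℤ) : (dbl (𝟙 T)).ExactAt k := by
  rw [HomologicalComplex.exactAt_iff' _ (k - 1) k (k + 1) (by simp) (by simp)]
  have hd : IsIso ((dbl (𝟙 T)).d (-1) 0) := by
    rw [HomologicalComplex.double_d _ rel01 (by decide)]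
    infer_instance
  by_cases h0 : k = -1
  · subst h0
    refine (ShortComplex.exact_iff_mono _ ?_).2 ?_
    · exact (HomologicalComplex.isZero_double_X (𝟙 T) rel01 _ (by decide) (by decide)).eq_of_src _ _
    · change Mono ((dbl (𝟙 T)).d (-1) (-1 + 1))
      rw [show (-1 : ℤ) + 1 = 0 from rfl]
      infer_instance
  · by_cases h1 : k = 0
    · subst h1
      refine (ShortComplex.exact_iff_epi _ ?_).2 ?_
      · exact (HomologicalComplex.isZero_double_X (𝟙 T) rel01 _ (by decide) (by decide)).eq_of_tgt _ _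
      · change Epi ((dbl (𝟙 T)).d (0 - 1) 0)
        rw [show (0 : ℤ) - 1 = -1 from rfl]
        infer_instance
    · exact ShortComplex.exact_of_isZero_X₂ _ (HomologicalComplex.isZero_double_X (𝟙 T) rel01 k h0 h1)

/-- A square of monomorphisms inducing the same cokernel gives a quasi-isomorphism. -/
theorem quasiIso_map {A B A' B' T : C} {φ : A ⟶ B} {φ' : A' ⟶ B'} (a : A ⟶ A') (b : B ⟶ B')
    (h : a ≫ φ' = φ ≫ b) (ea : A' ⟶ T) (eb : B' ⟶ T) (hea : φ' ≫ eb = ea)
    (wa : a ≫ ea = 0) (hA : (ShortComplex.mk a ea wa).ShortExact)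
    (wb : b ≫ eb = 0) (hB : (ShortComplex.mk b eb wb).ShortExact) :
    QuasiIso (map a b h) := by
  let g : dbl φ' ⟶ dbl (𝟙 T) := map ea eb (by rw [Category.comp_id, hea])
  have w : map a b h ≫ g = 0 := by
    ext
    · simp [g, reassoc_of% wa]
    · simp [g, reassoc_of% wb]
  let S : ShortComplex (CochainComplex C ℤ) := ShortComplex.mk (map a b h) g w
  have hS : S.ShortExact := by
    refine HomologicalComplex.shortExact_of_degreewise_shortExact _ fun k => ?_
    by_cases h0 : k = -1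
    · subst h0
      refine ShortComplex.shortExact_of_iso (ShortComplex.isoMk (i0 φ).symm (i0 φ').symm (i0 (𝟙 T)).symm ?_ ?_) hA
      · simp [S]; exact Iso.inv_hom_id_assoc _ _
      · simp [S, g]; exact Iso.inv_hom_id_assoc _ _
    · by_cases h1 : k = 0
      · subst h1
        refine ShortComplex.shortExact_of_iso (ShortComplex.isoMk (i1 φ).symm (i1 φ').symm (i1 (𝟙 T)).symm ?_ ?_) hB
        · simp [S]; exact Iso.inv_hom_id_assoc _ _
        · simp [S, g]; exact Iso.inv_hom_id_assoc _ _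
      · have z : ∀ {P Q : C} (ψ : P ⟶ Q), IsZero ((dbl ψ).X k) := fun ψ => HomologicalComplex.isZero_double_X ψ rel01 k h0 h1
        exact { exact := ShortComplex.exact_of_isZero_X₂ _ (z φ')
                mono_f := ⟨fun u v _ => (z φ).eq_of_tgt u v⟩
                epi_g := ⟨fun u v _ => (z (𝟙 T)).eq_of_src u v⟩ }
  refine ⟨fun k => ?_⟩
  rw [quasiIsoAt_iff_isIso_homologyMap]
  have hz : ∀ j, IsZero (S.X₃.homology j) := fun j => (exactAt_id T j).isZero_homology
  haveI : Mono (HomologicalComplex.homologyMap S.f k) :=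
    (hS.homology_exact₁ (k - 1) k (by simp)).mono_g ((hz _).eq_of_src _ _)
  haveI : Epi (HomologicalComplex.homologyMap S.f k) :=
    (hS.homology_exact₂ k).epi_f ((hz _).eq_of_tgt _ _)
  exact isIso_of_mono_of_epi (HomologicalComplex.homologyMap S.f k)

end Groth.Agent.Lib.Synt92.DblQuasi
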