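import Groth.Prelude.Def_RegImm
import Groth.Agent.Lib.Dim.Basic
import Groth.Agent.Lib.Synt92.RelChart
import Mathlib.RingTheory.Localization.Away.AdjoinRoot
import Mathlib.RingTheory.Polynomial.Basic
import Mathlib.FieldTheory.IntermediateField.Adjoin.Basic
import Mathlib.FieldTheory.Minpoly.Field
import Mathlib.RingTheory.AdjoinRoot

/-! Every field extension is a union of global complete intersection subalgebras. -/

set_option autoImplicit false

universe u

open scoped Polynomial

namespace Groth.Agent.Lib.Synt92.FieldUnion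

variable {k : Type u} [Field k] {K : Type u} [Field K] [Algebra k K]

/-- The subalgebra has a presentation by `n` generators and `c` relations, of dimension at most `n - c`. -/
def Pres (n c : ℕ) (A : Subalgebra k K) : Prop :=
  c ≤ n ∧ ∃ (φ : MvPolynomial (Fin n) k →ₐ[k] K) (r : Fin c → MvPolynomial (Fin n) k),
    φ.range = A ∧ RingHom.ker φ.toRingHom = Ideal.span (Set.range r) ∧
      ringKrullDim A ≤ ((n - c : ℕ) : WithBot ℕ∞)

theorem pres_bot : Pres (K := K) 0 0 (⊥ : Subalgebra k K) := by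
  let φ : MvPolynomial (Fin 0) k →ₐ[k] K := MvPolynomial.aeval Fin.elim0
  refine ⟨le_rfl, φ, Fin.elim0, ?_, ?_, ?_⟩
  · refine le_antisymm ?_ bot_le
    rintro _ ⟨x, rfl⟩
    obtain ⟨a, rfl⟩ := MvPolynomial.C_surjective (Fin 0) x
    exact ⟨a, (φ.commutes a).symm⟩
  · rw [Set.range_eq_empty, Ideal.span_empty, RingHom.ker_eq_bot_iff_eq_zero]
    intro x hx
    obtain ⟨a, rfl⟩ := MvPolynomial.C_surjective (Fin 0) x
    rw [show φ.toRingHom (MvPolynomial.C a) = algebraMap k K a from φ.commutes a,
      map_eq_zero_iff _ (algebraMap k K).injective] at hx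
    rw [hx, map_zero]
  · rw [ringKrullDim_eq_of_ringEquiv (Algebra.botEquiv k K).toRingEquiv]
    simp

/-- Adjoining an element with known relations over the subalgebra. -/
theorem extend {n c : ℕ} (φ : MvPolynomial (Fin n) k →ₐ[k] K) (r : Fin c → MvPolynomial (Fin n) k)
    (hr : RingHom.ker φ.toRingHom = Ideal.span (Set.range r)) (y : K) (q : φ.range[X])
    (hq : ∀ f : φ.range[X], Polynomial.aeval y f = 0 ↔ f ∈ Ideal.span {q}) :
    ∃ (ψ : MvPolynomial (Fin (n + 1)) k →ₐ[k] K) (Q : MvPolynomial (Fin (n + 1)) k),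
      RingHom.ker ψ.toRingHom = Ideal.span (insert Q (Set.range (MvPolynomial.rename Fin.succ ∘ r))) ∧
      (q = 0 → Q = 0) ∧ φ.range ≤ ψ.range ∧ y ∈ ψ.range ∧
      (∀ S : Subalgebra k K, φ.range ≤ S → y ∈ S → ψ.range ≤ S) ∧
      ringKrullDim ψ.range ≤ ringKrullDim (φ.range[X] ⧸ Ideal.span {q}) := by
  classical
  let ψ : MvPolynomial (Fin (n + 1)) k →ₐ[k] K :=
    MvPolynomial.aeval (Fin.cons y (fun i => φ (MvPolynomial.X i)) : Fin (n + 1) → K)
  let e := MvPolynomial.finSuccEquiv k n
  let π : MvPolynomial (Fin n) k →+* φ.range := φ.rangeRestrict.toRingHom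
  have hπ : Function.Surjective π := φ.rangeRestrict_surjective
  have hπk : RingHom.ker π = Ideal.span (Set.range r) := by
    rw [← hr]
    ext x
    simp [π, RingHom.mem_ker, Subtype.ext_iff]
  have hfac : ψ.toRingHom =
      ((Polynomial.aeval (R := φ.range) y).toRingHom.comp (Polynomial.mapRingHom π)).comp e.toRingEquiv.toRingHom := by
    refine MvPolynomial.ringHom_ext (fun a => ?_) (fun i => ?_)
    · simp [ψ, e, π, MvPolynomial.finSuccEquiv_apply]
    · refine Fin.cases ?_ (fun j => ?_) i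
      · simp [ψ, e, MvPolynomial.finSuccEquiv_X_zero]
      · simp [ψ, e, π, MvPolynomial.finSuccEquiv_X_succ]
  obtain ⟨q₀, hq₀⟩ : ∃ q₀ : (MvPolynomial (Fin n) k)[X], q₀.map π = q ∧ (q = 0 → q₀ = 0) := by
    by_cases h : q = 0
    · exact ⟨0, by simp [h], fun _ => rfl⟩
    · obtain ⟨q₀, h₀⟩ := Polynomial.map_surjective π hπ q
      exact ⟨q₀, h₀, fun h' => absurd h' h⟩
  refine ⟨ψ, e.symm q₀, ?_, fun h => by rw [hq₀.2 h, map_zero], ?_, ?_, ?_, ?_⟩
  · have h1 : (Ideal.span {q}).comap (Polynomial.mapRingHom π) =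
        Ideal.span {q₀} ⊔ (Ideal.span (Set.range r)).map Polynomial.C := by
      rw [← hπk, ← Polynomial.ker_mapRingHom, show Ideal.span {q} = (Ideal.span {q₀}).map (Polynomial.mapRingHom π) by
        rw [Ideal.map_span, Set.image_singleton, Polynomial.coe_mapRingHom, hq₀.1],
        Ideal.comap_map_of_surjective _ (Polynomial.map_surjective π hπ)]
      rfl
    have h2 : RingHom.ker ψ.toRingHom = ((Ideal.span {q}).comap (Polynomial.mapRingHom π)).comap e.toRingEquiv.toRingHom := by
      rw [hfac, ← RingHom.comap_ker, ← RingHom.comap_ker]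
      congr 2
      ext f
      exact hq f
    have hren : ∀ x, e.symm (Polynomial.C x) = MvPolynomial.rename Fin.succ x := by
      intro x
      refine e.injective ?_
      rw [e.apply_symm_apply]
      have h : (e.toAlgHom.comp (MvPolynomial.rename Fin.succ)) = (IsScalarTower.toAlgHom k (MvPolynomial (Fin n) k) _) :=
        MvPolynomial.algHom_ext fun i => by simp [e, MvPolynomial.finSuccEquiv_X_succ]
      exact (DFunLike.congr_fun h x).symm
    rw [h2, h1, show ∀ I : Ideal (MvPolynomial (Fin n) k)[X],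
      I.comap e.toRingEquiv.toRingHom = I.map e.symm.toRingEquiv.toRingHom from fun I =>
        (Ideal.map_symm e.toRingEquiv).symm, Ideal.map_sup, Ideal.map_map, Ideal.map_span, Ideal.map_span,
      Set.image_singleton, ← Ideal.span_union, ← Set.range_comp, Set.singleton_union]
    congr 2
    refine congrArg Set.range (funext fun i => ?_)
    exact hren (r i)
  · rintro _ ⟨x, rfl⟩
    refine ⟨MvPolynomial.rename Fin.succ x, ?_⟩
    have : ψ.comp (MvPolynomial.rename Fin.succ) = φ := MvPolynomial.algHom_ext fun i => by simp [ψ]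
    exact DFunLike.congr_fun this x
  · exact ⟨MvPolynomial.X 0, by simp [ψ]⟩
  · intro S hS hyS
    rw [show ψ.range = Algebra.adjoin k (Set.range (Fin.cons y (fun i => φ (MvPolynomial.X i)) : Fin (n + 1) → K)) from
      (Algebra.adjoin_range_eq_range_aeval k _).symm, Algebra.adjoin_le_iff]
    rintro _ ⟨i, rfl⟩
    refine Fin.cases ?_ (fun j => ?_) i
    · simpa using hyS
    · simpa using hS ⟨MvPolynomial.X j, rfl⟩
  · have hmem : ∀ f : φ.range[X], Polynomial.aeval y f ∈ ψ.range := fun f => by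
      obtain ⟨f₀, rfl⟩ := Polynomial.map_surjective π hπ f
      refine ⟨e.symm f₀, ?_⟩
      have := RingHom.congr_fun hfac (e.symm f₀)
      simpa [e] using this
    let θ : φ.range[X] →+* ψ.range := (Polynomial.aeval (R := φ.range) y).toRingHom.codRestrict ψ.range.toSubring hmem
    refine ringKrullDim_le_of_surjective (Ideal.Quotient.lift _ θ fun f hf => Subtype.ext ((hq f).2 hf)) ?_
    refine Ideal.Quotient.lift_surjective_of_surjective _ _ fun z => ?_
    obtain ⟨x, hx⟩ := z.2
    exact ⟨(e x).map π, Subtype.ext ((RingHom.congr_fun hfac x).symm.trans hx)⟩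

/-- Adjoining the inverse of a nonzero element. -/
theorem step_inv {n c : ℕ} {A : Subalgebra k K} (h : Pres n c A) {a : K} (ha : a ∈ A) (ha0 : a ≠ 0) :
    ∃ B, Pres (n + 1) (c + 1) B ∧ A ≤ B ∧ a⁻¹ ∈ B ∧
      ∀ S : Subalgebra k K, A ≤ S → a⁻¹ ∈ S → B ≤ S := by
  classical
  obtain ⟨hc, φ, r, rfl, hr, hdim⟩ := h
  let a' : φ.range := ⟨a, ha⟩
  have hu : IsUnit (algebraMap φ.range K a') := ha0.isUnit
  let L := Localization.Away a'
  let ι : L →+* K := IsLocalization.Away.lift a' hu
  have hι : Function.Injective ι := by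
    rw [show ι = IsLocalization.lift _ from rfl, IsLocalization.lift_injective_iff]
    intro x z
    constructor
    · intro h1
      exact congrArg _ (IsLocalization.injective L (powers_le_nonZeroDivisors_of_noZeroDivisors
        (fun h0 : a' = 0 => ha0 (congrArg Subtype.val h0 :))) h1)
    · intro h1
      exact congrArg _ (Subtype.ext h1)
  let q : φ.range[X] := Polynomial.C a' * Polynomial.X - 1
  let E := Localization.awayEquivAdjoin a'
  have hq : ∀ f : φ.range[X], Polynomial.aeval a⁻¹ f = 0 ↔ f ∈ Ideal.span {q} := by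
    intro f
    rw [← AdjoinRoot.mk_eq_zero.trans Ideal.mem_span_singleton.symm]
    have hroot : ι (E.symm (AdjoinRoot.root q)) = a⁻¹ := by
      refine eq_inv_of_mul_eq_one_left ?_
      have h1 : algebraMap φ.range (AdjoinRoot q) a' * AdjoinRoot.root q = 1 := by
        have := AdjoinRoot.mk_self (f := q)
        rw [map_sub, map_one, map_mul, AdjoinRoot.mk_X, AdjoinRoot.mk_C, sub_eq_zero] at this
        exact this
      have h2 := congrArg (fun x => ι (E.symm x)) h1
      simp only [map_mul, map_one, AlgEquiv.commutes] at h2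
      rw [show E.symm (algebraMap φ.range (AdjoinRoot q) a') = algebraMap φ.range L a' from E.symm.commutes a',
        show ι (algebraMap φ.range L a') = a from IsLocalization.Away.lift_eq a' hu a', mul_comm] at h2
      exact h2
    let ev : φ.range[X] →+* K := (ι.comp E.symm.toRingEquiv.toRingHom).comp (AdjoinRoot.mk q)
    have hev : ev = (Polynomial.aeval (R := φ.range) a⁻¹).toRingHom := by
      refine Polynomial.ringHom_ext (fun x => ?_) ?_
      · change ι (E.symm (AdjoinRoot.mk q (Polynomial.C x))) = Polynomial.aeval a⁻¹ (Polynomial.C x)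
        rw [AdjoinRoot.mk_C, Polynomial.aeval_C, show AdjoinRoot.of q x = algebraMap _ _ x from rfl,
          AlgEquiv.commutes, IsLocalization.Away.lift_eq]
      · change ι (E.symm (AdjoinRoot.mk q Polynomial.X)) = Polynomial.aeval a⁻¹ (Polynomial.X : φ.range[X])
        rw [AdjoinRoot.mk_X, Polynomial.aeval_X, hroot]
    rw [show Polynomial.aeval a⁻¹ f = ev f from (RingHom.congr_fun hev f).symm]
    exact map_eq_zero_iff (ι.comp E.symm.toRingEquiv.toRingHom) (hι.comp E.symm.injective)
  obtain ⟨ψ, Q, hk, -, hle, hy, hmin, hd⟩ := extend φ r hr a⁻¹ q hq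
  refine ⟨ψ.range, ⟨by omega, ψ, Fin.cons Q (MvPolynomial.rename Fin.succ ∘ r), rfl, ?_, hd.trans ?_⟩, hle, hy, hmin⟩
  · rw [hk, Fin.range_cons]
  · rw [show n + 1 - (c + 1) = n - c by omega]
    refine le_trans ?_ hdim
    refine le_of_eq_of_le (ringKrullDim_eq_of_ringEquiv (E : L ≃ₐ[φ.range] AdjoinRoot q).toRingEquiv).symm ?_
    exact Order.krullDim_le_of_strictMono (PrimeSpectrum.comap (algebraMap φ.range L))
        (Monotone.strictMono_of_injective (fun _ _ h => Ideal.comap_mono h)
          (PrimeSpectrum.localization_comap_injective L (Submonoid.powers a')))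

/-- Adjoining any element. -/
theorem step {n c : ℕ} {A : Subalgebra k K} (h : Pres n c A) (y : K) :
    ∃ n' c' B, Pres n' c' B ∧ A ≤ B ∧ y ∈ B := by
  classical
  by_cases halg : IsAlgebraic A y
  swap
  · obtain ⟨hc, φ, r, rfl, hr, hdim⟩ := h
    obtain ⟨ψ, Q, hk, hQ, hle, hy, -, hd⟩ := extend φ r hr y 0 (fun f => by
      rw [Ideal.span_singleton_eq_bot.2 rfl, Ideal.mem_bot]
      exact ⟨fun hf => by_contra fun hne => halg ⟨f, hne, hf⟩, fun hf => by rw [hf, map_zero]⟩)
    haveI : IsNoetherianRing φ.range := isNoetherianRing_of_surjective _ _ φ.rangeRestrict.toRingHom φ.rangeRestrict_surjective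
    refine ⟨n + 1, c, ψ.range, ⟨by omega, ψ, MvPolynomial.rename Fin.succ ∘ r, rfl, ?_, hd.trans ?_⟩, hle, hy⟩
    · rw [hk, hQ rfl, Ideal.span_insert_zero]
    · refine (ringKrullDim_quotient_le _).trans ?_
      rw [Polynomial.ringKrullDim_of_isNoetherianRing, show n + 1 - c = n - c + 1 by omega, Nat.cast_succ]
      gcongr
  -- `y` is algebraic over the fraction field
  let F : IntermediateField k K := IntermediateField.adjoin k (A : Set K)
  have hAF : ∀ x ∈ A, x ∈ F := fun x hx => IntermediateField.subset_adjoin k _ hx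
  let μ : A →+* F := A.val.toRingHom.codRestrict F.toSubfield.toSubring fun x => hAF _ x.2
  have hint : IsIntegral F y := by
    obtain ⟨p, hp, hpy⟩ := halg
    refine IsAlgebraic.isIntegral ⟨p.map μ, (Polynomial.map_ne_zero_iff (fun x z e =>
      Subtype.ext (congrArg (fun w : F => (w : K)) e : _))).2 hp, ?_⟩
    rw [Polynomial.aeval_def, Polynomial.eval₂_map]
    exact hpy
  let m := minpoly F y
  have hfrac : ∀ x : F, ∃ a ∈ A, a ≠ 0 ∧ a * (x : K) ∈ A := fun x => by
    obtain ⟨P, Q, hx⟩ := (IntermediateField.mem_adjoin_iff k _).1 x.2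
    have hmem : ∀ P : MvPolynomial (A : Set K) k, MvPolynomial.aeval (fun i : (A : Set K) => (i : K)) P ∈ A := fun P =>
      Algebra.adjoin_le (S := A) le_rfl (Algebra.adjoin_eq_range k (A : Set K) ▸ ⟨P, rfl⟩)
    by_cases h0 : MvPolynomial.aeval (fun i : (A : Set K) => (i : K)) Q = 0
    · exact ⟨1, one_mem _, one_ne_zero, by rw [hx, h0, div_zero, mul_zero]; exact zero_mem _⟩
    · refine ⟨_, hmem Q, h0, ?_⟩
      rw [hx, mul_div_cancel₀ _ h0]
      exact hmem P
  choose den hden hden0 hdenmem using fun i : ℕ => hfrac (m.coeff i)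
  let a := ∏ i ∈ Finset.range (m.natDegree + 1), den i
  have ha : a ∈ A := prod_mem fun i _ => hden i
  have ha0 : a ≠ 0 := Finset.prod_ne_zero_iff.2 fun i _ => hden0 i
  obtain ⟨A', hA', hAA', hainv, hmin⟩ := step_inv h ha ha0
  obtain ⟨hc, φ, r, rfl, hr, hdim⟩ := hA'
  have hcoef : ∀ i, (m.coeff i : K) ∈ φ.range := fun i => by
    by_cases hi : i ∈ Finset.range (m.natDegree + 1)
    · have : (m.coeff i : K) = a⁻¹ * ((∏ j ∈ (Finset.range (m.natDegree + 1)).erase i, den j) * (den i * m.coeff i)) := by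
        rw [← mul_assoc _ (den i), Finset.prod_erase_mul _ _ hi, ← mul_assoc, inv_mul_cancel₀ ha0, one_mul]
      rw [this]
      exact mul_mem hainv (hAA' (mul_mem (prod_mem fun j _ => hden j) (hdenmem i)))
    · rw [Polynomial.coeff_eq_zero_of_natDegree_lt (by simpa [Nat.lt_succ_iff] using hi), ZeroMemClass.coe_zero]
      exact zero_mem _
  obtain ⟨p, hp, hpm⟩ : ∃ p : φ.range[X], p.Monic ∧ p.map (algebraMap φ.range K) = m.map (algebraMap F K) := by
    have hl : m.map (algebraMap F K) ∈ Polynomial.lifts (algebraMap φ.range K) := by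
      rw [Polynomial.lifts_iff_coeff_lifts]
      intro i
      refine ⟨⟨_, hcoef i⟩, ?_⟩
      rw [Polynomial.coeff_map]
      rfl
    obtain ⟨p, hpm, -, hp⟩ := Polynomial.lifts_and_degree_eq_and_monic hl ((minpoly.monic hint).map _)
    exact ⟨p, hp, hpm⟩
  have hin : ∀ x ∈ φ.range, x ∈ F := fun x hx => hmin F.toSubalgebra hAF (F.inv_mem (hAF a ha)) hx
  let μ' : φ.range →+* F := φ.range.val.toRingHom.codRestrict F.toSubfield.toSubring fun x => hin _ x.2
  have hμ' : Function.Injective μ' := fun x z e => Subtype.ext (congrArg (fun w : F => (w : K)) e :)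
  have hpμ : p.map μ' = m := by
    refine Polynomial.map_injective (algebraMap F K) (algebraMap F K).injective ?_
    rw [Polynomial.map_map, ← hpm]
    rfl
  have hq : ∀ f : φ.range[X], Polynomial.aeval y f = 0 ↔ f ∈ Ideal.span {p} := by
    intro f
    rw [Ideal.mem_span_singleton, ← Polynomial.modByMonic_eq_zero_iff_dvd hp,
      ← Polynomial.map_eq_zero_iff hμ', Polynomial.map_modByMonic μ' hp, hpμ,
      Polynomial.modByMonic_eq_zero_iff_dvd (minpoly.monic hint), minpoly.dvd_iff]
    simp only [Polynomial.aeval_def, Polynomial.eval₂_map]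
    exact Iff.rfl
  obtain ⟨ψ, Q, hk, -, hle, hy, -, hd⟩ := extend φ r hr y p hq
  refine ⟨n + 1 + 1, c + 1 + 1, ψ.range, ⟨by omega, ψ, Fin.cons Q (MvPolynomial.rename Fin.succ ∘ r), rfl, ?_, hd.trans ?_⟩,
    hAA'.trans hle, hy⟩
  · rw [hk, Fin.range_cons]
  · rw [show n + 1 + 1 - (c + 1 + 1) = n + 1 - (c + 1) by omega]
    refine le_trans ?_ hdim
    haveI : Module.Finite φ.range (AdjoinRoot p) := hp.finite_adjoinRoot
    exact Dim.Integral.ringKrullDim_le_of_isIntegral (R := φ.range) (A := AdjoinRoot p)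

theorem exists_pres (E : Finset K) : ∃ n c, ∃ A : Subalgebra k K, Pres n c A ∧ (E : Set K) ⊆ A := by
  classical
  induction E using Finset.induction with
  | empty => exact ⟨0, 0, ⊥, pres_bot, by simp⟩
  | insert y E _ ih =>
    obtain ⟨n, c, A, hA, hE⟩ := ih
    obtain ⟨n', c', B, hB, hAB, hy⟩ := step hA y
    exact ⟨n', c', B, hB, by
      rw [Finset.coe_insert]
      exact Set.insert_subset hy (hE.trans hAB)⟩

theorem exists_isGlobalCI (E : Finset K) :
    ∃ A : Subalgebra k K, (↑E : Set K) ⊆ (A : Set K) ∧ Synt.IsGlobalCI k A := by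
  obtain ⟨n, c, A, ⟨hc, φ, r, rfl, hr, hdim⟩, hE⟩ := exists_pres (k := k) E
  have hker : RingHom.ker φ.rangeRestrict.toRingHom = Ideal.span (Set.range r) := by
    rw [← hr]
    ext x
    simp [RingHom.mem_ker, Subtype.ext_iff]
  exact ⟨φ.range, hE, Or.inr ⟨n, c, hc, φ.rangeRestrict, r, φ.rangeRestrict_surjective, hker,
    RelChart.ringKrullDim_eq hc φ.rangeRestrict φ.rangeRestrict_surjective r hker hdim⟩⟩

end Groth.Agent.Lib.Synt92.FieldUnion
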