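import Groth.Agent.S9147
import Groth.Agent.Lib.Synt92.Congr
import Mathlib.RingTheory.AdjoinRoot
import Mathlib.RingTheory.KrullDimension.Zero
import Mathlib.RingTheory.HopkinsLevitzki

/-!
# Finite algebras with as many equations as variables
-/

universe u

open MvPolynomial

namespace Groth.Agent.Lib.Synt92.FiniteGCI

variable {R : Type u} [CommRing R] {n : ℕ}

theorem ringKrullDim_of_finite (k : Type u) [Field k] {B : Type u} [CommRing B] [Algebra k B]
    [Module.Finite k B] [Nontrivial B] : ringKrullDim B = 0 := by
  haveI : IsArtinianRing B := IsArtinianRing.of_finite k B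
  haveI : Ring.KrullDimLE 0 B := (isArtinianRing_iff_isNoetherianRing_krullDimLE_zero.1 inferInstance).2
  exact (ringKrullDimZero_iff_ringKrullDim_eq_zero (R := B)).1 inferInstance

/-- As many equations as variables with finite quotient form a relative global complete intersection. -/
theorem isRelGCI (F : Fin n → MvPolynomial (Fin n) R)
    [Module.Finite R (Synt.RelGCIRing R n n F)] : Synt.IsRelGCI R n n F := by
  intro p hp
  refine ⟨le_rfl, ?_⟩
  haveI := hp
  refine (ringKrullDim_of_finite p.asIdeal.ResidueField
    (B := p.asIdeal.Fiber (Synt.RelGCIRing R n n F))).trans ?_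
  simp

/-- As many equations as variables with finite quotient give a syntomic algebra. -/
theorem isSyntomic (F : Fin n → MvPolynomial (Fin n) R) {S : Type u} [CommRing S] [Algebra R S]
    [Module.Finite R S] (e : Synt.RelGCIRing R n n F ≃ₐ[R] S) : Synt.IsSyntomic R S := by
  haveI : Module.Finite R (Synt.RelGCIRing R n n F) := Module.Finite.equiv e.symm.toLinearEquiv
  exact Congr.isSyntomic_congr e (Groth.Agent.S9147.result R n n F (isRelGCI F))

/-- Adjoining a root of a monic polynomial is syntomic. -/
theorem isSyntomic_adjoinRoot (P : Polynomial R) (hP : P.Monic) :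
    Synt.IsSyntomic R (AdjoinRoot P) := by
  haveI := hP.finite_adjoinRoot
  let E : MvPolynomial (Fin 1) R ≃ₐ[R] Polynomial R :=
    uniqueAlgEquiv R (Fin 1)
  refine isSyntomic (fun _ => E.symm P) ?_
  have h : (Ideal.span {P} : Ideal (Polynomial R)) =
      (Ideal.span (Set.range fun _ : Fin 1 => E.symm P)).map E.toAlgHom := by
    rw [Ideal.map_span, Set.range_const, Set.image_singleton]
    simp
  exact Ideal.quotientEquivAlg _ _ E h

end Groth.Agent.Lib.Synt92.FiniteGCI
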