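import Groth.Agent.Lib.Synt92.KRRank
import Groth.Agent.H26.RegImmAppend
import Mathlib.Algebra.MvPolynomial.Equiv
import Mathlib.RingTheory.Polynomial.Basic
import Mathlib.RingTheory.Regular.Flat
import Mathlib.RingTheory.Flat.Basic

/-! Koszul-regular sequences become regular after a generic change of generators. -/

set_option autoImplicit false

universe u

open MvPolynomial RingTheory.Sequence

namespace Groth.Agent.Lib.Synt92.GenericRegular

open Groth.Agent.Lib.TorObstruction.Cube Groth.Agent.Lib.Wiebe.Exterior Groth.Agent.Lib.Wiebe.Link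

theorem coeff_mul_C {A σ : Type*} [CommRing A] (d : σ →₀ ℕ) (p : MvPolynomial σ A) (a : A) :
    coeff d (p * C a) = coeff d p * a := by
  rw [mul_comm, MvPolynomial.coeff_C_mul, mul_comm]

/-- A special case of McCoy's theorem. -/
theorem mccoy {A : Type u} [CommRing A] {n : ℕ} (f₀ : A) (f : Fin n → A)
    (hann : ∀ a, a * f₀ = 0 → (∀ j, a * f j = 0) → a = 0) (q : MvPolynomial (Fin n) A)
    (h : q * (C f₀ + ∑ j, X j * C (f j)) = 0) : q = 0 := by
  classical
  suffices H : ∀ (N : ℕ) (q : MvPolynomial (Fin n) A), q.support.card ≤ N →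
      q * (C f₀ + ∑ j, X j * C (f j)) = 0 → q = 0 from H _ q le_rfl h
  intro N
  induction N with
  | zero => intro q hq _; exact MvPolynomial.support_eq_empty.1 (Finset.card_eq_zero.1 (Nat.le_zero.1 hq))
  | succ N ih =>
    intro q hq hq0
    have hj : ∀ j, q * C (f j) = 0 := by
      intro j
      by_cases hne : q.support.Nonempty
      · obtain ⟨d, hd, hmax⟩ := q.support.exists_max_image (fun d => d j) hne
        have h1 := congrArg (coeff (d + Finsupp.single j 1)) hq0
        rw [coeff_zero, mul_add, coeff_add, coeff_mul_C, Finset.mul_sum, coeff_sum] at h1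
        have h0 : coeff (d + Finsupp.single j 1) q = 0 := notMem_support_iff.1 fun hmem => by
          have := hmax _ hmem
          simp at this
        rw [h0, zero_mul, zero_add, Finset.sum_eq_single j] at h1
        · rw [← mul_assoc, coeff_mul_C, coeff_mul_X'] at h1
          simp only [Finsupp.mem_support_iff, Finsupp.add_apply, Finsupp.single_eq_same,
            add_tsub_cancel_right] at h1
          rw [if_pos (by omega)] at h1
          refine ih _ ?_ (by rw [mul_right_comm, hq0, zero_mul])
          have hsub : (q * C (f j)).support ⊂ q.support := by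
            refine Finset.ssubset_iff_of_subset (fun m hm => ?_) |>.2 ⟨d, hd, ?_⟩
            · rw [mem_support_iff, coeff_mul_C] at hm
              exact mem_support_iff.2 (left_ne_zero_of_mul hm)
            · rw [notMem_support_iff, coeff_mul_C, h1]
          have := Finset.card_lt_card hsub
          omega
        · intro i _ hij
          rw [← mul_assoc, coeff_mul_C, coeff_mul_X']
          split_ifs with hi
          · rw [notMem_support_iff.1 (fun hmem => ?_), zero_mul]
            have := hmax _ hmem
            simp [Finsupp.single_eq_of_ne, Ne.symm hij] at this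
          · rw [zero_mul]
        · simp
      · rw [Finset.not_nonempty_iff_eq_empty.1 hne |> MvPolynomial.support_eq_empty.1, zero_mul]
    have h0 : q * C f₀ = 0 := by
      rw [mul_add, Finset.mul_sum] at hq0
      simpa [mul_left_comm q, hj] using hq0
    ext d
    rw [coeff_zero]
    refine hann _ ?_ fun j => ?_
    · rw [← coeff_mul_C, h0, coeff_zero]
    · rw [← coeff_mul_C, hj j, coeff_zero]

theorem opI_top {A : Type u} [CommRing A] {n : ℕ} (f : Fin n → A) (w : V A n) :
    opI f w (fun _ => true) = 0 := by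
  have hwt : wt (fun _ : Fin n => true) = n := wt_top n
  have h : P n (opI f w) (fun _ => true) = opI f w (fun _ => true) := by rw [P_apply, if_pos hwt]
  rw [← h, P_opI, show P (n + 1) w = 0 from funext fun b => by
    rw [P_apply, if_neg (by have := wt_le b; omega)]; rfl, map_zero]
  rfl

theorem eq_zero_of_annihilates {A : Type u} [CommRing A] {n : ℕ} (f : Fin (n + 1) → A) (hf : Acyc f)
    (a : A) (ha : ∀ i, a * f i = 0) : a = 0 := by
  let e : V A (n + 1) := Pi.single (fun _ => true) 1
  have hne : O (n + 1) ≠ (fun _ => true) := fun h => Bool.false_ne_true (congrFun h 0)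
  obtain ⟨w, hw⟩ := hf (a • e) (by
    funext b
    rw [map_smul, Pi.smul_apply, smul_eq_mul, Pi.zero_apply]
    obtain ⟨c, hc⟩ := Ideal.mem_span_range_iff_exists_fun.1 (opI_mem f e b)
    rw [← hc, Finset.mul_sum]
    exact Finset.sum_eq_zero fun i _ => by rw [mul_left_comm, ha, mul_zero]) (by simp [e, Pi.single_eq_of_ne hne])
  have := congrFun hw (fun _ => true)
  rw [opI_top] at this
  simpa [e] using this.symm

theorem acyc_cast {A : Type u} [CommRing A] {n m : ℕ} (h : n = m) (f : Fin m → A) (hf : Acyc f) :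
    Acyc (f ∘ Fin.cast h) := by
  subst h
  exact hf

theorem isWeaklyRegular_map {A B : Type u} [CommRing A] [CommRing B] (φ : A →+* B) (hφ : φ.Flat)
    {rs : List A} (h : IsWeaklyRegular A rs) : IsWeaklyRegular B (rs.map φ) := by
  algebraize [φ]
  exact h.of_flat

theorem step {σ : Type} {A₁ B : Type u} [CommRing A₁] [CommRing B] (φ : A₁ →+* B)
    (hφ : Function.Surjective φ) (g₀ : A₁) (hker : RingHom.ker φ = Ideal.span {g₀})
    (hreg : IsWeaklyRegular A₁ [g₀]) (gs : List (MvPolynomial σ B)) (hgs : IsWeaklyRegular (MvPolynomial σ B) gs)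
    {n : ℕ} (t : Fin n → A₁) (hspan : Ideal.ofList gs = Ideal.map C (Ideal.span (Set.range (φ ∘ t)))) :
    ∃ gs₁ : List (MvPolynomial σ A₁), IsWeaklyRegular (MvPolynomial σ A₁) gs₁ ∧
      Ideal.ofList gs₁ = Ideal.map C (Ideal.span {g₀} ⊔ Ideal.span (Set.range t)) := by
  let ψ := MvPolynomial.map (σ := σ) φ
  have hψ : Function.Surjective ψ := MvPolynomial.map_surjective _ hφ
  obtain ⟨gs', rfl⟩ : ∃ l : List (MvPolynomial σ A₁), l.map ψ = gs := by
    refine ⟨gs.map fun x => (hψ x).choose, ?_⟩
    rw [List.map_map]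
    exact (List.map_congr_left fun x _ => (hψ x).choose_spec).trans (List.map_id gs)
  have hkerψ : RingHom.ker ψ = Ideal.ofList [(C g₀ : MvPolynomial σ A₁)] := by
    rw [MvPolynomial.ker_map, hker, Ideal.map_span, Set.image_singleton, Ideal.ofList_singleton]
  have hCflat : (C : A₁ →+* MvPolynomial σ A₁).Flat := by
    rw [← MvPolynomial.algebraMap_eq]
    exact RingHom.flat_algebraMap_iff.2 inferInstance
  have hC := isWeaklyRegular_map _ hCflat hreg
  rw [List.map_singleton] at hC
  refine ⟨[C g₀] ++ gs', H26.RegImmAppend.weaklyRegular_append ψ hψ _ gs' hkerψ hC hgs, ?_⟩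
  have h3 : Ideal.map C (Ideal.span (Set.range (φ ∘ t))) = ((Ideal.span (Set.range t)).map C).map ψ := by
    rw [Set.range_comp, ← Ideal.map_span, Ideal.map_map, Ideal.map_map]
    congr 1
    exact RingHom.ext fun a => (MvPolynomial.map_C φ a).symm
  have h4 : Ideal.ofList [(C g₀ : MvPolynomial σ A₁)] = (Ideal.span {g₀}).map C := by
    rw [Ideal.ofList_singleton, Ideal.map_span, Set.image_singleton]
  rw [H26.RegImmAppend.ofList_append_eq ψ hψ _ _ hkerψ, hspan, h3, Ideal.comap_map_of_surjective _ hψ,
    ← RingHom.ker_eq_comap_bot, hkerψ, h4, ← Ideal.map_sup, sup_comm]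

/-- After a generic change of generators a Koszul-regular sequence is regular. -/
theorem exists_generic : ∀ (n : ℕ) {A : Type u} [CommRing A] (f : Fin n → A), Acyc f →
    ∃ (σ : Type) (_ : Finite σ) (gs : List (MvPolynomial σ A)), IsWeaklyRegular (MvPolynomial σ A) gs ∧
      Ideal.ofList gs = Ideal.map C (Ideal.span (Set.range f)) := by
  intro n
  induction n with
  | zero =>
    intro A _ f _
    refine ⟨Empty, inferInstance, [], IsWeaklyRegular.nil _ _, ?_⟩
    rw [Set.range_eq_empty f, Ideal.span_empty, Ideal.map_bot, Ideal.ofList_nil]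
  | succ n ih =>
    intro A _ f hf
    let A₁ := MvPolynomial (Fin n) A
    let F : Fin (n + 1) → A₁ := fun i => C (f i)
    let t : Fin n → A₁ := fun j => F j.succ
    let g₀ : A₁ := F 0 + ∑ j, X j * t j
    have hF : Acyc F := Wiebe.Bridge.acyc_flat f hf
    have hreg : IsWeaklyRegular A₁ [g₀] := by
      rw [isWeaklyRegular_singleton_iff]
      refine isSMulRegular_iff_right_eq_zero_of_smul.2 fun q hq => mccoy (f 0) (fun j => f j.succ)
        (fun a h0 hs => eq_zero_of_annihilates f hf a (Fin.cases h0 hs)) q ?_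
      rw [mul_comm]
      exact hq
    let s : Fin 1 → A₁ := fun _ => g₀
    have hs : Acyc s := CubeBase.acyc_of_isWeaklyRegular s (by simpa [s] using hreg)
    have hts : Ideal.span (Set.range (CubeComp.app t s)) = Ideal.span (Set.range F) := by
      rw [CubeComp.range_app, Ideal.span_union]
      have h1 : ∑ j, X j * t j ∈ Ideal.span (Set.range t) :=
        Ideal.sum_mem _ fun j _ => Ideal.mul_mem_left _ _ (Ideal.subset_span ⟨j, rfl⟩)
      apply le_antisymm
      · refine sup_le (Ideal.span_le.2 ?_) (Ideal.span_le.2 ?_)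
        · rintro _ ⟨j, rfl⟩; exact Ideal.subset_span ⟨j.succ, rfl⟩
        · rintro _ ⟨_, rfl⟩
          exact add_mem (Ideal.subset_span ⟨0, rfl⟩)
            (Ideal.sum_mem _ fun j _ => Ideal.mul_mem_left _ _ (Ideal.subset_span ⟨j.succ, rfl⟩))
      · refine Ideal.span_le.2 ?_
        rintro _ ⟨i, rfl⟩
        refine Fin.cases ?_ (fun j => Ideal.mem_sup_left (Ideal.subset_span ⟨j, rfl⟩)) i
        have h2 : F 0 = g₀ + -∑ j, X j * t j := (add_neg_cancel_right _ _).symm
        change F 0 ∈ _
        rw [h2]
        exact add_mem (Ideal.mem_sup_right (Ideal.subset_span ⟨0, rfl⟩)) (Ideal.mem_sup_left (neg_mem h1))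
    have hap : Acyc (CubeComp.app t s) := by
      refine KRRank.acyc_of_card_eq _ _ (acyc_cast (Nat.add_comm 1 n) F hF) ?_
      rw [hts]
      congr 1
      exact ((finCongr (Nat.add_comm 1 n)).surjective.range_comp F).symm
    clear_value g₀
    let φ : A₁ →+* A₁ ⧸ Ideal.span {g₀} := Ideal.Quotient.mk _
    have hker : RingHom.ker φ = Ideal.span (Set.range s) := by
      rw [Ideal.mk_ker, Set.range_const]
    have hq : Acyc (φ ∘ t) := CubeComp.acyc_of_app φ Ideal.Quotient.mk_surjective t s hker hs hap
    obtain ⟨σ, hσ, gs, hgs, hgspan⟩ := ih (φ ∘ t) hq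
    obtain ⟨gs₁, hgs₁, hgs₁span⟩ := step φ Ideal.Quotient.mk_surjective g₀ (Ideal.mk_ker) hreg gs hgs t hgspan
    let e := (sumAlgEquiv A σ (Fin n)).symm.toRingEquiv
    refine ⟨σ ⊕ Fin n, inferInstance, gs₁.map e.toRingHom,
      isWeaklyRegular_map _ (RingHom.Flat.of_bijective e.bijective) hgs₁, ?_⟩
    have h5 : Ideal.span (Set.range (fun _ : Fin 1 => g₀)) = Ideal.span {g₀} := by rw [Set.range_const]
    rw [← Ideal.map_ofList, hgs₁span, ← h5, sup_comm, ← Ideal.span_union, ← CubeComp.range_app, hts,
      Ideal.map_map, Ideal.map_span, Ideal.map_span, ← Set.range_comp, ← Set.range_comp]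
    congr 2
    exact funext fun i => sumAlgEquiv_symm_C_C A σ (Fin n) (f i)

end Groth.Agent.Lib.Synt92.GenericRegular
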