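import Groth.Agent.Lib.Synt92.KRSpec
import Groth.Agent.Lib.Synt92.MorCrit
import Mathlib.RingTheory.FiniteType

/-! Koszul morphisms descend along syntomic covers of the source. -/

set_option autoImplicit false

universe u

open CategoryTheory AlgebraicGeometry

namespace Groth.Agent.Lib.Synt92.KRCover

theorem fromSpec_comp {X Y : Scheme.{u}} (f : X ⟶ Y) {V : Y.Opens} (hV : IsAffineOpen V) {U : X.Opens}
    (hU : IsAffineOpen U) (e : U ≤ f ⁻¹ᵁ V) :
    hU.isoSpec.hom ≫ Spec.map (f.appLE V U e) ≫ hV.fromSpec = U.ι ≫ f := by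
  rw [hV.SpecMap_appLE_fromSpec f hU e, ← Category.assoc, hU.isoSpec_hom_fromSpec]

theorem isKoszulAt_of_comp {X' X Y : Scheme.{u}} (g : X' ⟶ X) (hg : CInt.IsCIMorphism g) [Surjective g]
    (f : X ⟶ Y) [LocallyOfFiniteType f] (h : ∀ x' : X', Synt.IsKoszulAt (g ≫ f) x') (x : X) :
    Synt.IsKoszulAt f x := by
  obtain ⟨V, hV, hxV, -⟩ := exists_isAffineOpen_mem_and_subset (X := Y) (x := f x) (U := ⊤) trivial
  obtain ⟨U, hU, hxU, hUV⟩ := exists_isAffineOpen_mem_and_subset (x := x) (U := f ⁻¹ᵁ V) hxV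
  let R := Γ(Y, V)
  let C := Γ(X, U)
  letI : Algebra R C := (f.appLE V U hUV).hom.toAlgebra
  haveI : Algebra.FiniteType R C :=
    RingHom.finiteType_algebraMap.1 (HasRingHomProperty.appLE @LocallyOfFiniteType f inferInstance ⟨V, hV⟩ ⟨U, hU⟩ hUV)
  obtain ⟨n, φA, hφA⟩ := Algebra.FiniteType.iff_quotient_mvPolynomial''.1 (inferInstance : Algebra.FiniteType R C)
  let A := MvPolynomial (Fin n) R
  haveI : Algebra.Smooth R A := ⟨inferInstance, inferInstance⟩
  let i : (U : Scheme.{u}) ⟶ Spec (CommRingCat.of A) := hU.isoSpec.hom ≫ Spec.map (CommRingCat.ofHom φA.toRingHom)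
  let π : Spec (CommRingCat.of A) ⟶ Y := Spec.map (CommRingCat.ofHom (algebraMap R A)) ≫ hV.fromSpec
  haveI : Smooth (Spec.map (CommRingCat.ofHom (algebraMap R A))) := by
    rw [HasRingHomProperty.Spec_iff (P := @Smooth)]
    exact RingHom.smooth_algebraMap.2 ‹_›
  haveI : Smooth π := inferInstance
  haveI : IsClosedImmersion (Spec.map (CommRingCat.ofHom φA.toRingHom)) :=
    IsClosedImmersion.spec_of_surjective _ hφA
  haveI : IsImmersion i := inferInstance
  have hfac : i ≫ π = U.ι ≫ f := by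
    rw [← fromSpec_comp f hV hU hUV, Category.assoc, ← Spec.map_comp_assoc]
    congr 3
    exact CommRingCat.hom_ext (RingHom.ext fun r => φA.commutes r)
  refine ⟨U, Spec (CommRingCat.of A), i, π, hxU, inferInstance,
    (KRImm.isRegularImmersion_iff i).2 ⟨inferInstance, fun u => ?_⟩, inferInstance, hfac⟩
  obtain ⟨x', hx'⟩ := Surjective.surj (f := g) (U.ι u)
  have hx'U : g x' ∈ U := by rw [hx']; exact u.2
  obtain ⟨U', hU', hx'U', hU'U⟩ := exists_isAffineOpen_mem_and_subset (x := x') (U := g ⁻¹ᵁ U) hx'U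
  let C' := Γ(X', U')
  have hsyn := MorCrit.isSyntomic_appLE g hg ⟨U', hU'⟩ ⟨U, hU⟩ hU'U
  letI : Algebra C C' := (g.appLE U U' hU'U).hom.toAlgebra
  haveI : Algebra.FinitePresentation C C' := hsyn.2.1
  letI algAC : Algebra A C := φA.toRingHom.toAlgebra
  letI algAC' : Algebra A C' := ((g.appLE U U' hU'U).hom.comp φA.toRingHom).toAlgebra
  haveI : IsScalarTower A C C' := IsScalarTower.of_algebraMap_eq' rfl
  haveI : Algebra.FiniteType A C := ⟨Algebra.FiniteType.of_surjective (Algebra.ofId A C) hφA |>.out⟩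
  haveI : Algebra.FiniteType A C' := Algebra.FiniteType.trans (inferInstance : Algebra.FiniteType A C) (inferInstance : Algebra.FiniteType C C')
  obtain ⟨m, ψ, hψ⟩ := Algebra.FiniteType.iff_quotient_mvPolynomial''.1 (inferInstance : Algebra.FiniteType A C')
  let B := MvPolynomial (Fin m) A
  haveI : Algebra.Smooth A B := ⟨inferInstance, inferInstance⟩
  let k : (U' : Scheme.{u}) ⟶ Spec (CommRingCat.of B) := hU'.isoSpec.hom ≫ Spec.map (CommRingCat.ofHom ψ.toRingHom)
  let p : Spec (CommRingCat.of B) ⟶ Y := Spec.map (CommRingCat.ofHom (algebraMap A B)) ≫ π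
  haveI : Smooth (Spec.map (CommRingCat.ofHom (algebraMap A B))) := by
    rw [HasRingHomProperty.Spec_iff (P := @Smooth)]
    exact RingHom.smooth_algebraMap.2 ‹_›
  haveI : Smooth p := inferInstance
  haveI : IsClosedImmersion (Spec.map (CommRingCat.ofHom ψ.toRingHom)) :=
    IsClosedImmersion.spec_of_surjective _ hψ
  haveI : IsImmersion k := inferInstance
  have hk : k ≫ p = U'.ι ≫ g ≫ f := by
    have e1 : CommRingCat.ofHom (algebraMap A B) ≫ CommRingCat.ofHom ψ.toRingHom =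
        CommRingCat.ofHom φA.toRingHom ≫ g.appLE U U' hU'U := by
      exact CommRingCat.hom_ext (RingHom.ext fun a => ψ.commutes a)
    have e2 : CommRingCat.ofHom (algebraMap R A) ≫ CommRingCat.ofHom φA.toRingHom = f.appLE V U hUV := by
      exact CommRingCat.hom_ext (RingHom.ext fun r => φA.commutes r)
    have e3 : Spec.map (CommRingCat.ofHom φA.toRingHom) ≫ π = hU.fromSpec ≫ f := by
      rw [← Spec.map_comp_assoc, e2, hV.SpecMap_appLE_fromSpec f hU hUV]
    have e4 : Spec.map (CommRingCat.ofHom ψ.toRingHom) ≫ p = hU'.fromSpec ≫ g ≫ f := by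
      rw [← Spec.map_comp_assoc, e1, Spec.map_comp, Category.assoc, e3, ← Category.assoc,
        hU.SpecMap_appLE_fromSpec g hU' hU'U, Category.assoc]
    rw [Category.assoc, e4, ← Category.assoc, hU'.isoSpec_hom_fromSpec]
  obtain ⟨r, hr⟩ := KRMor.exists_atN_of_koszulAt' (g ≫ f) U'.ι p k hk ⟨x', hx'U'⟩ (h x')
  have hr' := (KRMor.atN_openImmersion_iff (Spec.map (CommRingCat.ofHom ψ.toRingHom)) hU'.isoSpec.hom
    ⟨x', hx'U'⟩ r).1 hr
  rw [KRSpec.atN_specMap_iff _ hψ] at hr'
  let q' := (hU'.isoSpec.hom ⟨x', hx'U'⟩ : Spec Γ(X', U'))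
  let Q : Ideal B := (PrimeSpectrum.asIdeal q').comap ψ.toRingHom
  haveI : Q.IsPrime := Ideal.IsPrime.comap _
  obtain ⟨e, he⟩ := KRSmooth.genLoc_down_syntomic (A := A) (B := B) (C := C) (C' := C') hφA hsyn ψ hψ Q
    (fun b hb => by
      change ψ b ∈ PrimeSpectrum.asIdeal q'
      rw [show ψ b = 0 from hb]
      exact zero_mem _) hr'
  refine ⟨e, (KRMor.atN_openImmersion_iff (Spec.map (CommRingCat.ofHom φA.toRingHom)) hU.isoSpec.hom u e).2 ?_⟩
  rw [KRSpec.atN_specMap_iff _ hφA]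
  have hkey : (PrimeSpectrum.asIdeal (hU.isoSpec.hom u : Spec Γ(X, U))).comap φA.toRingHom = Q.comap (algebraMap A B) := by
    have hq : (PrimeSpectrum.asIdeal q').comap (g.appLE U U' hU'U).hom =
        PrimeSpectrum.asIdeal (hU.isoSpec.hom u : Spec Γ(X, U)) := by
      have h1 := IsAffineOpen.comap_primeIdealOf_appLE U hU U' hU' hU'U hx'U' (f := g)
      have h2 : (⟨g x', hU'U hx'U'⟩ : U) = u := Subtype.ext hx'
      rw [h2] at h1
      exact congrArg PrimeSpectrum.asIdeal h1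
    rw [← hq, Ideal.comap_comap, Ideal.comap_comap]
    congr 1
    exact RingHom.ext fun a => (ψ.commutes a).symm
  exact hkey.symm ▸ he

end Groth.Agent.Lib.Synt92.KRCover
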