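import Groth.Agent.Lib.Synt92.CubeBase
import Mathlib.RingTheory.Localization.Algebra
import Mathlib.RingTheory.Localization.Away.Basic

/-! Ideals generated near a prime by Koszul-regular sequences of given length. -/

set_option autoImplicit false

universe u

namespace Groth.Agent.Lib.Synt92.KRLoc

open Groth.Agent.Lib.Wiebe.Link CubeComp

variable {A : Type u} [CommRing A]

/-- The ideal is generated by a Koszul-regular sequence of length `m`. -/
def Gen (m : ℕ) (I : Ideal A) : Prop :=
  ∃ f : Fin m → A, Acyc f ∧ I = Ideal.span (Set.range f)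

/-- The ideal is, near `P`, generated by a Koszul-regular sequence of length `m`. -/
def GenLoc (m : ℕ) (I : Ideal A) (P : Ideal A) : Prop :=
  ∃ g, g ∉ P ∧ Gen m (I.map (algebraMap A (Localization.Away g)))

theorem span_range_eq_ofList {m : ℕ} (f : Fin m → A) :
    Ideal.span (Set.range f) = Ideal.ofList (List.ofFn f) :=
  congrArg Ideal.span (Set.ext fun x => by
    rw [Set.mem_range, Set.mem_ofPred_eq, List.mem_ofFn])

theorem gen_of_list {l : List A} (hl : LCI.IsKoszulRegularSeq A l) {I : Ideal A} (h : I = Ideal.ofList l) :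
    Gen l.length I :=
  ⟨l.get, Wiebe.Bridge.acyc_of_isKoszulRegularSeq _ (by rwa [List.ofFn_get]), by
    rw [span_range_eq_ofList, List.ofFn_get, h]⟩

theorem exists_list {m : ℕ} {I : Ideal A} (h : Gen m I) :
    ∃ l : List A, l.length = m ∧ LCI.IsKoszulRegularSeq A l ∧ I = Ideal.ofList l := by
  obtain ⟨f, hf, rfl⟩ := h
  exact ⟨List.ofFn f, List.length_ofFn, CubeBase.isKoszulRegularSeq_of_acyc f hf, span_range_eq_ofList f⟩

theorem gen_map {B : Type u} [CommRing B] (φ : A →+* B) (hφ : φ.Flat) {m : ℕ} {I : Ideal A}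
    (h : Gen m I) : Gen m (I.map φ) := by
  obtain ⟨f, hf, rfl⟩ := h
  exact ⟨φ ∘ f, CubeBase.acyc_flat_ringHom φ hφ f hf, by rw [Ideal.map_span, Set.range_comp]⟩

theorem gen_map_equiv {B : Type u} [CommRing B] (e : A ≃+* B) {m : ℕ} {I : Ideal A}
    (h : Gen m I) : Gen m (I.map e.toRingHom) :=
  gen_map _ (RingHom.Flat.of_bijective e.bijective) h

/-- Generators on a basic open generate on every flat algebra inverting the element. -/
theorem gen_of_isUnit {m : ℕ} {I : Ideal A} (g : A) (L : Type u) [CommRing L] [Algebra A L]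
    [IsLocalization.Away g L] (h : Gen m (I.map (algebraMap A L))) (S : Type u) [CommRing S]
    [Algebra A S] [Module.Flat A S] (hu : IsUnit (algebraMap A S g)) :
    Gen m (I.map (algebraMap A S)) := by
  let φ : L →+* S := IsLocalization.Away.lift g hu
  have hφ : φ.comp (algebraMap A L) = algebraMap A S := IsLocalization.Away.lift_comp g hu
  letI := φ.toAlgebra
  haveI : IsScalarTower A L S := IsScalarTower.of_algebraMap_eq' hφ.symm
  have hflat : φ.Flat := (Module.flat_iff_of_isLocalization L (Submonoid.powers g) (M := S)).2 ‹_›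
  rw [← hφ, ← Ideal.map_map]
  exact gen_map φ hflat h

theorem genLoc_mk {m : ℕ} {I P : Ideal A} (g : A) (hg : g ∉ P) (L : Type u) [CommRing L] [Algebra A L]
    [IsLocalization.Away g L] (h : Gen m (I.map (algebraMap A L))) : GenLoc m I P := by
  haveI : Module.Flat A (Localization.Away g) := IsLocalization.flat _ (Submonoid.powers g)
  exact ⟨g, hg, gen_of_isUnit g L h _ (IsLocalization.Away.algebraMap_isUnit g)⟩

theorem genLoc_of_gen {m : ℕ} {I : Ideal A} (h : Gen m I) (P : Ideal A) [hP : P.IsPrime] :
    GenLoc m I P := by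
  haveI : IsLocalization.Away (1 : A) A := IsLocalization.away_of_isUnit_of_bijective _ isUnit_one Function.bijective_id
  refine genLoc_mk 1 (fun h1 => hP.ne_top ((Ideal.eq_top_iff_one _).2 h1)) A ?_
  rwa [Algebra.algebraMap_self, Ideal.map_id]

/-- Being generated near a prime passes to localisations. -/
theorem genLoc_away_iff {m : ℕ} {I : Ideal A} (g : A) (L : Type u) [CommRing L] [Algebra A L]
    [IsLocalization.Away g L] (P' : Ideal L) [P'.IsPrime] :
    GenLoc m (I.map (algebraMap A L)) P' ↔ GenLoc m I (P'.comap (algebraMap A L)) := by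
  haveI : Module.Flat A L := IsLocalization.flat _ (Submonoid.powers g)
  have hg : g ∉ P'.comap (algebraMap A L) := fun h =>
    Ideal.IsPrime.ne_top ‹P'.IsPrime› (Ideal.eq_top_of_isUnit_mem _ h (IsLocalization.Away.algebraMap_isUnit g))
  constructor
  · rintro ⟨h, hh, hgen⟩
    obtain ⟨k, a, ha⟩ := IsLocalization.Away.surj g h
    have haP : a ∉ P'.comap (algebraMap A L) := fun ha' => by
      rw [Ideal.mem_comap, ← ha] at ha'
      rcases Ideal.IsPrime.mem_or_mem ‹P'.IsPrime› ha' with h' | h'
      · exact hh h'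
      · exact hg (Ideal.IsPrime.mem_of_pow_mem ‹P'.IsPrime› k h')
    let S := Localization.Away (g * a)
    haveI : Module.Flat A S := IsLocalization.flat _ (Submonoid.powers (g * a))
    have hu : IsUnit (algebraMap A S g) := isUnit_of_mul_isUnit_left
      (y := algebraMap A S a) (by rw [← map_mul]; exact IsLocalization.Away.algebraMap_isUnit _)
    let φ : L →+* S := IsLocalization.Away.lift g hu
    have hφ : φ.comp (algebraMap A L) = algebraMap A S := IsLocalization.Away.lift_comp g hu
    letI := φ.toAlgebra
    haveI : IsScalarTower A L S := IsScalarTower.of_algebraMap_eq' hφ.symm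
    haveI : Module.Flat L S :=
      (Module.flat_iff_of_isLocalization L (Submonoid.powers g) (M := S)).2 ‹_›
    have hh' : IsUnit (algebraMap L S h) := by
      refine isUnit_of_mul_isUnit_left (y := algebraMap L S (algebraMap A L g ^ k)) ?_
      rw [← map_mul, ha, ← IsScalarTower.algebraMap_apply]
      exact isUnit_of_mul_isUnit_right (x := algebraMap A S g)
        (by rw [← map_mul]; exact IsLocalization.Away.algebraMap_isUnit _)
    have := gen_of_isUnit h (Localization.Away h) hgen S hh'
    rw [Ideal.map_map, ← IsScalarTower.algebraMap_eq] at this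
    exact ⟨g * a, fun h' => ((Ideal.IsPrime.mem_or_mem inferInstance h').elim hg haP), this⟩
  · rintro ⟨a, ha, hgen⟩
    let S := Localization.Away (algebraMap A L a)
    haveI : Module.Flat L S := IsLocalization.flat _ (Submonoid.powers (algebraMap A L a))
    haveI : Module.Flat A S := Module.Flat.trans A L S
    refine ⟨algebraMap A L a, ha, ?_⟩
    rw [Ideal.map_map, ← IsScalarTower.algebraMap_eq]
    refine gen_of_isUnit a (Localization.Away a) hgen S ?_
    rw [IsScalarTower.algebraMap_apply A L S]
    exact IsLocalization.Away.algebraMap_isUnit _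

/-- Composition for a surjection. -/
theorem gen_comp {B : Type u} [CommRing B] (φ : A →+* B) (hφ : Function.Surjective φ) {n m : ℕ}
    {L : Ideal B} (hn : Gen n (RingHom.ker φ)) (hm : Gen m L) : Gen (n + m) (L.comap φ) := by
  obtain ⟨f, hf, hker⟩ := hn
  obtain ⟨g', hg', rfl⟩ := hm
  obtain ⟨g, rfl⟩ : ∃ g : Fin m → A, φ ∘ g = g' :=
    ⟨fun i => (hφ (g' i)).choose, funext fun i => (hφ (g' i)).choose_spec⟩
  refine ⟨app g f, acyc_app φ hφ g f hker hf hg', ?_⟩
  rw [range_app, Ideal.span_union, ← hker, Set.range_comp, ← Ideal.map_span,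
    Ideal.comap_map_of_surjective φ hφ]
  rfl

/-- Composition near a prime. -/
theorem genLoc_comp {B : Type u} [CommRing B] (φ : A →+* B) (hφ : Function.Surjective φ) {n m : ℕ}
    {L : Ideal B} (Q : Ideal B) [Q.IsPrime] (hn : GenLoc n (RingHom.ker φ) (Q.comap φ))
    (hm : GenLoc m L Q) : GenLoc (n + m) (L.comap φ) (Q.comap φ) := by
  obtain ⟨g, hg, hgen⟩ := hn
  obtain ⟨h', hh, hgen'⟩ := hm
  obtain ⟨h, rfl⟩ := hφ h'
  let SA := Localization.Away (g * h)
  let SB := Localization.Away (φ (g * h))
  haveI : Module.Flat A SA := IsLocalization.flat _ (Submonoid.powers (g * h))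
  haveI : Module.Flat B SB := IsLocalization.flat _ (Submonoid.powers (φ (g * h)))
  have hgA : Gen n ((RingHom.ker φ).map (algebraMap A SA)) := gen_of_isUnit g (Localization.Away g) hgen SA
    (isUnit_of_mul_isUnit_left (y := algebraMap A SA h) (by rw [← map_mul]; exact IsLocalization.Away.algebraMap_isUnit _))
  have hgB : Gen m (L.map (algebraMap B SB)) := gen_of_isUnit (φ h) (Localization.Away (φ h)) hgen' SB
    (isUnit_of_mul_isUnit_right (x := algebraMap B SB (φ g))
      (by rw [← map_mul, ← map_mul]; exact IsLocalization.Away.algebraMap_isUnit _))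
  have hT : Submonoid.map φ (Submonoid.powers (g * h)) = Submonoid.powers (φ (g * h)) := Submonoid.map_powers φ _
  haveI : IsLocalization ((Submonoid.powers (g * h)).map φ) SB := by
    rw [hT]; infer_instance
  let ψ : SA →+* SB := IsLocalization.map SB φ (Submonoid.powers (g * h)).le_comap_map
  have hψs : Function.Surjective ψ := IsLocalization.map_surjective_of_surjective (Submonoid.powers (g * h)) SA SB hφ
  have hψk : RingHom.ker ψ = (RingHom.ker φ).map (algebraMap A SA) := IsLocalization.ker_map SB φ rfl
  refine ⟨g * h, fun h' => (Ideal.IsPrime.mem_or_mem inferInstance h').elim hg hh, ?_⟩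
  have e : L.map (algebraMap B SB) = ((L.comap φ).map (algebraMap A SA)).map ψ := by
    rw [Ideal.map_map, show ψ.comp (algebraMap A SA) = (algebraMap B SB).comp φ from IsLocalization.map_comp _,
      ← Ideal.map_map, Ideal.map_comap_of_surjective φ hφ]
  have := gen_comp ψ hψs (hψk ▸ hgA) hgB
  rwa [e, Ideal.comap_map_of_surjective ψ hψs, ← RingHom.ker_eq_comap_bot, hψk,
    sup_eq_left.2 (Ideal.map_mono (fun x hx => by
      rw [Ideal.mem_comap, RingHom.mem_ker.1 hx]; exact zero_mem _))] at this

end Groth.Agent.Lib.Synt92.KRLoc
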