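import Groth.Agent.Lib.Synt92.KRDescentScheme
import Groth.Agent.Lib.Synt92.KRCover
import Mathlib.AlgebraicGeometry.Morphisms.LocalFlatDescent

/-! fpqc descent of Koszul morphisms. -/

set_option autoImplicit false

universe u

open CategoryTheory CategoryTheory.Limits AlgebraicGeometry

namespace Groth.Agent.Lib.Synt92.KRMorDescent

theorem locallyOfFiniteType_of_koszulAt {X Y : Scheme.{u}} (f : X ⟶ Y) (h : ∀ x : X, Synt.IsKoszulAt f x) :
    LocallyOfFiniteType f := by
  choose U P i π hxU hft hrest using h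
  refine IsZariskiLocalAtSource.of_iSup_eq_top (P := @LocallyOfFiniteType) U ?_ fun x => hft x
  exact eq_top_iff.2 fun x _ => TopologicalSpace.Opens.mem_iSup.2 ⟨x, hxU x⟩

/-- Koszul morphisms descend along faithfully flat quasi-compact maps of the base. -/
theorem isKoszulAt_of_baseChange {X Y X' Y' : Scheme.{u}} (f : X ⟶ Y) (g : Y' ⟶ Y) [Flat g] [Surjective g]
    [QuasiCompact g] (f' : X' ⟶ Y') (g' : X' ⟶ X) (hsq : IsPullback g' f' f g)
    (h : ∀ x' : X', Synt.IsKoszulAt f' x') (x : X) : Synt.IsKoszulAt f x := by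
  haveI : LocallyOfFiniteType f :=
    MorphismProperty.of_isPullback_of_descendsAlong (P := @LocallyOfFiniteType)
      (Q := @Surjective ⊓ @Flat ⊓ @QuasiCompact) hsq.flip ⟨⟨‹_›, ‹_›⟩, ‹_›⟩
      (locallyOfFiniteType_of_koszulAt f' h)
  obtain ⟨V, hV, hxV, -⟩ := exists_isAffineOpen_mem_and_subset (X := Y) (x := f x) (U := ⊤) trivial
  obtain ⟨U, hU, hxU, hUV⟩ := exists_isAffineOpen_mem_and_subset (x := x) (U := f ⁻¹ᵁ V) hxV
  let R := Γ(Y, V)
  let C := Γ(X, U)
  letI : Algebra R C := (f.appLE V U hUV).hom.toAlgebra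
  haveI : Algebra.FiniteType R C :=
    RingHom.finiteType_algebraMap.1 (HasRingHomProperty.appLE @LocallyOfFiniteType f inferInstance ⟨V, hV⟩ ⟨U, hU⟩ hUV)
  obtain ⟨n, φA, hφA⟩ := Algebra.FiniteType.iff_quotient_mvPolynomial''.1 (inferInstance : Algebra.FiniteType R C)
  let A := MvPolynomial (Fin n) R
  haveI : Algebra.Smooth R A := ⟨inferInstance, inferInstance⟩
  let i : (U : Scheme.{u}) ⟶ Spec (CommRingCat.of A) := hU.isoSpec.hom ≫ Spec.map (CommRingCat.ofHom φA.toRingHom)
  let π : Spec (CommRingCat.of A) ⟶ Y := Spec.map (CommRingCat.ofHom (algebraMap R A)) ≫ hV.fromSpec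
  haveI : Smooth (Spec.map (CommRingCat.ofHom (algebraMap R A))) := by
    rw [HasRingHomProperty.Spec_iff (P := @Smooth)]
    exact RingHom.smooth_algebraMap.2 ‹_›
  haveI : Smooth π := inferInstance
  haveI : IsClosedImmersion (Spec.map (CommRingCat.ofHom φA.toRingHom)) :=
    IsClosedImmersion.spec_of_surjective _ hφA
  haveI : IsImmersion i := inferInstance
  have hfac : i ≫ π = U.ι ≫ f := by
    rw [← KRCover.fromSpec_comp f hV hU hUV, Category.assoc, ← Spec.map_comp_assoc]
    congr 3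
    exact CommRingCat.hom_ext (RingHom.ext fun r => φA.commutes r)
  have hc : ((g' ∣_ U) ≫ i) ≫ π = ((g' ⁻¹ᵁ U).ι ≫ f') ≫ g := by
    rw [Category.assoc, hfac, ← Category.assoc, morphismRestrict_ι, Category.assoc, hsq.w, Category.assoc]
  let i' := pullback.lift ((g' ∣_ U) ≫ i) ((g' ⁻¹ᵁ U).ι ≫ f') hc
  have houter : IsPullback (g' ∣_ U) ((g' ⁻¹ᵁ U).ι ≫ f') (i ≫ π) g := by
    rw [hfac]
    exact (isPullback_morphismRestrict g' U).paste_vert hsq
  have htop : IsPullback (g' ∣_ U) i' i (pullback.fst π g) :=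
    IsPullback.of_bot (h₂₁ := pullback.fst π g) (v₂₁ := pullback.snd π g)
      (by rw [pullback.lift_snd]; exact houter) (pullback.lift_fst _ _ _).symm (IsPullback.of_hasPullback π g)
  haveI : IsImmersion i' := MorphismProperty.of_isPullback (P := @IsImmersion) htop ‹_›
  refine ⟨U, Spec (CommRingCat.of A), i, π, hxU, inferInstance,
    (KRImm.isRegularImmersion_iff i).2 ⟨inferInstance,
      KRDescentScheme.atN_of_baseChange i (pullback.fst π g) i' (g' ∣_ U) htop ?_⟩, inferInstance, hfac⟩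
  exact (KRImm.isRegularImmersion_iff i').2 ⟨inferInstance, fun w =>
    KRMor.exists_atN_of_koszulAt' f' (g' ⁻¹ᵁ U).ι (pullback.snd π g) i' (pullback.lift_snd _ _ _) w (h _)⟩

end Groth.Agent.Lib.Synt92.KRMorDescent
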