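import Groth.Agent.Lib.Synt92.LocalQuot
import Groth.Agent.Lib.Synt92.FieldDim
import Groth.Agent.Lib.JacCrit.FlatRegular
import Groth.Agent.H20.FibreDimSet
import Groth.Agent.H20.CMRegular
import Groth.Agent.H26.CritereReg
import Mathlib.RingTheory.TensorProduct.Quotient

/-!
# Spreading out regular sequences of the fibre (non-Noetherian)
-/

universe u

open IsLocalRing RingTheory.Sequence
open Groth.Agent.Lib
open Groth.Agent.H20.FibreDimBC (fdim fibrePoint comap_fibrePoint)

namespace Groth.Agent.Lib.Synt92.SpreadReg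

variable {R B : Type u} [CommRing R] [CommRing B] [Algebra R B]

/-- The local ring of a quotient in the fibre. -/
theorem nonempty_fibre_quotient (J : Ideal B) (p : Ideal R) (q : Ideal (B ⧸ J)) [q.IsPrime] :
    Nonempty (((Localization.AtPrime (q.comap (Ideal.Quotient.mk J))) ⧸
        p.map (algebraMap R (Localization.AtPrime (q.comap (Ideal.Quotient.mk J))))) ⧸
          J.map ((Ideal.Quotient.mk (p.map (algebraMap R (Localization.AtPrime (q.comap (Ideal.Quotient.mk J)))))).comp
            (algebraMap B (Localization.AtPrime (q.comap (Ideal.Quotient.mk J))))) ≃+*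
      (Localization.AtPrime q ⧸ p.map (algebraMap R (Localization.AtPrime q)))) := by
  set q₀ := q.comap (Ideal.Quotient.mk J)
  let L := Localization.AtPrime q₀
  set pL := p.map (algebraMap R L) with hpL
  set pP := p.map (algebraMap R (Localization.AtPrime q)) with hpP
  obtain ⟨π, hπ, hker⟩ : ∃ π : L →ₐ[R] Localization.AtPrime q, Function.Surjective π ∧
      RingHom.ker π.toRingHom = J.map (algebraMap B L) := by
    obtain ⟨π, hπ, hker, -⟩ := LocalQuot.exists_hom (Ideal.Quotient.mkₐ R J)
      (Ideal.Quotient.mkₐ_surjective R J) q (Localization.AtPrime q)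
    rw [show RingHom.ker (Ideal.Quotient.mkₐ R J).toRingHom = J from Ideal.Quotient.mkₐ_ker R J] at hker
    exact ⟨π, hπ, hker⟩
  have hle : pL ≤ pP.comap π.toRingHom := Ideal.map_le_iff_le_comap.2 fun r hr => by
    change π (algebraMap R L r) ∈ pP
    rw [π.commutes]
    exact Ideal.mem_map_of_mem _ hr
  let θ : (L ⧸ pL) →+* Localization.AtPrime q ⧸ pP := Ideal.quotientMap pP π.toRingHom hle
  have hθ : Function.Surjective θ := Ideal.quotientMap_surjective hπ
  have hk : RingHom.ker θ = J.map ((Ideal.Quotient.mk pL).comp (algebraMap B L)) := by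
    rw [← Ideal.map_map]
    change RingHom.ker (Ideal.quotientMap pP π.toRingHom hle) = _
    rw [Ideal.quotientMap, Ideal.ker_quotient_lift]
    rw [← RingHom.comap_ker, Ideal.mk_ker]
    have hpm : pP = pL.map π.toRingHom := by
      rw [hpL, hpP, Ideal.map_map]
      exact congrArg (fun g => Ideal.map g p) π.comp_algebraMap.symm
    rw [hpm, Ideal.comap_map_of_surjective π.toRingHom hπ, Ideal.map_sup, Ideal.map_quotient_self, bot_sup_eq]
    exact congrArg (Ideal.map (Ideal.Quotient.mk pL)) hker
  exact ⟨(Ideal.quotEquivOfEq hk.symm).trans (RingHom.quotientKerEquivOfSurjective hθ)⟩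

/-- Fibre dimensions of a closed subscheme against the local rings of the fibre. -/
theorem exists_dims [Algebra.FiniteType R B] (J : Ideal B) (q : Ideal (B ⧸ J)) [q.IsPrime] :
    ∃ a b : ℕ,
      ringKrullDim (Localization.AtPrime (q.comap (Ideal.Quotient.mk J)) ⧸
        ((q.comap (Ideal.Quotient.mk J)).under R).map
          (algebraMap R (Localization.AtPrime (q.comap (Ideal.Quotient.mk J))))) = (a : WithBot ℕ∞) ∧
      ringKrullDim (((Localization.AtPrime (q.comap (Ideal.Quotient.mk J))) ⧸
        ((q.comap (Ideal.Quotient.mk J)).under R).map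
          (algebraMap R (Localization.AtPrime (q.comap (Ideal.Quotient.mk J))))) ⧸
          J.map ((Ideal.Quotient.mk (((q.comap (Ideal.Quotient.mk J)).under R).map
            (algebraMap R (Localization.AtPrime (q.comap (Ideal.Quotient.mk J)))))).comp
            (algebraMap B (Localization.AtPrime (q.comap (Ideal.Quotient.mk J)))))) = (b : WithBot ℕ∞) ∧
      b + fdim R B (q.comap (Ideal.Quotient.mk J)) = a + fdim R (B ⧸ J) q := by
  set q₀ := q.comap (Ideal.Quotient.mk J) with hq₀
  set p := q₀.under R with hp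
  haveI : q.LiesOver p := ⟨by
    ext r
    rfl⟩
  let Q' : PrimeSpectrum (p.Fiber (B ⧸ J)) :=
    PrimeSpectrum.primesOverOrderIsoFiber R (B ⧸ J) p ⟨q, inferInstance, inferInstance⟩
  have hQ' : Q'.asIdeal.comap (Algebra.TensorProduct.includeRight (R := R) (A := p.ResidueField)
      (B := B ⧸ J)).toRingHom = q :=
    congrArg Subtype.val
      ((PrimeSpectrum.primesOverOrderIsoFiber R (B ⧸ J) p).symm_apply_apply ⟨q, inferInstance, inferInstance⟩)
  let φ : p.Fiber B →ₐ[p.ResidueField] p.Fiber (B ⧸ J) :=
    Algebra.TensorProduct.map (AlgHom.id p.ResidueField p.ResidueField) (Ideal.Quotient.mkₐ R J)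
  have hφ : Function.Surjective φ := fun x => by
    induction x using TensorProduct.induction_on with
    | zero => exact ⟨0, map_zero _⟩
    | tmul c a =>
      obtain ⟨b, rfl⟩ := Ideal.Quotient.mk_surjective a
      exact ⟨c ⊗ₜ b, Algebra.TensorProduct.map_tmul _ _ _ _⟩
    | add x y hx hy =>
      obtain ⟨a, rfl⟩ := hx
      obtain ⟨b, rfl⟩ := hy
      exact ⟨a + b, map_add _ _ _⟩
  let Q : PrimeSpectrum (p.Fiber B) := PrimeSpectrum.comap φ.toRingHom Q'
  have hQ : Q.asIdeal.comap (Algebra.TensorProduct.includeRight (R := R) (A := p.ResidueField)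
      (B := B)).toRingHom = q₀ := by
    ext b
    change φ ((1 : p.ResidueField) ⊗ₜ[R] b) ∈ Q'.asIdeal ↔ Ideal.Quotient.mk J b ∈ q
    conv_rhs => rw [← hQ']
    rw [Algebra.TensorProduct.map_tmul]
    exact Iff.rfl
  have h1 : fdim R B q₀ = Q.asIdeal.height.toNat + Dim.Basic.dimQ p.ResidueField Q.asIdeal :=
    (H20.FibreDimBC.dimAt_eq_fdim p q₀ Q hQ).symm
  have h2 : fdim R (B ⧸ J) q = Q'.asIdeal.height.toNat + Dim.Basic.dimQ p.ResidueField Q'.asIdeal :=
    (H20.FibreDimBC.dimAt_eq_fdim p q Q' hQ').symm
  have h3 : Dim.Basic.dimQ p.ResidueField Q.asIdeal = Dim.Basic.dimQ p.ResidueField Q'.asIdeal :=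
    FieldDim.dimQ_comap φ hφ Q'.asIdeal
  obtain ⟨e⟩ := JacCrit.FlatRegular.nonempty_ringEquiv p q₀ Q.asIdeal hQ
  obtain ⟨e'⟩ := JacCrit.FlatRegular.nonempty_ringEquiv p q Q'.asIdeal hQ'
  obtain ⟨ε⟩ := nonempty_fibre_quotient J p q
  refine ⟨Q.asIdeal.height.toNat, Q'.asIdeal.height.toNat, ?_, ?_, by change _ + fdim R B q₀ = _; omega⟩
  · rw [← ringKrullDim_eq_of_ringEquiv e,
      IsLocalization.AtPrime.ringKrullDim_eq_height Q.asIdeal (Localization.AtPrime Q.asIdeal),
      ← Dim.Local.coe_height_toNat p.ResidueField Q.asIdeal]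
    rfl
  · rw [ringKrullDim_eq_of_ringEquiv (ε.trans e'.symm),
      IsLocalization.AtPrime.ringKrullDim_eq_height Q'.asIdeal (Localization.AtPrime Q'.asIdeal),
      ← Dim.Local.coe_height_toNat p.ResidueField Q'.asIdeal]
    rfl

theorem supportDim_quotient {L : Type u} [CommRing L] (I : Ideal L) :
    Module.supportDim L (L ⧸ I • (⊤ : Submodule L L)) = ringKrullDim (L ⧸ I) := by
  have e : I • (⊤ : Submodule L L) = I := by rw [smul_eq_mul, Ideal.mul_top]
  rw [Module.supportDim_eq_of_equiv (Submodule.quotEquivOfEq _ _ e), Module.supportDim_quotient_eq_ringKrullDim]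

/-- A regular sequence in a regular local ring of a fibre stays regular nearby. -/
theorem exists_weaklyRegular_nhd [Algebra.FinitePresentation R B] [Module.Flat R B]
    (hB : ∀ (p : PrimeSpectrum R) (Q : PrimeSpectrum (p.asIdeal.Fiber B)),
      IsRegularLocalRing (Localization.AtPrime Q.asIdeal))
    (hd : IsLocallyConstant fun q : PrimeSpectrum B => fdim R B q.asIdeal)
    (P : Ideal B) [hP : P.IsPrime] (l : List B) (hl : ∀ f ∈ l, f ∈ P)
    (hreg : IsWeaklyRegular (Localization.AtPrime P ⧸ (P.under R).map (algebraMap R (Localization.AtPrime P)))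
      (l.map (algebraMap B (Localization.AtPrime P ⧸ (P.under R).map (algebraMap R (Localization.AtPrime P)))))) :
    ∃ g : B, g ∉ P ∧ ∀ (q : Ideal B) [q.IsPrime], g ∉ q →
      IsWeaklyRegular (Localization.AtPrime q) (l.map (algebraMap B (Localization.AtPrime q))) ∧
      ((∀ f ∈ l, f ∈ q) → Module.Flat R
        (Localization.AtPrime q ⧸ Ideal.ofList (l.map (algebraMap B (Localization.AtPrime q))))) := by
  classical
  haveI : Algebra.FiniteType R B := inferInstance
  set d := fdim R B P
  have hLreg : ∀ (q : Ideal B) [q.IsPrime],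
      IsRegularLocalRing (Localization.AtPrime q ⧸ (q.under R).map (algebraMap R (Localization.AtPrime q))) := by
    intro q _
    let Q := fibrePoint R B q
    haveI := hB ⟨q.under R, inferInstance⟩ Q
    obtain ⟨e⟩ := JacCrit.FlatRegular.nonempty_ringEquiv (q.under R) q Q.asIdeal (comap_fibrePoint q)
    exact IsRegularLocalRing.of_ringEquiv (R := Localization.AtPrime Q.asIdeal) e
  let J : ℕ → Ideal B := fun i => Ideal.ofList (l.take i)
  let O : ℕ → Set (PrimeSpectrum B) := fun i =>
    (PrimeSpectrum.comap (Ideal.Quotient.mk (J i)) ''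
      {z : PrimeSpectrum (B ⧸ J i) | fdim R (B ⧸ J i) z.asIdeal ≤ d - i}ᶜ)ᶜ
  have hO : ∀ i, IsOpen (O i) := fun i =>
    ((PrimeSpectrum.isClosedEmbedding_comap_of_surjective _ (Ideal.Quotient.mk (J i))
      Ideal.Quotient.mk_surjective).isClosedMap _
        (H20.FibreDimSet.isOpen_setOf_fdim_le (R := R) (S := B ⧸ J i) (d - i)).isClosed_compl).isOpen_compl
  have hmapJ : ∀ (q : Ideal B) [q.IsPrime] (i : ℕ),
      (J i).map ((Ideal.Quotient.mk ((q.under R).map (algebraMap R (Localization.AtPrime q)))).comp
        (algebraMap B (Localization.AtPrime q))) =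
      Ideal.ofList ((l.take i).map (algebraMap B
        (Localization.AtPrime q ⧸ (q.under R).map (algebraMap R (Localization.AtPrime q))))) := by
    intro q _ i
    rw [Ideal.map_ofList]
    rfl
  have hreg' : ∀ i ≤ l.length, IsRegular
      (Localization.AtPrime P ⧸ (P.under R).map (algebraMap R (Localization.AtPrime P)))
      ((l.take i).map (algebraMap B (Localization.AtPrime P ⧸ (P.under R).map (algebraMap R (Localization.AtPrime P))))) := by
    intro i hi
    haveI := hLreg P
    refine ⟨?_, fun h => ?_⟩
    · have h' : IsWeaklyRegular (Localization.AtPrime P ⧸ (P.under R).map (algebraMap R (Localization.AtPrime P))) ((l.take i ++ l.drop i).map (algebraMap B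
        (Localization.AtPrime P ⧸ (P.under R).map (algebraMap R (Localization.AtPrime P))))) := by
        rw [List.take_append_drop]; exact hreg
      rw [List.map_append, isWeaklyRegular_append_iff] at h'
      exact h'.1
    · refine (IsLocalRing.maximalIdeal.isMaximal (Localization.AtPrime P ⧸ (P.under R).map (algebraMap R (Localization.AtPrime P)))).ne_top (top_le_iff.1 ?_)
      rw [smul_eq_mul, Ideal.mul_top] at h
      rw [h, Ideal.ofList, Ideal.span_le]
      intro x hx
      obtain ⟨f, hf, rfl⟩ := List.mem_map.1 hx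
      rw [SetLike.mem_coe, mem_maximalIdeal, mem_nonunits_iff]
      intro hu
      have hu' : IsUnit (algebraMap B (Localization.AtPrime P) f) := by
        haveI : IsLocalHom (Ideal.Quotient.mk ((P.under R).map (algebraMap R (Localization.AtPrime P)))) :=
          IsLocalHom.of_surjective _ Ideal.Quotient.mk_surjective
        exact isUnit_of_map_unit (Ideal.Quotient.mk _) _ hu
      rw [IsLocalization.AtPrime.isUnit_to_map_iff _ P] at hu'
      exact hu' (hl f (List.mem_of_mem_take hf))
  have hPO : ∀ i ≤ l.length, (⟨P, hP⟩ : PrimeSpectrum B) ∈ O i := by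
    intro i hi hmem
    obtain ⟨⟨z, hz⟩, hzd, hze⟩ := hmem
    haveI := hz
    have hze' : z.comap (Ideal.Quotient.mk (J i)) = P := congrArg PrimeSpectrum.asIdeal hze
    subst hze'
    obtain ⟨a, b, ha, hb, hab⟩ := exists_dims (R := R) (J i) z
    rw [hmapJ] at hb
    have h := ringKrullDim_add_length_eq_ringKrullDim_of_isRegular _ (hreg' i hi)
    rw [hb, ha, List.length_map, List.length_take, min_eq_left hi] at h
    norm_cast at h
    apply hzd
    change fdim R (B ⧸ J i) z ≤ fdim R B (z.comap (Ideal.Quotient.mk (J i))) - i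
    omega
  have hid : l.length ≤ d := by
    obtain ⟨e⟩ := JacCrit.FlatRegular.nonempty_ringEquiv (P.under R) P (fibrePoint R B P).asIdeal (comap_fibrePoint P)
    haveI := hLreg P
    have h := ringKrullDim_add_length_eq_ringKrullDim_of_isRegular _ (hreg' l.length le_rfl)
    rw [List.length_map, List.take_length, ← ringKrullDim_eq_of_ringEquiv e,
      IsLocalization.AtPrime.ringKrullDim_eq_height (fibrePoint R B P).asIdeal
        (Localization.AtPrime (fibrePoint R B P).asIdeal),
      ← Dim.Local.coe_height_toNat (P.under R).ResidueField (fibrePoint R B P).asIdeal] at h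
    have hnn : (0 : WithBot ℕ∞) ≤ ringKrullDim ((Localization.AtPrime P ⧸ (P.under R).map (algebraMap R (Localization.AtPrime P))) ⧸
        Ideal.ofList (l.map (algebraMap B (Localization.AtPrime P ⧸ (P.under R).map (algebraMap R (Localization.AtPrime P)))))) := by
      haveI : Nontrivial ((Localization.AtPrime P ⧸ (P.under R).map (algebraMap R (Localization.AtPrime P))) ⧸
          Ideal.ofList (l.map (algebraMap B (Localization.AtPrime P ⧸ (P.under R).map (algebraMap R (Localization.AtPrime P)))))) :=
        Ideal.Quotient.nontrivial_iff.2 fun htop => (hreg' l.length le_rfl).top_ne_smul (by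
          rw [List.take_length, htop, smul_eq_mul, Ideal.mul_top])
      exact ringKrullDim_nonneg_of_nontrivial
    have h' := (le_add_of_nonneg_left hnn).trans h.le
    change _ ≤ (((fibrePoint R B P).asIdeal.height.toNat : ℕ∞) : WithBot ℕ∞) at h'
    norm_cast at h'
    exact h'.trans (Nat.le_add_right _ _)
  let U : Set (PrimeSpectrum B) :=
    (⋂ i ∈ Finset.range (l.length + 1), O i) ∩ {q | fdim R B q.asIdeal = d}
  have hU : IsOpen U := (isOpen_biInter_finset fun i _ => hO i).inter (hd.isOpen_fiber d)
  have hPU : (⟨P, hP⟩ : PrimeSpectrum B) ∈ U :=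
    ⟨Set.mem_iInter₂.2 fun i hi => hPO i (Nat.lt_succ_iff.1 (Finset.mem_range.1 hi)), rfl⟩
  obtain ⟨_, ⟨g, rfl⟩, hgP, hsub⟩ :=
    PrimeSpectrum.isTopologicalBasis_basic_opens.exists_subset_of_mem_open hPU hU
  refine ⟨g, hgP, fun q hq hgq => ?_⟩
  have hqU : (⟨q, hq⟩ : PrimeSpectrum B) ∈ U := hsub hgq
  obtain ⟨hqO, hqd⟩ := hqU
  -- the longest prefix inside the prime
  have hex : ∃ i, i ≤ l.length ∧ J i ≤ q ∧ (∀ h : i < l.length, l[i] ∉ q) := by
    let S := (Finset.range (l.length + 1)).filter fun i => J i ≤ q
    have h0 : 0 ∈ S := by simp [S, J]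
    obtain ⟨hm1, hm2⟩ := Finset.mem_filter.1 (S.max'_mem ⟨0, h0⟩)
    refine ⟨S.max' ⟨0, h0⟩, Nat.lt_succ_iff.1 (Finset.mem_range.1 hm1), hm2, fun h hmem => ?_⟩
    have : S.max' ⟨0, h0⟩ + 1 ∈ S := by
      refine Finset.mem_filter.2 ⟨Finset.mem_range.2 (by omega), ?_⟩
      change Ideal.ofList (l.take _) ≤ q
      rw [List.take_add_one, List.getElem?_eq_getElem h, Option.toList_some, Ideal.ofList_append,
        Ideal.ofList_singleton]
      exact sup_le hm2 ((Ideal.span_singleton_le_iff_mem _).2 hmem)
    exact absurd (S.le_max' _ this) (by omega)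
  obtain ⟨i, hi, hJq, hnext⟩ := hex
  -- the prefix is regular in the fibre
  haveI := hLreg q
  haveI hz : (q.map (Ideal.Quotient.mk (J i))).IsPrime :=
    Ideal.map_isPrime_of_surjective Ideal.Quotient.mk_surjective (by rwa [Ideal.mk_ker])
  have hzq : (q.map (Ideal.Quotient.mk (J i))).comap (Ideal.Quotient.mk (J i)) = q := by
    rw [Ideal.comap_map_of_surjective _ Ideal.Quotient.mk_surjective]
    exact sup_eq_left.2 (Ideal.mk_ker.le.trans hJq)
  have hzd : fdim R (B ⧸ J i) (q.map (Ideal.Quotient.mk (J i))) ≤ d - i := by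
    by_contra hlt
    exact Set.mem_iInter₂.1 hqO i (Finset.mem_range.2 (by omega))
      ⟨⟨q.map (Ideal.Quotient.mk (J i)), hz⟩, hlt, PrimeSpectrum.ext hzq⟩
  have key : ∀ (z : Ideal (B ⧸ J i)) [z.IsPrime] (q' : Ideal B) [q'.IsPrime],
      z.comap (Ideal.Quotient.mk (J i)) = q' → fdim R B q' = d → fdim R (B ⧸ J i) z ≤ d - i →
      IsWeaklyRegular (Localization.AtPrime q')
        ((l.take i).map (algebraMap B (Localization.AtPrime q'))) ∧ Module.Flat R
        (Localization.AtPrime q' ⧸ Ideal.ofList ((l.take i).map (algebraMap B (Localization.AtPrime q')))) := by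
    intro z _ q' _ e hd' hz'
    subst e
    set q' := z.comap (Ideal.Quotient.mk (J i))
    haveI := hLreg q'
    obtain ⟨a, b, ha, hb, hab⟩ := exists_dims (R := R) (J i) z
    rw [hmapJ] at hb
    set L := Localization.AtPrime q' ⧸ (q'.under R).map (algebraMap R (Localization.AtPrime q'))
    have hmem : ∀ f ∈ l.take i, f ∈ q' := fun f hf => by
      change Ideal.Quotient.mk (J i) f ∈ z
      rw [Ideal.Quotient.eq_zero_iff_mem.2 (show f ∈ J i from Ideal.subset_span hf)]
      exact zero_mem _
    have hwL : IsWeaklyRegular L ((l.take i).map (algebraMap B L)) := by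
      haveI := JacCrit.FlatRegular.isCohenMacaulayLocalRing L
      refine H20.CMRegular.isWeaklyRegular_of_supportDim_le _ ?_ L
        Depth.CM.isCohenMacaulayModule_self ?_
      · intro x hx
        obtain ⟨f, hf, rfl⟩ := List.mem_map.1 hx
        rw [mem_maximalIdeal, mem_nonunits_iff]
        intro hu
        haveI : IsLocalHom (Ideal.Quotient.mk ((q'.under R).map (algebraMap R (Localization.AtPrime q')))) :=
          IsLocalHom.of_surjective _ Ideal.Quotient.mk_surjective
        have hu' : IsUnit (algebraMap B (Localization.AtPrime q') f) := isUnit_of_map_unit (Ideal.Quotient.mk _) _ hu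
        rw [IsLocalization.AtPrime.isUnit_to_map_iff _ q'] at hu'
        exact hu' (hmem f hf)
      · rw [supportDim_quotient, Module.supportDim_self_eq_ringKrullDim, ha, hb, List.length_map,
          List.length_take, min_eq_left hi]
        norm_cast
        omega
    refine (H26.CritereReg.weaklyRegular_of_fibre q' (q'.under R) rfl (Localization.AtPrime q') (l.take i)
      hmem ?_)
    have h2 := (isWeaklyRegular_map_algebraMap_iff L L (l.take i)).1 hwL
    exact (isWeaklyRegular_map_algebraMap_iff (Localization.AtPrime q') L (l.take i)).2 h2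
  obtain ⟨hpre, hflat⟩ := key (q.map (Ideal.Quotient.mk (J i))) q hzq hqd hzd
  refine ⟨?_, fun hall => ?_⟩
  swap
  · have hil : i = l.length := le_antisymm hi (not_lt.1 fun h => hnext h (hall _ (List.getElem_mem h)))
    rwa [hil, List.take_length] at hflat
  -- beyond the prefix the ideal is the unit ideal
  refine ⟨fun j hj => ?_⟩
  rcases lt_or_ge j i with hji | hji
  · have hlt : j < ((l.take i).map (algebraMap B (Localization.AtPrime q))).length := by
      rw [List.length_map, List.length_take]; omega
    have h := hpre.regular_mod_prev j hlt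
    simp only [List.getElem_map, List.getElem_take] at h ⊢
    rw [← List.map_take, List.take_take, min_eq_left hji.le, List.map_take] at h
    exact h
  · have hjl : j < l.length := by simpa using hj
    have hil : i < l.length := lt_of_le_of_lt hji hjl
    have hu : IsUnit (algebraMap B (Localization.AtPrime q) l[i]) :=
      IsLocalization.map_units (Localization.AtPrime q) (⟨l[i], hnext hil⟩ : q.primeCompl)
    rcases eq_or_lt_of_le hji with rfl | hij
    · rw [List.getElem_map]
      exact hu.isSMulRegular _
    · have htop : Ideal.ofList ((l.map (algebraMap B (Localization.AtPrime q))).take j) = ⊤ := by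
        refine Ideal.eq_top_of_isUnit_mem _ (Ideal.subset_span ?_) hu
        rw [Set.mem_ofPred_eq, ← List.map_take]
        exact List.mem_map_of_mem (List.mem_take_iff_getElem.2 ⟨i, by omega, rfl⟩)
      haveI : Subsingleton (Localization.AtPrime q ⧸
          Ideal.ofList ((l.map (algebraMap B (Localization.AtPrime q))).take j) •
            (⊤ : Submodule (Localization.AtPrime q) (Localization.AtPrime q))) := by
        rw [Submodule.Quotient.subsingleton_iff, htop, Submodule.top_smul]
      intro x y _
      exact Subsingleton.elim x y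

end Groth.Agent.Lib.Synt92.SpreadReg
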